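import Cfsg.Agent.Lib.LevCover.Flex

/-!
# Two conjugates of a sum of companion blocks with at most one scalar
-/

set_option autoImplicit false

namespace CfsgLib.LevCover

open Matrix Polynomial

variable {F : Type*} [Field F] {ι κ : Type*} [Fintype ι] [DecidableEq ι] [Fintype κ] [DecidableEq κ]

/-- Some pair of determinants is possible. -/
def GoodEx (Y : Matrix ι ι F) (s : Multiset F) (R L : Set F) : Prop := ∃ a b : F, Good Y a b s R L

theorem Good.reindex (e : ι ≃ κ) {Y : Matrix ι ι F} {a b : F} {s : Multiset F} {R L : Set F}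
    (h : Good Y a b s R L) : Good (Matrix.reindexAlgEquiv F F e Y) a b s R L := by
  obtain ⟨g, k, hg, hk, hZ, hR, hL⟩ := h
  refine ⟨reGL e g, reGL e k, (Matrix.det_reindexAlgEquiv F F e _).trans hg,
    (Matrix.det_reindexAlgEquiv F F e _).trans hk, ?_⟩
  rw [← reindex_cj, ← reindex_cj]
  have tr : ∀ (M : Matrix ι ι F) (v : κ → F) (x : F), Matrix.reindexAlgEquiv F F e M *ᵥ v = x • v →
      M *ᵥ (v ∘ e) = x • (v ∘ e) := fun M v x h => funext fun i => by
    have := congrFun h (e i)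
    simp only [mulVec, dotProduct, Matrix.reindexAlgEquiv_apply, Matrix.reindex_apply,
      Matrix.submatrix_apply] at this
    rw [← e.sum_comp] at this
    simpa [mulVec, dotProduct] using this
  have tr' : ∀ (M : Matrix ι ι F) (v : κ → F) (x : F), v ᵥ* Matrix.reindexAlgEquiv F F e M = x • v →
      (v ∘ e) ᵥ* M = x • (v ∘ e) := fun M v x h => funext fun i => by
    have := congrFun h (e i)
    simp only [vecMul, dotProduct, Matrix.reindexAlgEquiv_apply, Matrix.reindex_apply,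
      Matrix.submatrix_apply] at this
    rw [← e.sum_comp] at this
    simpa [vecMul, dotProduct] using this
  have ne : ∀ v : κ → F, v ≠ 0 → v ∘ e ≠ 0 := fun v hv h0 => hv (funext fun k => by
    simpa using congrFun h0 (e.symm k))
  refine ⟨by rw [← map_mul]; exact hZ.reindex e, ?_, ?_⟩
  · rintro x ⟨v, hv0, hv, μ, hμ⟩
    rw [← map_mul] at hv
    exact hR x ⟨_, ne v hv0, tr _ _ _ hv, μ, tr _ _ _ hμ⟩
  · rintro x ⟨v, hv0, hv, μ, hμ⟩
    rw [← map_mul] at hv
    exact hL x ⟨_, ne v hv0, tr' _ _ _ hv, μ, tr' _ _ _ hμ⟩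

theorem GoodAll.reindex (e : ι ≃ κ) {Y : Matrix ι ι F} {s : Multiset F} {R L : Set F}
    (h : GoodAll Y s R L) : GoodAll (Matrix.reindexAlgEquiv F F e Y) s R L :=
  fun a b ha hb => (h a b ha hb).reindex e

theorem GoodEx.reindex (e : ι ≃ κ) {Y : Matrix ι ι F} {s : Multiset F} {R L : Set F}
    (h : GoodEx Y s R L) : GoodEx (Matrix.reindexAlgEquiv F F e Y) s R L := by
  obtain ⟨a, b, h⟩ := h
  exact ⟨a, b, h.reindex e⟩

theorem GoodEx.of_sim {Y Y' : Matrix ι ι F} {s : Multiset F} {R L : Set F} (h : Sim Y Y')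
    (hY : GoodEx Y s R L) : GoodEx Y' s R L := by
  obtain ⟨k, rfl⟩ := h
  obtain ⟨a, b, g, h, -, -, h3⟩ := hY
  refine ⟨_, _, g * k⁻¹, h * k⁻¹, rfl, rfl, ?_⟩
  simpa [cj_cj] using h3

theorem GoodEx.mono {Y : Matrix ι ι F} {s : Multiset F} {R L R' L' : Set F} (hR : R ⊆ R')
    (hL : L ⊆ L') : GoodEx Y s R L → GoodEx Y s R' L' :=
  fun ⟨a, b, h⟩ => ⟨a, b, h.mono hR hL⟩

theorem GoodEx.flex {Y : Matrix ι ι F} {s : Multiset F} {R L : Set F} (hY : Flex Y) :
    GoodEx Y s R L → GoodAll Y s R L := fun ⟨_, _, h⟩ => h.flex hY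

theorem GoodEx.join [Fintype F] {Y₁ : Matrix ι ι F} {Y₂ : Matrix κ κ F}
    {s₁ s₂ : Multiset F} {R₁ L₁ R₂ L₂ : Set F} (h₁ : GoodEx Y₁ s₁ R₁ L₁)
    (h₂ : GoodEx Y₂ s₂ R₂ L₂) (hs : (0 : F) ∉ s₂)
    (hd : ∀ x, x ∈ s₁ → x ∈ s₂ → x ∈ R₁ → x ∈ L₂ → False) (p : Matrix κ ι F) :
    GoodEx (fromBlocks Y₁ 0 p Y₂) (s₁ + s₂) (R₁ ∪ R₂) (L₁ ∪ (L₂ \ {x | x ∈ s₁})) := by
  obtain ⟨a, b, h₁⟩ := h₁
  obtain ⟨a', b', h₂⟩ := h₂
  exact ⟨_, _, h₁.join h₂ hs hd p⟩

theorem LCyc.card {n : ℕ} {Z : Matrix (Fin n) (Fin n) F} {s : Multiset F} (h : LCyc Z s) :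
    Multiset.card s = n := by
  have := congrArg natDegree h.1
  rw [charpoly_natDegree_eq_dim, Fintype.card_fin, rpoly,
    natDegree_multiset_prod_of_monic _ (by
      intro f hf
      obtain ⟨x, -, rfl⟩ := Multiset.mem_map.1 hf
      exact monic_X_sub_C x), Multiset.map_map] at this
  simpa using this.symm

/-- The first value of a companion piece, from its polynomial. -/
noncomputable def topF (f : F[X]) (τ : F) : F := f.coeff 0 ^ 2 / τ ^ (f.natDegree - 1)

/-- The spectrum of a companion piece, from its polynomial. -/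
noncomputable def specF (f : F[X]) (τ : F) : Multiset F :=
  topF f τ ::ₘ Multiset.replicate (f.natDegree - 1) τ

theorem det_comp_sq {d : ℕ} (c : Fin d → F) :
    (comp c).det ^ 2 = (comp c).charpoly.coeff 0 ^ 2 := by
  rw [Matrix.det_eq_sign_charpoly_coeff, mul_pow, ← pow_mul, Fintype.card_fin, mul_comm d 2, pow_mul]
  simp

theorem mem_specF {f : F[X]} {τ x : F} (h : x ∈ specF f τ) : x = topF f τ ∨ x = τ := by
  rcases Multiset.mem_cons.1 h with h | h
  · exact Or.inl h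
  · exact Or.inr (Multiset.eq_of_mem_replicate h)

theorem zero_notMem_specF {f : F[X]} {τ : F} (hf : f.coeff 0 ≠ 0) (hτ : τ ≠ 0) :
    (0 : F) ∉ specF f τ := fun h => by
  rcases mem_specF h with h | h
  · exact div_ne_zero (pow_ne_zero _ hf) (pow_ne_zero _ hτ) h.symm
  · exact hτ h.symm

theorem goodEx_piece (h3 : ∃ a : F, a ≠ 0 ∧ a ≠ 1) {d : ℕ} (c : Fin (d + 2) → F) {f : F[X]}
    (hf : (comp c).charpoly = f) (hf0 : f.coeff 0 ≠ 0) {τ : F} (hτ : τ ≠ 0)
    (hτ' : 3 ≤ f.natDegree ∨ topF f τ ≠ τ) :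
    GoodEx (comp c) (specF f τ) ({topF f τ} \ {τ}) ({τ} \ {topF f τ}) := by
  have hd : f.natDegree = d + 2 := by rw [← hf, charpoly_natDegree_eq_dim, Fintype.card_fin]
  have htop : pieceTop c τ = topF f τ := by rw [pieceTop, topF, det_comp_sq, hf, hd]; rfl
  have hspec : pieceSpec c τ = specF f τ := by rw [pieceSpec, specF, htop, hd]; rfl
  have hdet : (comp c).det ≠ 0 := fun h => hf0 (by
    have := det_comp_sq c
    rw [hf, h] at this
    simpa using this.symm)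
  have hm : 1 ≤ d ∨ pieceTop c τ ≠ τ := by
    rcases hτ' with h | h
    · exact Or.inl (by omega)
    · exact Or.inr (htop ▸ h)
  obtain ⟨a, b, h⟩ := good_piece h3 c hdet hτ hm
  rw [htop, hspec] at h
  exact ⟨a, b, h⟩

theorem Dec.coeff_ne {n : ℕ} {Y : Matrix (Fin n) (Fin n) F} {l : List F[X]} (h : Dec Y l)
    (hY : Y.det ≠ 0) : ∀ g ∈ l, g.coeff 0 ≠ 0 := by
  have key : ∀ {d : ℕ} (c : Fin d → F), (comp c).det ≠ 0 → (comp c).charpoly.coeff 0 ≠ 0 :=
    fun c hc h0 => hc (by rw [Matrix.det_eq_sign_charpoly_coeff, h0, mul_zero])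
  induction h with
  | one e c h =>
    intro g hg
    rw [List.mem_singleton] at hg
    subst hg
    refine key c ?_
    rwa [h.det_eq, Matrix.det_reindexAlgEquiv] at hY
  | step e c h' ha h ih =>
    intro g hg
    rw [h.det_eq, Matrix.det_reindexAlgEquiv, det_fromBlocks_zero₁₂] at hY
    rcases List.mem_cons.1 hg with rfl | hg
    · exact key c (right_ne_zero_of_mul hY)
    · exact ih (left_ne_zero_of_mul hY) g hg

/-- All blocks alike. -/
theorem Dec.uniform [Fintype F] (h3 : ∃ a : F, a ≠ 0 ∧ a ≠ 1) {n : ℕ}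
    {Y : Matrix (Fin n) (Fin n) F} {l : List F[X]} (h : Dec Y l) {f : F[X]} (hl : ∀ g ∈ l, g = f)
    (hf0 : f.coeff 0 ≠ 0) {τ : F} (hτ : τ ≠ 0) (hτ' : 3 ≤ f.natDegree ∨ topF f τ ≠ τ) :
    GoodEx Y (l.length • specF f τ) ({topF f τ} \ {τ}) ({τ} \ {topF f τ}) := by
  induction h with
  | one e c h =>
    simpa using ((goodEx_piece h3 c (hl _ (by simp)) hf0 hτ hτ').reindex e).of_sim h.symm
  | step e c h' ha h ih =>
    have h1 := (ih fun g hg => hl g (List.mem_cons_of_mem _ hg)).join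
      (goodEx_piece h3 c (hl _ (by simp)) hf0 hτ hτ') (zero_notMem_specF hf0 hτ)
      (fun x _ _ h1 h2 => h1.2 h2.1) 0
    rw [List.length_cons, succ_nsmul]
    exact ((h1.mono (Set.union_subset subset_rfl subset_rfl)
      (Set.union_subset subset_rfl Set.sdiff_subset)).reindex e).of_sim h.symm

theorem Dec.ne_nil {n : ℕ} {Y : Matrix (Fin n) (Fin n) F} {l : List F[X]} (h : Dec Y l) : l ≠ [] := by
  cases h <;> simp

theorem exists_tau [Fintype F] (h4 : 4 ≤ Fintype.card F) (a b : F) :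
    ∃ τ : F, τ ≠ 0 ∧ τ ≠ a ∧ τ ≠ b ∧ τ ≠ -b := by
  classical
  suffices h : ({0, a, b, -b} : Finset F).card < Fintype.card F by
    obtain ⟨τ, -, hτ⟩ := Finset.exists_mem_notMem_of_card_lt_card (t := Finset.univ)
      (s := ({0, a, b, -b} : Finset F)) (by rwa [Finset.card_univ])
    simp only [Finset.mem_insert, Finset.mem_singleton, not_or] at hτ
    exact ⟨τ, hτ⟩
  rcases Nat.lt_or_ge 4 (Fintype.card F) with h | h
  · exact lt_of_le_of_lt Finset.card_le_four h
  have hc : ((Fintype.card F : ℕ) : F) = 0 := Nat.cast_card_eq_zero F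
  rw [show Fintype.card F = 2 * 2 by omega, Nat.cast_mul] at hc
  have h2 : (2 : F) = 0 := by simpa using hc
  have hb : -b = b := by linear_combination (-b) * h2
  rw [hb, Finset.pair_eq_singleton]
  exact lt_of_le_of_lt Finset.card_le_three (by omega)

/-- What the recursion keeps. -/
def Keeps (u : F) (s : Multiset F) (R L : Set F) : Prop :=
  s ≠ 0 ∧ (0 : F) ∉ s ∧ u ∉ R ∧ ∀ y, (∀ t ∈ s, t = y) → y ∉ L

theorem keeps_piece {f : F[X]} {τ u : F} (hf : f.coeff 0 ≠ 0) (hτ : τ ≠ 0)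
    (hd : 2 ≤ f.natDegree) {k : ℕ} (hk : k ≠ 0) (hu : u = τ ∨ topF f τ ≠ u) :
    Keeps u (k • specF f τ) ({topF f τ} \ {τ}) ({τ} \ {topF f τ}) := by
  refine ⟨fun h => ?_, fun h => zero_notMem_specF hf hτ (Multiset.mem_of_mem_nsmul h), fun h => ?_,
    fun y hy h => ?_⟩
  · have : topF f τ ∈ k • specF f τ := Multiset.mem_nsmul.2 ⟨hk, by simp [specF]⟩
    rw [h] at this
    simp at this
  · rcases hu with rfl | hu
    · exact h.2 rfl
    · exact hu h.1.symm
  · have h1 : topF f τ = y := hy _ (Multiset.mem_nsmul.2 ⟨hk, by simp [specF]⟩)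
    exact h.2 h1.symm

/-- The recursion over the blocks. -/
theorem Dec.main [Fintype F] (h4 : 4 ≤ Fintype.card F) {n : ℕ} {Y : Matrix (Fin n) (Fin n) F}
    {l : List F[X]} (h : Dec Y l) (hl : ∀ g ∈ l, g.coeff 0 ≠ 0) {u : F} (hu : u ≠ 0) :
    ∃ s R L, GoodEx Y s R L ∧ Keeps u s R L ∧ ((∀ g ∈ l, 3 ≤ g.natDegree) → L ⊆ {u}) := by
  have h3 : ∃ a : F, a ≠ 0 ∧ a ≠ 1 := by
    obtain ⟨τ, h0, h1, -⟩ := exists_tau h4 1 1
    exact ⟨τ, h0, h1⟩
  have low : ∀ {n : ℕ} {Y : Matrix (Fin n) (Fin n) F} {l : List F[X]} {f : F[X]}, Dec Y l →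
      (∀ g ∈ l, g = f) → f.coeff 0 ≠ 0 → f.natDegree = 2 →
      ∃ s R L, GoodEx Y s R L ∧ Keeps u s R L ∧ ((∀ g ∈ l, 3 ≤ g.natDegree) → L ⊆ {u}) := by
    intro n Y l f h hall hf0 hd
    have vac : ∀ L : Set F, (∀ g ∈ l, 3 ≤ g.natDegree) → L ⊆ {u} := fun L h' => by
      obtain ⟨g, hg⟩ := List.exists_mem_of_ne_nil l h.ne_nil
      have := h' g hg
      rw [hall g hg] at this
      omega
    have hk : l.length ≠ 0 := by simpa using h.ne_nil
    by_cases he : topF f u = u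
    · obtain ⟨τ, hτ0, -, hτu, hτu'⟩ := exists_tau h4 0 u
      have hc : f.coeff 0 ^ 2 = u * u := by
        rw [topF, hd, show 2 - 1 = 1 from rfl, pow_one, div_eq_iff hu] at he
        exact he
      have htop : topF f τ = u * u / τ := by rw [topF, hd, hc, show 2 - 1 = 1 from rfl, pow_one]
      have hne : topF f τ ≠ τ := fun e => by
        rw [htop, div_eq_iff hτ0, eq_comm, mul_self_eq_mul_self_iff] at e
        exact e.elim hτu hτu'
      refine ⟨_, _, _, h.uniform h3 hall hf0 hτ0 (Or.inr hne), keeps_piece hf0 hτ0 (by omega) hk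
        (Or.inr fun e => hτu ?_), vac _⟩
      rw [htop, div_eq_iff hτ0] at e
      exact (mul_left_cancel₀ hu e).symm
    · exact ⟨_, _, _, h.uniform h3 hall hf0 hu (Or.inr he), keeps_piece hf0 hu (by omega) hk (Or.inl rfl),
        vac _⟩
  induction h with
  | one e c h =>
    rename_i k d Y
    have hf0 := hl _ (List.mem_singleton_self _)
    have hd : (comp c).charpoly.natDegree = d + 2 := by rw [charpoly_natDegree_eq_dim, Fintype.card_fin]
    by_cases hd2 : (comp c).charpoly.natDegree = 2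
    · exact low (Dec.one e c h) (fun g hg => List.mem_singleton.1 hg) hf0 hd2
    refine ⟨_, _, _, ((Dec.one e c h).uniform h3 (fun g hg => List.mem_singleton.1 hg) hf0 hu
      (Or.inl (by omega))), keeps_piece hf0 hu (by omega) (by simp) (Or.inl rfl),
      fun _ => Set.sdiff_subset⟩
  | step e c h' ha h ih =>
    rename_i k m d Y Y' l
    have hf0 := hl _ (List.mem_cons_self ..)
    have hd : (comp c).charpoly.natDegree = d + 2 := by rw [charpoly_natDegree_eq_dim, Fintype.card_fin]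
    by_cases hd2 : (comp c).charpoly.natDegree = 2
    · refine low (Dec.step e c h' ha h) (fun g hg => ?_) hf0 hd2
      rcases List.mem_cons.1 hg with hg | hg
      · exact hg
      · obtain ⟨-, h2, h3'⟩ := h'.mem_facts g hg
        exact (h3' _ ha).1 (charpoly_monic _) (by omega)
    obtain ⟨s, R, L, hG, ⟨hs0, hs, hR, hc'⟩, hL⟩ := ih fun g hg => hl g (List.mem_cons_of_mem _ hg)
    have h1 := hG.join (goodEx_piece h3 c rfl hf0 hu (Or.inl (by omega))) (zero_notMem_specF hf0 hu)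
      (fun x _ _ h1 h2 => hR (h2.1 ▸ h1)) 0
    refine ⟨_, _, _, (h1.reindex e).of_sim h.symm, ⟨?_, ?_, ?_, fun y hy => ?_⟩, fun h3' => ?_⟩
    · simpa [hs0] using fun h : s = 0 => absurd h hs0
    · simp [hs, zero_notMem_specF hf0 hu]
    · simp [hR]
    · have hy' : ∀ t ∈ s, t = y := fun t ht => hy t (Multiset.mem_add.2 (Or.inl ht))
      obtain ⟨t, ht⟩ := Multiset.exists_mem_of_ne_zero hs0
      have hys : y ∈ s := hy' t ht ▸ ht
      simp [hc' y hy', hys]
    · refine Set.union_subset (hL fun g hg => h3' g (List.mem_cons_of_mem _ hg)) ?_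
      exact Set.sdiff_subset.trans Set.sdiff_subset

/-- One scalar besides the blocks. -/
theorem goodAll_one_scalar [Fintype F] (h4 : 4 ≤ Fintype.card F) {m n : ℕ}
    {Y' : Matrix (Fin m) (Fin m) F} {l : List F[X]} (h : Dec Y' l) (hl : ∀ g ∈ l, g.coeff 0 ≠ 0)
    {t : F} (ht : t ≠ 0) (e : Fin m ⊕ Fin 1 ≃ Fin n) {Y : Matrix (Fin n) (Fin n) F}
    (hY : Sim Y (Matrix.reindexAlgEquiv F F e (fromBlocks Y' 0 0 (t • 1)))) :
    ∃ (s : Multiset F) (L : Set F), GoodAll Y s Set.univ L ∧ (0 : F) ∉ s ∧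
      ((∀ x ∈ s, x = t * t) → t * t ∉ L) := by
  obtain ⟨s, R, L, ⟨a, b, hG⟩, ⟨hs0, hs, hR, hc'⟩, -⟩ := h.main h4 hl (mul_ne_zero ht ht)
  have h0 : (0 : F) ∉ ({t * t} : Multiset F) := by simpa using (mul_ne_zero ht ht).symm
  have h1 : GoodAll (fromBlocks Y' 0 0 (single1 t)) _ _ _ :=
    GoodAll.join_right hG (goodAll_single t) h0 (fun x _ _ h1 h2 => hR (h2 ▸ h1)) 0
  refine ⟨s + {t * t}, L ∪ ({t * t} \ {x | x ∈ s}),
    (((h1.reindex e).of_sim hY.symm).mono (Set.subset_univ _) subset_rfl), ?_, fun hall => ?_⟩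
  · simp [hs, ht]
  · have hy' : ∀ x ∈ s, x = t * t := fun x hx => hall x (Multiset.mem_add.2 (Or.inl hx))
    obtain ⟨x, hx⟩ := Multiset.exists_mem_of_ne_zero hs0
    have hys : t * t ∈ s := hy' x hx ▸ hx
    simp [hc' _ hy', hys]

theorem comp_eigen_line {d : ℕ} (c : Fin (d + 1) → F) (x : F) :
    ∃ w : Fin (d + 1) → F, ∀ v, comp c *ᵥ v = x • v → ∃ t : F, v = t • w := by
  have hzero : ∀ v : Fin (d + 1) → F, comp c *ᵥ v = x • v → v (Fin.last d) = 0 → v = 0 := by
    intro v hv h0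
    have main : ∀ k : ℕ, ∀ j : Fin (d + 1), (j : ℕ) + k = d → v j = 0 := by
      intro k
      induction k with
      | zero => intro j hj; rw [show j = Fin.last d from Fin.ext (by simpa using hj)]; exact h0
      | succ k ih =>
        intro j hj
        have hj1 : (j : ℕ) + 1 < d + 1 := by omega
        have e := congrFun hv ⟨(j : ℕ) + 1, hj1⟩
        rw [Pi.smul_apply, ih ⟨(j : ℕ) + 1, hj1⟩ (by simp; omega), smul_zero] at e
        simp only [mulVec, dotProduct] at e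
        rw [Finset.sum_eq_single j] at e
        · simpa [comp, show (j : ℕ) < d by omega] using e
        · intro b _ hb
          by_cases hb' : b = Fin.last d
          · rw [hb', h0, mul_zero]
          · have := Fin.val_lt_last hb'
            simp [comp, show (b : ℕ) < d by omega, show (j : ℕ) ≠ (b : ℕ) from fun e => hb (Fin.ext e.symm)]
        · simp
    funext j
    exact main (d - j) j (by omega)
  by_cases h : ∃ v, comp c *ᵥ v = x • v ∧ v (Fin.last d) ≠ 0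
  · obtain ⟨w, hw, hw0⟩ := h
    refine ⟨w, fun v hv => ⟨v (Fin.last d) / w (Fin.last d), sub_eq_zero.1 (hzero _ ?_ ?_)⟩⟩
    · rw [mulVec_sub, mulVec_smul, hv, hw, smul_sub, smul_comm]
    · simp [hw0]
  · push Not at h
    exact ⟨0, fun v hv => ⟨0, by simp [hzero v hv (h v hv)]⟩⟩

/-- A scalar linked to a cubic block avoiding a common eigenvector. -/
theorem good_single_cubic {c : Fin 3 → F} {a b t : F} {s : Multiset F}
    {R L : Set F} (h : Good (comp c) a b s R L) (ht : t ≠ 0) (hts : t * t ∉ s) :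
    ∃ a' b' L', Good (fromBlocks (single1 t) 0 0 (comp c)) a' b' ({t * t} + s) R L' := by
  obtain ⟨g, k, hg, hk, hZ, hR, -⟩ := h
  set X₂ := cj g (comp c)
  set M₂ := cj k (comp c)
  obtain ⟨w₁, hw₁⟩ := comp_eigen_line c t
  let w₂ := w₁
  obtain ⟨U, hU⟩ : ∃ U : Fin 3 → F, U ∉ Submodule.span F
      ({(g : Matrix (Fin 3) (Fin 3) F) *ᵥ w₁, (k : Matrix (Fin 3) (Fin 3) F) *ᵥ w₂} : Set (Fin 3 → F)) := by
    by_contra hall
    push Not at hall
    have h1 := Submodule.finrank_mono (fun x (_ : x ∈ (⊤ : Submodule F (Fin 3 → F))) => hall x)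
    have h3 := h1.trans (span_pair_finrank (n := 2) _ _)
    rw [finrank_top, Module.finrank_fin_fun] at h3
    omega
  let Um : Matrix (Fin 3) (Fin 1) F := Matrix.of fun i _ => U i
  let Z₁ : Matrix (Fin 1) (Fin 1) F := single1 t * single1 t
  set M := fromBlocks (single1 t) 0 (Um * single1 t - M₂ * Um) M₂ with hM
  have hX : cj (diagGL 1 g) (fromBlocks (single1 t) 0 0 (comp c)) = fromBlocks (single1 t) 0 0 X₂ := by
    rw [cj_diagGL, cj_one]; simp [X₂]
  have hMeq : cj (uniGL Um * diagGL 1 k) (fromBlocks (single1 t) 0 0 (comp c)) = M := by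
    rw [← cj_cj, cj_diagGL, cj_uniGL, cj_one]
    simp [hM, M₂]
  refine ⟨_, _, Set.univ, diagGL 1 g, uniGL Um * diagGL 1 k, rfl, rfl, ?_⟩
  rw [hX, hMeq]
  have hprod : fromBlocks (single1 t) 0 0 X₂ * M =
      fromBlocks Z₁ 0 (X₂ * (Um * single1 t - M₂ * Um)) (X₂ * M₂) := by
    rw [hM, fromBlocks_multiply]; simp [Z₁]
  have hZ₁ : LCyc Z₁ {t * t} := by
    obtain ⟨g', k', -, -, h', -⟩ := goodAll_single t 1 1 one_ne_zero one_ne_zero
    rwa [show cj g' (single1 t) = single1 t from cj_smul_one g' t,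
      show cj k' (single1 t) = single1 t from cj_smul_one k' t] at h'
  obtain ⟨hlc, -⟩ := lcyc_join (S := X₂ * (Um * single1 t - M₂ * Um)) hZ₁ hZ fun x hx hxs =>
    absurd (Multiset.mem_singleton.1 hx ▸ hxs) hts
  refine ⟨hprod ▸ hlc, ?_, fun _ _ => Set.mem_univ _⟩
  rintro x ⟨v, hv0, hv, μ, hμ⟩
  rw [hprod, fromBlocks_mulVec] at hv
  rw [hM, fromBlocks_mulVec] at hμ
  obtain ⟨v₁, v₂, rfl⟩ : ∃ v₁ v₂, v = Sum.elim v₁ v₂ := ⟨_, _, (Sum.elim_comp_inl_inr v).symm⟩
  simp only [Sum.elim_comp_inl, Sum.elim_comp_inr, zero_mulVec, add_zero] at hv hμ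
  have ev1 : Z₁ *ᵥ v₁ = x • v₁ := funext fun i => congrFun hv (Sum.inl i)
  have ev2 : (X₂ * (Um * single1 t - M₂ * Um)) *ᵥ v₁ + (X₂ * M₂) *ᵥ v₂ = x • v₂ :=
    funext fun i => congrFun hv (Sum.inr i)
  have em1 : single1 t *ᵥ v₁ = μ • v₁ := funext fun i => congrFun hμ (Sum.inl i)
  have em2 : (Um * single1 t - M₂ * Um) *ᵥ v₁ + M₂ *ᵥ v₂ = μ • v₂ :=
    funext fun i => congrFun hμ (Sum.inr i)
  by_cases h1 : v₁ = 0
  · subst h1
    simp only [mulVec_zero, zero_add] at ev2 em2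
    exact hR x ⟨v₂, fun h2 => hv0 (by rw [h2]; ext (i | i) <;> rfl), ev2, μ, em2⟩
  exfalso
  have hv00 : v₁ 0 ≠ 0 := fun h0 => h1 (funext fun i => by rw [Fin.fin_one_eq_zero i, h0]; rfl)
  have hμt : μ = t := by
    have := congrFun em1 0
    simp [single1, smul_mulVec] at this
    exact (this.resolve_right hv00).symm
  have hxt : x = t * t := by
    have := congrFun ev1 0
    simp [Z₁, single1, smul_smul, smul_mulVec] at this
    exact (this.resolve_right hv00).symm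
  subst hμt hxt
  -- the eigenvector splits between the two eigenlines
  have hX2 : X₂ *ᵥ v₂ = μ • v₂ := by
    have e : X₂ *ᵥ (μ • v₂) = (μ * μ) • v₂ := by
      rw [← em2, mulVec_add, mulVec_mulVec, mulVec_mulVec]; exact ev2
    rw [mulVec_smul, ← smul_smul] at e
    exact smul_right_injective _ ht e
  have hUv : (Um * single1 μ - M₂ * Um) *ᵥ v₁ = v₁ 0 • (μ • U - M₂ *ᵥ U) := by
    funext i
    simp [Um, single1, sub_mulVec, mulVec, dotProduct, Matrix.mul_apply, Matrix.one_apply,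
      Fin.sum_univ_three]
    ring
  have hM2 : M₂ *ᵥ (v₂ - v₁ 0 • U) = μ • (v₂ - v₁ 0 • U) := by
    rw [hUv] at em2
    rw [mulVec_sub, mulVec_smul]
    linear_combination (norm := module) em2
  have lineOf : ∀ (g : GL (Fin 3) F) (v : Fin 3 → F), cj g (comp c) *ᵥ v = μ • v →
      ∃ r : F, v = r • ((g : Matrix (Fin 3) (Fin 3) F) *ᵥ w₁) := by
    intro g v hv
    obtain ⟨r, hr⟩ := hw₁ (((g⁻¹ : GL (Fin 3) F) : Matrix (Fin 3) (Fin 3) F) *ᵥ v) (by
      rw [← mulVec_smul, ← hv, cj, mulVec_mulVec, mulVec_mulVec, ← mul_assoc, ← mul_assoc,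
        ← Units.val_mul, inv_mul_cancel, Units.val_one, one_mul])
    exact ⟨r, by rw [← mulVec_smul, ← hr, mulVec_inv_cancel]⟩
  obtain ⟨r, hr⟩ := lineOf g v₂ hX2
  obtain ⟨r', hr'⟩ := lineOf k _ hM2
  refine hU (Submodule.mem_span_pair.2 ⟨(v₁ 0)⁻¹ * r, -((v₁ 0)⁻¹ * r'), ?_⟩)
  rw [neg_smul, ← sub_eq_add_neg, ← smul_smul, ← smul_smul, ← hr, ← hr', ← smul_sub,
    sub_sub_cancel, smul_smul, inv_mul_cancel₀ hv00, one_smul]

/-- A cubic block between two equal scalars. -/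
theorem goodAll_cubic [Fintype F] (h4 : 4 ≤ Fintype.card F) {c : Fin 3 → F}
    (hc : (comp c).det ≠ 0) {t : F} (ht : t ≠ 0) :
    ∃ s : Multiset F, GoodAll (fromBlocks (fromBlocks (single1 t) 0 0 (comp c)) 0 0 (single1 t)) s
      Set.univ Set.univ ∧ (0 : F) ∉ s ∧ ¬ ∀ x ∈ s, x = t * t := by
  have h3 : ∃ a : F, a ≠ 0 ∧ a ≠ 1 := by
    obtain ⟨τ, h0, h1, -⟩ := exists_tau h4 1 1
    exact ⟨τ, h0, h1⟩
  set f := (comp c).charpoly with hf
  have hd : f.natDegree = 3 := by rw [hf, charpoly_natDegree_eq_dim, Fintype.card_fin]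
  have hf0 : f.coeff 0 ≠ 0 := fun h0 => hc (by rw [Matrix.det_eq_sign_charpoly_coeff, ← hf, h0, mul_zero])
  obtain ⟨τ, hτ0, hτt, hτe, hτe'⟩ := exists_tau h4 (t * t) (f.coeff 0 / t)
  have htop : topF f τ ≠ t * t := fun e => by
    rw [topF, hd, show 3 - 1 = 2 from rfl, div_eq_iff (pow_ne_zero _ hτ0)] at e
    have e' : f.coeff 0 * f.coeff 0 = (t * τ) * (t * τ) := by linear_combination e
    rcases mul_self_eq_mul_self_iff.1 e' with e' | e'
    · exact hτe (by rw [e', mul_div_cancel_left₀ _ ht])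
    · exact hτe' (by rw [e', neg_div, mul_div_cancel_left₀ _ ht, neg_neg])
  obtain ⟨a, b, hG⟩ := goodEx_piece h3 c hf.symm hf0 hτ0 (Or.inl (by omega))
  have hts : t * t ∉ specF f τ := fun h => (mem_specF h).elim (fun e => htop e.symm) (fun e => hτt e.symm)
  obtain ⟨a', b', L', hG'⟩ := good_single_cubic hG ht hts
  have h0 : (0 : F) ∉ ({t * t} : Multiset F) := by simpa using (mul_ne_zero ht ht).symm
  have h1 := GoodAll.join_right hG' (goodAll_single t) h0
    (fun x _ _ h1 h2 => htop ((Set.mem_singleton_iff.1 h1.1).symm.trans h2)) 0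
  refine ⟨_, h1.mono (Set.subset_univ _) (Set.subset_univ _), ?_, fun hall => hτt ?_⟩
  · simp [ht, zero_notMem_specF hf0 hτ0]
  · exact hall τ (by simp [specF, hd])

end CfsgLib.LevCover
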