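import Mathlib

/-!
# Products of conjugates of a matrix

Vocabulary for the covering number of the projective special linear group.
-/

set_option autoImplicit false

namespace CfsgLib.LevCover

open Matrix

variable {F : Type*} [Field F] {ι κ : Type*} [Fintype ι] [DecidableEq ι] [Fintype κ] [DecidableEq κ]

/-- The conjugate of a matrix by a unit. -/
def cj (g : GL ι F) (Y : Matrix ι ι F) : Matrix ι ι F :=
  (g : Matrix ι ι F) * Y * ((g⁻¹ : GL ι F) : Matrix ι ι F)

theorem cj_one (Y : Matrix ι ι F) : cj 1 Y = Y := by simp [cj]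

theorem cj_cj (g h : GL ι F) (Y : Matrix ι ι F) : cj g (cj h Y) = cj (g * h) Y := by
  simp [cj, _root_.mul_inv_rev, mul_assoc]

theorem cj_mul (g : GL ι F) (A B : Matrix ι ι F) : cj g (A * B) = cj g A * cj g B := by
  simp [cj, mul_assoc]

theorem cj_det (g : GL ι F) (Y : Matrix ι ι F) : (cj g Y).det = Y.det := by
  rw [cj, Matrix.det_units_conj]

theorem cj_smul_one (g : GL ι F) (c : F) :
    cj g (c • (1 : Matrix ι ι F)) = c • (1 : Matrix ι ι F) := by
  simp [cj]

theorem cj_eq_iff (g : GL ι F) (A B : Matrix ι ι F) :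
    cj g A = B ↔ (g : Matrix ι ι F) * A = B * (g : Matrix ι ι F) := by
  constructor
  · rintro rfl
    simp [cj, mul_assoc]
  · intro h
    simp [cj, h, mul_assoc]

theorem cj_injective (g : GL ι F) : Function.Injective (cj (F := F) g) := fun A B h => by
  have := congrArg (cj g⁻¹) h
  rwa [cj_cj, cj_cj, inv_mul_cancel, cj_one, cj_one] at this

/-- Similarity. -/
def Sim (A B : Matrix ι ι F) : Prop := ∃ g : GL ι F, cj g A = B

theorem Sim.refl (A : Matrix ι ι F) : Sim A A := ⟨1, cj_one A⟩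

theorem Sim.symm {A B : Matrix ι ι F} : Sim A B → Sim B A := by
  rintro ⟨g, rfl⟩
  exact ⟨g⁻¹, by rw [cj_cj, inv_mul_cancel, cj_one]⟩

theorem Sim.trans {A B C : Matrix ι ι F} : Sim A B → Sim B C → Sim A C := by
  rintro ⟨g, rfl⟩ ⟨h, rfl⟩
  exact ⟨h * g, (cj_cj h g A).symm⟩

theorem Sim.det_eq {A B : Matrix ι ι F} : Sim A B → A.det = B.det := by
  rintro ⟨g, rfl⟩
  exact (cj_det g A).symm

/-- A matrix is scalar. -/
def IsScal (A : Matrix ι ι F) : Prop := ∃ c : F, A = c • (1 : Matrix ι ι F)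

theorem IsScal.of_sim {A B : Matrix ι ι F} (h : Sim A B) : IsScal A → IsScal B := by
  rintro ⟨c, rfl⟩
  obtain ⟨g, rfl⟩ := h
  exact ⟨c, cj_smul_one g c⟩

/-- A unit with the given matrix. -/
noncomputable def mkGL (P : Matrix ι ι F) (h : P.det ≠ 0) : GL ι F :=
  Matrix.GeneralLinearGroup.mkOfDetNeZero P h

@[simp] theorem coe_mkGL (P : Matrix ι ι F) (h : P.det ≠ 0) : (mkGL P h : Matrix ι ι F) = P := rfl

theorem gl_det_ne_zero (g : GL ι F) : (g : Matrix ι ι F).det ≠ 0 :=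
  (Matrix.GeneralLinearGroup.det g).ne_zero

theorem sim_of_mul_eq {A B P : Matrix ι ι F} (h : P.det ≠ 0) (he : P * A = B * P) : Sim A B :=
  ⟨mkGL P h, (cj_eq_iff _ _ _).2 he⟩

/-- `A` is a product of `k` conjugates of `Y`. -/
def GProd (Y : Matrix ι ι F) (k : ℕ) (A : Matrix ι ι F) : Prop :=
  ∃ g : Fin k → GL ι F, A = (List.ofFn fun i => cj (g i) Y).prod

/-- `A` is a product of `k` conjugates of `Y` under the special linear group. -/
def SProd (Y : Matrix ι ι F) (k : ℕ) (A : Matrix ι ι F) : Prop :=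
  ∃ g : Fin k → GL ι F, (∀ i, (g i : Matrix ι ι F).det = 1) ∧
    A = (List.ofFn fun i => cj (g i) Y).prod

/-- The centraliser of `Y` has all determinants. -/
def Flex (Y : Matrix ι ι F) : Prop :=
  ∀ d : F, d ≠ 0 → ∃ c : GL ι F, (c : Matrix ι ι F).det = d ∧ cj c Y = Y

theorem SProd.gprod {Y A : Matrix ι ι F} {k : ℕ} : SProd Y k A → GProd Y k A :=
  fun ⟨g, _, h⟩ => ⟨g, h⟩

theorem GProd.sprod {Y A : Matrix ι ι F} {k : ℕ} (hY : Flex Y) : GProd Y k A → SProd Y k A := by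
  rintro ⟨g, rfl⟩
  choose c hc1 hc2 using fun i => hY ((g i : Matrix ι ι F).det)⁻¹
    (inv_ne_zero (gl_det_ne_zero (g i)))
  refine ⟨fun i => g i * c i, fun i => ?_, ?_⟩
  · rw [Units.val_mul, det_mul, hc1, mul_inv_cancel₀ (gl_det_ne_zero (g i))]
  · simp only [← cj_cj, hc2]

theorem list_cj (h : GL ι F) (L : List (Matrix ι ι F)) :
    cj h L.prod = (L.map (cj h)).prod := by
  induction L with
  | nil => simp [cj]
  | cons a t ih => rw [List.prod_cons, cj_mul, ih, List.map_cons, List.prod_cons]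

theorem GProd.cj {Y A : Matrix ι ι F} {k : ℕ} (h : GL ι F) :
    GProd Y k A → GProd Y k (CfsgLib.LevCover.cj h A) := by
  rintro ⟨g, rfl⟩
  refine ⟨fun i => h * g i, ?_⟩
  rw [list_cj, List.map_ofFn]
  simp [Function.comp_def, cj_cj]

theorem GProd.of_sim {Y A B : Matrix ι ι F} {k : ℕ} (h : Sim A B) : GProd Y k A → GProd Y k B := by
  obtain ⟨g, rfl⟩ := h
  exact GProd.cj g

theorem GProd.base_sim {Y Y' A : Matrix ι ι F} {k : ℕ} (h : Sim Y Y') :
    GProd Y k A → GProd Y' k A := by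
  obtain ⟨c, rfl⟩ := h
  rintro ⟨g, rfl⟩
  exact ⟨fun i => g i * c⁻¹, by simp [cj_cj]⟩

theorem SProd.base_cj {Y A : Matrix ι ι F} {k : ℕ} (c : GL ι F) :
    SProd Y k A → SProd (CfsgLib.LevCover.cj c Y) k (CfsgLib.LevCover.cj c A) := by
  rintro ⟨g, hg, rfl⟩
  refine ⟨fun i => c * g i * c⁻¹, fun i => ?_, ?_⟩
  · rw [Units.val_mul, Units.val_mul, Matrix.det_units_conj, hg]
  · rw [list_cj, List.map_ofFn]
    simp [Function.comp_def, cj_cj, mul_assoc]

theorem GProd.mul {Y A B : Matrix ι ι F} {k l : ℕ} :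
    GProd Y k A → GProd Y l B → GProd Y (k + l) (A * B) := by
  rintro ⟨g, rfl⟩ ⟨g', rfl⟩
  refine ⟨Fin.append g g', ?_⟩
  rw [← List.prod_append, ← List.ofFn_fin_append]
  congr 1
  congr 1
  funext i
  refine Fin.addCases (fun i => ?_) (fun i => ?_) i <;> simp

theorem SProd.mul {Y A B : Matrix ι ι F} {k l : ℕ} :
    SProd Y k A → SProd Y l B → SProd Y (k + l) (A * B) := by
  rintro ⟨g, hg, rfl⟩ ⟨g', hg', rfl⟩
  refine ⟨Fin.append g g', fun i => ?_, ?_⟩
  · refine Fin.addCases (fun i => ?_) (fun i => ?_) i <;> simp [hg, hg']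
  · rw [← List.prod_append, ← List.ofFn_fin_append]
    congr 1
    congr 1
    funext i
    refine Fin.addCases (fun i => ?_) (fun i => ?_) i <;> simp

theorem sprod_one (Y : Matrix ι ι F) (g : GL ι F) (hg : (g : Matrix ι ι F).det = 1) :
    SProd Y 1 (cj g Y) := ⟨fun _ => g, fun _ => hg, by simp⟩

theorem gprod_one (Y : Matrix ι ι F) (g : GL ι F) : GProd Y 1 (cj g Y) := ⟨fun _ => g, by simp⟩

theorem GProd.det {Y A : Matrix ι ι F} {k : ℕ} : GProd Y k A → A.det = Y.det ^ k := by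
  rintro ⟨g, rfl⟩
  rw [← Matrix.coe_detMonoidHom, map_list_prod, List.map_ofFn, List.prod_ofFn]
  simp [cj_det]

/-- The transport of a unit along a reindexing. -/
noncomputable def reGL (e : ι ≃ κ) (g : GL ι F) : GL κ F :=
  Units.map (Matrix.reindexAlgEquiv F F e).toRingEquiv.toMonoidHom g

theorem reindex_cj (e : ι ≃ κ) (g : GL ι F) (Y : Matrix ι ι F) :
    Matrix.reindexAlgEquiv F F e (cj g Y) = cj (reGL e g) (Matrix.reindexAlgEquiv F F e Y) := by
  simp only [cj, map_mul]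
  rfl

theorem Sim.reindex (e : ι ≃ κ) {A B : Matrix ι ι F} :
    Sim A B → Sim (Matrix.reindexAlgEquiv F F e A) (Matrix.reindexAlgEquiv F F e B) := by
  rintro ⟨g, rfl⟩
  exact ⟨reGL e g, (reindex_cj e g A).symm⟩

theorem GProd.reindex (e : ι ≃ κ) {Y A : Matrix ι ι F} {k : ℕ} :
    GProd Y k A →
      GProd (Matrix.reindexAlgEquiv F F e Y) k (Matrix.reindexAlgEquiv F F e A) := by
  rintro ⟨g, rfl⟩
  refine ⟨fun i => reGL e (g i), ?_⟩
  rw [map_list_prod, List.map_ofFn]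
  simp only [Function.comp_def, reindex_cj]

theorem SProd.reindex (e : ι ≃ κ) {Y A : Matrix ι ι F} {k : ℕ} :
    SProd Y k A →
      SProd (Matrix.reindexAlgEquiv F F e Y) k (Matrix.reindexAlgEquiv F F e A) := by
  rintro ⟨g, hg, rfl⟩
  refine ⟨fun i => reGL e (g i), fun i => ?_, ?_⟩
  · exact (Matrix.det_reindexAlgEquiv F F e _).trans (hg i)
  · rw [map_list_prod, List.map_ofFn]
    simp only [Function.comp_def, reindex_cj]

end CfsgLib.LevCover
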