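import Cfsg.Agent.Lib.LevCover.Basic

/-!
# Matrices bordered by one row and one column
-/

set_option autoImplicit false

namespace CfsgLib.LevCover

open Matrix

variable {F : Type*} [Field F] {ι : Type*} [Fintype ι] [DecidableEq ι]

/-- The matrix with corner `a`, first row `r`, first column `c` and remainder `A`. -/
def blk (a : F) (r c : ι → F) (A : Matrix ι ι F) : Matrix (Unit ⊕ ι) (Unit ⊕ ι) F :=
  fromBlocks (of fun _ _ => a) (of fun _ j => r j) (of fun i _ => c i) A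

omit [Fintype ι] [DecidableEq ι] in
theorem eq_blk (M : Matrix (Unit ⊕ ι) (Unit ⊕ ι) F) :
    M = blk (M (Sum.inl ()) (Sum.inl ())) (fun j => M (Sum.inl ()) (Sum.inr j))
      (fun i => M (Sum.inr i) (Sum.inl ())) (M.toBlocks₂₂) := by
  ext (i | i) (j | j) <;> rfl

omit [Fintype ι] [DecidableEq ι] in
theorem blk_inj {a a' : F} {r r' c c' : ι → F} {A A' : Matrix ι ι F}
    (h : blk a r c A = blk a' r' c' A') : a = a' ∧ r = r' ∧ c = c' ∧ A = A' := by
  refine ⟨?_, ?_, ?_, ?_⟩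
  · exact congrFun (congrFun h (Sum.inl ())) (Sum.inl ())
  · exact funext fun j => congrFun (congrFun h (Sum.inl ())) (Sum.inr j)
  · exact funext fun i => congrFun (congrFun h (Sum.inr i)) (Sum.inl ())
  · exact Matrix.ext fun i j => congrFun (congrFun h (Sum.inr i)) (Sum.inr j)

omit [DecidableEq ι] in
theorem blk_mul (a a' : F) (r r' c c' : ι → F) (A A' : Matrix ι ι F) :
    blk a r c A * blk a' r' c' A' =
      blk (a * a' + r ⬝ᵥ c') (a • r' + r ᵥ* A') (a' • c + A *ᵥ c')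
        (vecMulVec c r' + A * A') := by
  ext (i | i) (j | j) <;>
    simp [blk, Matrix.mul_apply, Fintype.sum_sum_type, dotProduct, vecMul, mulVec, vecMulVec,
      mul_comm]

omit [Fintype ι] in
theorem blk_one : blk (1 : F) 0 0 (1 : Matrix ι ι F) = 1 := by
  ext (i | i) (j | j) <;> simp [blk, Matrix.one_apply]

omit [Fintype ι] in
theorem smul_one_blk (μ : F) :
    μ • (1 : Matrix (Unit ⊕ ι) (Unit ⊕ ι) F) = blk μ 0 0 (μ • (1 : Matrix ι ι F)) := by
  ext (i | i) (j | j) <;> simp [blk, Matrix.one_apply]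

omit [DecidableEq ι] in
theorem blk_upper_mul (a a' : F) (r r' : ι → F) (A A' : Matrix ι ι F) :
    blk a r 0 A * blk a' r' 0 A' = blk (a * a') (a • r' + r ᵥ* A') 0 (A * A') := by
  rw [blk_mul]
  congr 1
  · simp
  · simp
  · simp [zero_vecMulVec]

theorem det_blk_upper (a : F) (r : ι → F) (A : Matrix ι ι F) :
    (blk a r 0 A).det = a * A.det := by
  have h0 : (of fun (i : ι) (_ : Unit) => (0 : ι → F) i) = 0 := by ext; simp
  rw [blk, h0, det_fromBlocks_zero₂₁, Matrix.det_unique]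
  rfl

theorem det_blk (a : F) (ha : a ≠ 0) (r c : ι → F) (A : Matrix ι ι F) :
    (blk a r c A).det = a * (A - a⁻¹ • vecMulVec c r).det := by
  have h : blk a r c A = blk 1 0 (a⁻¹ • c) 1 * blk a r 0 (A - a⁻¹ • vecMulVec c r) := by
    rw [blk_mul]
    congr 1
    · simp
    · simp
    · simp [smul_smul, mul_inv_cancel₀ ha]
    · rw [one_mul, smul_vecMulVec]; abel
  have h1 : (blk (1 : F) 0 (a⁻¹ • c) (1 : Matrix ι ι F)).det = 1 := by
    have hz : (of fun (_ : Unit) (j : ι) => (0 : ι → F) j) = 0 := by ext; simp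
    rw [blk, hz, det_fromBlocks_zero₁₂]
    simp
  rw [h, det_mul, h1, det_blk_upper, one_mul]

/-- The upper unipotent conjugation. -/
theorem upper_conj (x : ι → F) (a : F) (r c : ι → F) (A : Matrix ι ι F) :
    blk 1 x 0 1 * blk a r c A * blk 1 (-x) 0 1 =
      blk (a + x ⬝ᵥ c) (r + x ᵥ* A - (a + x ⬝ᵥ c) • x) c (A - vecMulVec c x) := by
  rw [blk_mul, blk_mul]
  congr 1
  · simp
  · simp [add_comm, sub_eq_add_neg]
  · simp
  · simp [vecMulVec_neg, sub_eq_neg_add]

theorem upper_inv (x : ι → F) : blk 1 x 0 1 * blk 1 (-x) 0 (1 : Matrix ι ι F) = 1 := by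
  rw [blk_upper_mul, ← blk_one]
  congr 1 <;> simp

theorem sim_upper (x : ι → F) (a : F) (r c : ι → F) (A : Matrix ι ι F) :
    Sim (blk a r c A)
      (blk (a + x ⬝ᵥ c) (r + x ᵥ* A - (a + x ⬝ᵥ c) • x) c (A - vecMulVec c x)) := by
  refine sim_of_mul_eq (P := blk 1 x 0 1) (by rw [det_blk_upper]; simp) ?_
  rw [← upper_conj, mul_assoc _ (blk 1 (-x) 0 1)]
  have h : blk 1 (-x) 0 1 * blk 1 x 0 (1 : Matrix ι ι F) = 1 := by
    simpa using upper_inv (F := F) (-x)
  rw [h, mul_one]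

omit [Fintype ι] [DecidableEq ι] in
theorem blk_diag_det [Fintype ι] [DecidableEq ι] (a : F) (A : Matrix ι ι F) :
    (blk a 0 0 A).det = a * A.det := det_blk_upper a 0 A

/-- Conjugating the remainder. -/
theorem sim_inner (Q : GL ι F) (a : F) (r c : ι → F) (A : Matrix ι ι F) :
    Sim (blk a r c A)
      (blk a (r ᵥ* ((Q⁻¹ : GL ι F) : Matrix ι ι F)) ((Q : Matrix ι ι F) *ᵥ c) (cj Q A)) := by
  refine sim_of_mul_eq (P := blk 1 0 0 (Q : Matrix ι ι F))
    (by rw [blk_diag_det, one_mul]; exact gl_det_ne_zero Q) ?_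
  rw [blk_mul, blk_mul]
  congr 1
  · simp
  · simp [vecMul_vecMul, ← Units.val_mul]
  · simp
  · simp [vecMulVec, cj, mul_assoc]

/-- A vector completed to an invertible matrix with that first column. -/
theorem exists_gl_col {κ : Type*} [Fintype κ] [DecidableEq κ] (k₀ : κ) {v : κ → F} (hv : v ≠ 0) :
    ∃ P : GL κ F, (P : Matrix κ κ F) *ᵥ Pi.single k₀ 1 = v := by
  obtain ⟨j, hj⟩ := Function.ne_iff.1 hv
  let P : Matrix κ κ F := (1 : Matrix κ κ F).updateCol j v
  have hP : P.det ≠ 0 := by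
    have : P.det = v j := by
      rw [show P.det = Matrix.cramer (1 : Matrix κ κ F) v j from (Matrix.cramer_apply _ _ _).symm]
      have h2 := Matrix.mulVec_cramer (1 : Matrix κ κ F) v
      rw [one_mulVec, det_one, one_smul] at h2
      rw [h2]
    rw [this]
    exact hj
  let S : Matrix κ κ F := (Equiv.swap j k₀).toPEquiv.toMatrix
  have hS : S.det ≠ 0 := by
    intro h
    have hmul : S * S = 1 := by
      simp only [S]
      rw [← PEquiv.toMatrix_trans, ← Equiv.toPEquiv_trans]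
      simp
    have := congrArg Matrix.det hmul
    rw [det_mul, h, zero_mul, det_one] at this
    exact zero_ne_one this
  refine ⟨mkGL P hP * mkGL S hS, ?_⟩
  rw [Units.val_mul, coe_mkGL, coe_mkGL, ← mulVec_mulVec]
  have : S *ᵥ Pi.single k₀ (1 : F) = Pi.single j 1 := by
    ext i
    simp only [S, mulVec_single_one, col_apply, PEquiv.toMatrix_apply, Pi.single_apply,
      Equiv.toPEquiv_apply, Option.mem_some_iff]
    by_cases h : i = j
    · subst h; simp
    · rw [if_neg h, if_neg]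
      intro h'
      apply h
      have := congrArg (Equiv.swap j k₀) h'
      simpa using this
  rw [this, mulVec_single_one]
  ext i
  simp [P, col_apply]

omit [DecidableEq ι] in
/-- A vector outside the eigenvectors of a non-scalar matrix. -/
theorem exists_noneig {A : Matrix ι ι F} [DecidableEq ι] (hA : ¬ IsScal A) :
    ∃ v : ι → F, v ≠ 0 ∧ ∀ μ : F, A *ᵥ v ≠ μ • v := by
  by_contra h
  push Not at h
  refine hA ?_
  obtain ⟨a, ha⟩ := LinearMap.exists_eq_smul_id_of_forall_notLinearIndependent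
    (f := Matrix.toLin' A) fun v hli => by
    have hv : v ≠ 0 := hli.ne_zero 0
    obtain ⟨μ, hμ⟩ := h v hv
    exact (LinearIndependent.pair_iff' hv).1 hli μ (by rw [Matrix.toLin'_apply, hμ])
  refine ⟨a, Matrix.toLin'.injective ?_⟩
  rw [ha, map_smul, Matrix.toLin'_one]
  rfl

/-- A non-scalar bordered form with any corner and a prescribed non-zero first column. -/
theorem exists_border {A : Matrix (Unit ⊕ ι) (Unit ⊕ ι) F} (hA : ¬ IsScal A) (a : F) {c₀ : ι → F}
    (hc₀ : c₀ ≠ 0) : ∃ r A₁, Sim A (blk a r c₀ A₁) := by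
  obtain ⟨v, hv, hAv⟩ := exists_noneig hA
  obtain ⟨P, hP⟩ := exists_gl_col (Sum.inl () : Unit ⊕ ι) hv
  set B := cj P⁻¹ A with hB
  have hsim : Sim A B := ⟨P⁻¹, rfl⟩
  have hc : (fun i => B (Sum.inr i) (Sum.inl ())) ≠ 0 := by
    intro h
    refine hAv (B (Sum.inl ()) (Sum.inl ())) ?_
    have hcol : B *ᵥ Pi.single (Sum.inl ()) 1 =
        B (Sum.inl ()) (Sum.inl ()) • Pi.single (Sum.inl ()) (1 : F) := by
      ext (i | i)
      · simp
      · simpa using congrFun h i
    have := congrArg (fun x => (P : Matrix (Unit ⊕ ι) (Unit ⊕ ι) F) *ᵥ x) hcol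
    simp only [hB, cj, inv_inv, mulVec_smul, hP] at this
    rw [mulVec_mulVec, ← mul_assoc, ← mul_assoc, ← Units.val_mul, mul_inv_cancel, Units.val_one,
      one_mul, ← mulVec_mulVec, hP] at this
    exact this
  by_cases hι : IsEmpty ι
  · exact absurd (Subsingleton.elim _ _) hc
  obtain ⟨i₀⟩ := not_isEmpty_iff.1 hι
  obtain ⟨Q, hQ⟩ := exists_gl_col i₀ hc
  obtain ⟨Q', hQ'⟩ := exists_gl_col i₀ hc₀
  have hQc : ((Q' * Q⁻¹ : GL ι F) : Matrix ι ι F) *ᵥ (fun i => B (Sum.inr i) (Sum.inl ())) = c₀ := by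
    rw [← hQ, mulVec_mulVec, ← Units.val_mul, inv_mul_cancel_right, hQ']
  have h1 := sim_inner (Q' * Q⁻¹) (B (Sum.inl ()) (Sum.inl ()))
    (fun j => B (Sum.inl ()) (Sum.inr j)) (fun i => B (Sum.inr i) (Sum.inl ())) B.toBlocks₂₂
  rw [hQc, ← eq_blk] at h1
  obtain ⟨i₁, hi₁⟩ := Function.ne_iff.1 hc₀
  have h2 := sim_upper (Pi.single i₁ ((a - B (Sum.inl ()) (Sum.inl ())) / c₀ i₁))
    (B (Sum.inl ()) (Sum.inl ()))
    ((fun j => B (Sum.inl ()) (Sum.inr j)) ᵥ* ((Q' * Q⁻¹ : GL ι F)⁻¹ : GL ι F).val)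
    c₀ (cj (Q' * Q⁻¹) B.toBlocks₂₂)
  rw [single_dotProduct, div_mul_cancel₀ _ hi₁, add_sub_cancel] at h2
  exact ⟨_, _, hsim.trans (h1.trans h2)⟩

end CfsgLib.LevCover
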