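import Cfsg.Agent.Lib.LevCover.TwoClass

/-!
# Joining blocks to a cyclic product of two conjugates
-/

set_option autoImplicit false

namespace CfsgLib.LevCover

open Matrix Polynomial

variable {F : Type*} [Field F] {ι κ : Type*} [Fintype ι] [DecidableEq ι] [Fintype κ] [DecidableEq κ]

/-- The polynomial with the given roots. -/
noncomputable def rpoly (s : Multiset F) : F[X] := (s.map fun x => X - C x).prod

theorem rpoly_add (s t : Multiset F) : rpoly (s + t) = rpoly s * rpoly t := by simp [rpoly]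

theorem rpoly_monic (s : Multiset F) : (rpoly s).Monic :=
  Polynomial.monic_multiset_prod_of_monic _ _ fun x _ => monic_X_sub_C x

theorem rpoly_eval_eq_zero {s : Multiset F} {x : F} : (rpoly s).eval x = 0 ↔ x ∈ s := by
  simp [rpoly, Polynomial.eval_multiset_prod, Multiset.prod_eq_zero_iff, sub_eq_zero]

/-- Left eigenspaces are lines. -/
def Lines (Z : Matrix ι ι F) : Prop :=
  ∀ (x : F) (l l' : ι → F), l ≠ 0 → l ᵥ* Z = x • l → l' ᵥ* Z = x • l' → ∃ t : F, l' = t • l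

/-- Split with lines as left eigenspaces. -/
def LCyc (Z : Matrix ι ι F) (s : Multiset F) : Prop := Z.charpoly = rpoly s ∧ Lines Z

theorem det_sub_eq_zero_iff {Z : Matrix ι ι F} {s : Multiset F} (h : Z.charpoly = rpoly s) {x : F} :
    (Z - x • 1).det = 0 ↔ x ∈ s := by
  rw [← rpoly_eval_eq_zero, ← h, Matrix.eval_charpoly]
  have : Matrix.scalar ι x - Z = -(Z - x • 1) := by
    rw [neg_sub, Matrix.scalar_apply, ← Matrix.smul_one_eq_diagonal]
  rw [this, Matrix.det_neg]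
  simp

theorem LCyc.exists_left {Z : Matrix ι ι F} {s : Multiset F} (h : LCyc Z s) {x : F} (hx : x ∈ s) :
    ∃ l : ι → F, l ≠ 0 ∧ l ᵥ* Z = x • l := by
  obtain ⟨l, hl0, hl⟩ := Matrix.exists_vecMul_eq_zero_iff.2 ((det_sub_eq_zero_iff h.1).2 hx)
  rw [vecMul_sub, vecMul_smul, vecMul_one, sub_eq_zero] at hl
  exact ⟨l, hl0, hl⟩

theorem LCyc.exists_right {Z : Matrix ι ι F} {s : Multiset F} (h : LCyc Z s) {x : F} (hx : x ∈ s) :
    ∃ v : ι → F, v ≠ 0 ∧ Z *ᵥ v = x • v := by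
  obtain ⟨l, hl0, hl⟩ := Matrix.exists_mulVec_eq_zero_iff.2 ((det_sub_eq_zero_iff h.1).2 hx)
  rw [sub_mulVec, smul_mulVec, one_mulVec, sub_eq_zero] at hl
  exact ⟨l, hl0, hl⟩

theorem LCyc.left_zero {Z : Matrix ι ι F} {s : Multiset F} (h : LCyc Z s) {x : F} (hx : x ∉ s)
    {l : ι → F} (hl : l ᵥ* Z = x • l) : l = 0 := by
  by_contra h0
  refine hx ((det_sub_eq_zero_iff h.1).1 (Matrix.exists_vecMul_eq_zero_iff.1 ⟨l, h0, ?_⟩))
  rw [vecMul_sub, vecMul_smul, vecMul_one, hl, sub_self]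

/-- A common right eigenvector of the product and of the second factor. -/
def HasR (X M : Matrix ι ι F) (x : F) : Prop :=
  ∃ v : ι → F, v ≠ 0 ∧ (X * M) *ᵥ v = x • v ∧ ∃ μ : F, M *ᵥ v = μ • v

/-- A common left eigenvector of the product and of the first factor. -/
def HasL (X M : Matrix ι ι F) (x : F) : Prop :=
  ∃ l : ι → F, l ≠ 0 ∧ l ᵥ* (X * M) = x • l ∧ ∃ μ : F, l ᵥ* X = μ • l

/-- Two conjugates of `Y`, by determinants `a` and `b`, with cyclic product of spectrum `s`. -/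
def Good (Y : Matrix ι ι F) (a b : F) (s : Multiset F) (R L : Set F) : Prop :=
  ∃ g h : GL ι F, (g : Matrix ι ι F).det = a ∧ (h : Matrix ι ι F).det = b ∧
    LCyc (cj g Y * cj h Y) s ∧ (∀ x, HasR (cj g Y) (cj h Y) x → x ∈ R) ∧
    ∀ x, HasL (cj g Y) (cj h Y) x → x ∈ L

/-- All determinants are possible. -/
def GoodAll (Y : Matrix ι ι F) (s : Multiset F) (R L : Set F) : Prop :=
  ∀ a b : F, a ≠ 0 → b ≠ 0 → Good Y a b s R L

theorem Good.mono {Y : Matrix ι ι F} {a b : F} {s : Multiset F} {R L R' L' : Set F}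
    (hR : R ⊆ R') (hL : L ⊆ L') : Good Y a b s R L → Good Y a b s R' L' :=
  fun ⟨g, h, h1, h2, h3, h4, h5⟩ => ⟨g, h, h1, h2, h3, fun x hx => hR (h4 x hx), fun x hx => hL (h5 x hx)⟩

theorem GoodAll.mono {Y : Matrix ι ι F} {s : Multiset F} {R L R' L' : Set F}
    (hR : R ⊆ R') (hL : L ⊆ L') (h : GoodAll Y s R L) : GoodAll Y s R' L' :=
  fun a b ha hb => (h a b ha hb).mono hR hL

theorem Good.flex {Y : Matrix ι ι F} {a b : F} {s : Multiset F} {R L : Set F} (hY : Flex Y) :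
    Good Y a b s R L → GoodAll Y s R L := by
  rintro ⟨g, h, -, -, h3, h4, h5⟩ a' b' ha hb
  obtain ⟨c, hc, hcY⟩ := hY (a' / (g : Matrix ι ι F).det) (div_ne_zero ha (gl_det_ne_zero g))
  obtain ⟨d, hd, hdY⟩ := hY (b' / (h : Matrix ι ι F).det) (div_ne_zero hb (gl_det_ne_zero h))
  refine ⟨g * c, h * d, ?_, ?_, ?_⟩
  · rw [Units.val_mul, det_mul, hc, mul_div_cancel₀ _ (gl_det_ne_zero g)]
  · rw [Units.val_mul, det_mul, hd, mul_div_cancel₀ _ (gl_det_ne_zero h)]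
  · rw [← cj_cj g, ← cj_cj h, hcY, hdY]
    exact ⟨h3, h4, h5⟩

theorem GoodAll.of_sim {Y Y' : Matrix ι ι F} {s : Multiset F} {R L : Set F} (h : Sim Y Y')
    (hY : GoodAll Y s R L) : GoodAll Y' s R L := by
  obtain ⟨k, rfl⟩ := h
  intro a b ha hb
  have hk := gl_det_ne_zero k
  obtain ⟨g, h, h1, h2, h3⟩ := hY (a * (k : Matrix ι ι F).det) (b * (k : Matrix ι ι F).det)
    (mul_ne_zero ha hk) (mul_ne_zero hb hk)
  have hi : ((k⁻¹ : GL ι F) : Matrix ι ι F).det * (k : Matrix ι ι F).det = 1 := by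
    rw [← det_mul, ← Units.val_mul, inv_mul_cancel, Units.val_one, det_one]
  refine ⟨g * k⁻¹, h * k⁻¹, ?_, ?_, ?_⟩
  · rw [Units.val_mul, det_mul, h1, mul_assoc, mul_comm (k : Matrix ι ι F).det, hi, mul_one]
  · rw [Units.val_mul, det_mul, h2, mul_assoc, mul_comm (k : Matrix ι ι F).det, hi, mul_one]
  · simpa [cj_cj] using h3

/-- Avoiding fewer affine hyperplanes than there are scalars. -/
theorem exists_avoid_affine {V : Type*} [AddCommGroup V] [Module F V] [Fintype F] {T : Type*}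
    (t : Finset T) (hcard : t.card < Fintype.card F) (c : T → F) (φ : T → V →ₗ[F] F)
    (hφ : ∀ i ∈ t, c i ≠ 0 ∨ φ i ≠ 0) : ∃ U : V, ∀ i ∈ t, c i + φ i U ≠ 0 := by
  classical
  induction t using Finset.induction_on with
  | empty => exact ⟨0, by simp⟩
  | insert i t hi ih =>
    rw [Finset.card_insert_of_notMem hi] at hcard
    obtain ⟨U, hU⟩ := ih (by omega) fun j hj => hφ j (Finset.mem_insert_of_mem hj)
    by_cases hUi : c i + φ i U ≠ 0
    · exact ⟨U, fun j hj => (Finset.mem_insert.1 hj).elim (fun e => e ▸ hUi) (hU j)⟩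
    push Not at hUi
    obtain ⟨D, hD⟩ : ∃ D, φ i D ≠ 0 := by
      by_contra h
      push Not at h
      rcases hφ i (Finset.mem_insert_self i t) with hc | hl
      · exact hc (by simpa [h U] using hUi)
      · exact hl (LinearMap.ext h)
    let bad : Finset F := insert 0 (t.image fun j => -(c j + φ j U) / φ j D)
    obtain ⟨θ, -, hθ⟩ := Finset.exists_mem_notMem_of_card_lt_card (t := Finset.univ) (s := bad) (by
      have h1 : bad.card ≤ t.card + 1 := (Finset.card_insert_le _ _).trans (by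
        simpa using Finset.card_image_le)
      rw [Finset.card_univ]
      omega)
    simp only [bad, Finset.mem_insert, Finset.mem_image, not_or, not_exists, not_and] at hθ
    refine ⟨U + θ • D, fun j hj => ?_⟩
    rw [map_add, map_smul, smul_eq_mul, ← add_assoc]
    rcases Finset.mem_insert.1 hj with rfl | hj
    · rw [hUi, zero_add]
      exact mul_ne_zero hθ.1 hD
    · intro h0
      by_cases hjD : φ j D = 0
      · rw [hjD, mul_zero, add_zero] at h0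
        exact hU j hj h0
      · refine hθ.2 j hj ?_
        field_simp
        linear_combination -h0

/-- The unipotent block matrix. -/
noncomputable def uniGL (U : Matrix κ ι F) : GL (ι ⊕ κ) F :=
  mkGL (fromBlocks 1 0 U 1) (by rw [det_fromBlocks_zero₁₂]; simp)

/-- The block diagonal unit. -/
noncomputable def diagGL (g : GL ι F) (h : GL κ F) : GL (ι ⊕ κ) F :=
  mkGL (fromBlocks (g : Matrix ι ι F) 0 0 (h : Matrix κ κ F)) (by
    rw [det_fromBlocks_zero₁₂]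
    exact mul_ne_zero (gl_det_ne_zero g) (gl_det_ne_zero h))

theorem det_diagGL (g : GL ι F) (h : GL κ F) :
    (diagGL g h : Matrix (ι ⊕ κ) (ι ⊕ κ) F).det =
      (g : Matrix ι ι F).det * (h : Matrix κ κ F).det := by
  rw [diagGL, coe_mkGL, det_fromBlocks_zero₁₂]

theorem det_uniGL (U : Matrix κ ι F) : (uniGL U : Matrix (ι ⊕ κ) (ι ⊕ κ) F).det = 1 := by
  rw [uniGL, coe_mkGL, det_fromBlocks_zero₁₂, det_one, det_one, mul_one]

theorem cj_diagGL (g : GL ι F) (h : GL κ F) (A : Matrix ι ι F) (B : Matrix κ ι F)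
    (D : Matrix κ κ F) : cj (diagGL g h) (fromBlocks A 0 B D) = fromBlocks (cj g A) 0
      ((h : Matrix κ κ F) * B * ((g⁻¹ : GL ι F) : Matrix ι ι F)) (cj h D) := by
  rw [cj_eq_iff, diagGL, coe_mkGL, fromBlocks_multiply, fromBlocks_multiply]
  simp [cj, mul_assoc]

theorem cj_uniGL (U : Matrix κ ι F) (A : Matrix ι ι F) (B : Matrix κ ι F) (D : Matrix κ κ F) :
    cj (uniGL U) (fromBlocks A 0 B D) = fromBlocks A 0 (B + (U * A - D * U)) D := by
  rw [cj_eq_iff, uniGL, coe_mkGL, fromBlocks_multiply, fromBlocks_multiply]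
  simp
  abel

/-- The functional `l * · * v`. -/
def sandwich (l : κ → F) (v : ι → F) : Matrix κ ι F →ₗ[F] F where
  toFun S := l ⬝ᵥ (S *ᵥ v)
  map_add' S T := by rw [add_mulVec, dotProduct_add]
  map_smul' c S := by rw [smul_mulVec, dotProduct_smul, RingHom.id_apply]

@[simp] theorem sandwich_apply (l : κ → F) (v : ι → F) (S : Matrix κ ι F) :
    sandwich l v S = l ⬝ᵥ (S *ᵥ v) := rfl

/-- The change of the connecting block under unipotent conjugation of the second factor. -/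
def linkMap (X₂ M₂ : Matrix κ κ F) (M₁ : Matrix ι ι F) : Matrix κ ι F →ₗ[F] Matrix κ ι F where
  toFun U := X₂ * (U * M₁ - M₂ * U)
  map_add' U V := by simp only [Matrix.add_mul, Matrix.mul_add, Matrix.mul_sub]; abel
  map_smul' c U := by
    simp [Matrix.smul_mul, Matrix.mul_smul, Matrix.mul_sub, smul_sub]

@[simp] theorem linkMap_apply (X₂ M₂ : Matrix κ κ F) (M₁ : Matrix ι ι F) (U : Matrix κ ι F) :
    linkMap X₂ M₂ M₁ U = X₂ * (U * M₁ - M₂ * U) := rfl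

theorem link_zero {X₁ M₁ : Matrix ι ι F} {X₂ M₂ : Matrix κ κ F} {x : F} (hx : x ≠ 0) {v : ι → F}
    {l : κ → F} (hv0 : v ≠ 0) (hl0 : l ≠ 0) (hv : (X₁ * M₁) *ᵥ v = x • v)
    (hl : l ᵥ* (X₂ * M₂) = x • l) (h : (sandwich l v).comp (linkMap X₂ M₂ M₁) = 0) :
    HasR X₁ M₁ x ∧ HasL X₂ M₂ x := by
  have key : ∀ i j, (l ᵥ* X₂) i * (M₁ *ᵥ v) j = x * (l i * v j) := by
    intro i j
    have e := LinearMap.congr_fun h (vecMulVec (Pi.single i 1) (Pi.single j 1))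
    simp only [LinearMap.comp_apply, linkMap_apply, sandwich_apply, LinearMap.zero_apply,
      ← mulVec_mulVec, sub_mulVec, dotProduct_mulVec, sub_eq_zero] at e
    rw [vecMulVec_mulVec, vecMulVec_mulVec, dotProduct_sub, dotProduct_mulVec (l ᵥ* X₂),
      vecMul_vecMul, hl] at e
    simp [sub_eq_zero] at e
    linear_combination e
  obtain ⟨i, hi⟩ : ∃ i, (l ᵥ* X₂) i ≠ 0 := Function.ne_iff.1 fun h0 => hl0 (by
    have : x • l = 0 := by rw [← hl, ← vecMul_vecMul, h0]; exact zero_vecMul _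
    exact (smul_eq_zero.1 this).resolve_left hx)
  obtain ⟨j, hj⟩ : ∃ j, (M₁ *ᵥ v) j ≠ 0 := Function.ne_iff.1 fun h0 => hv0 (by
    have : x • v = 0 := by rw [← hv, ← mulVec_mulVec, h0]; exact mulVec_zero _
    exact (smul_eq_zero.1 this).resolve_left hx)
  refine ⟨⟨v, hv0, hv, x * l i / (l ᵥ* X₂) i, funext fun k => ?_⟩,
    ⟨l, hl0, hl, x * v j / (M₁ *ᵥ v) j, funext fun k => ?_⟩⟩
  · rw [Pi.smul_apply, smul_eq_mul]
    field_simp
    linear_combination key i k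
  · rw [Pi.smul_apply, smul_eq_mul]
    field_simp
    linear_combination key k j

/-- The condition on the connecting block for each common scalar. -/
theorem lcyc_join {Z₁ : Matrix ι ι F} {Z₂ : Matrix κ κ F} {S : Matrix κ ι F} {s₁ s₂ : Multiset F}
    (h₁ : LCyc Z₁ s₁) (h₂ : LCyc Z₂ s₂)
    (hS : ∀ x, x ∈ s₁ → x ∈ s₂ → ∃ v l, Z₁ *ᵥ v = x • v ∧ l ᵥ* Z₂ = x • l ∧ l ⬝ᵥ (S *ᵥ v) ≠ 0) :
    LCyc (fromBlocks Z₁ 0 S Z₂) (s₁ + s₂) ∧
      ∀ x, x ∈ s₁ → ∀ l₁ l₂, Sum.elim l₁ l₂ ᵥ* fromBlocks Z₁ 0 S Z₂ = x • Sum.elim l₁ l₂ →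
        l₂ = 0 := by
  have hvm : ∀ (x : F) (l₁ : ι → F) (l₂ : κ → F),
      Sum.elim l₁ l₂ ᵥ* fromBlocks Z₁ 0 S Z₂ = x • Sum.elim l₁ l₂ →
        l₁ ᵥ* Z₁ + l₂ ᵥ* S = x • l₁ ∧ l₂ ᵥ* Z₂ = x • l₂ := by
    intro x l₁ l₂ h
    rw [vecMul_fromBlocks] at h
    simp only [Sum.elim_comp_inl, Sum.elim_comp_inr, vecMul_zero, zero_add] at h
    exact ⟨funext fun i => congrFun h (Sum.inl i), funext fun i => congrFun h (Sum.inr i)⟩
  have hzero : ∀ x, x ∈ s₁ → ∀ l₁ l₂,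
      Sum.elim l₁ l₂ ᵥ* fromBlocks Z₁ 0 S Z₂ = x • Sum.elim l₁ l₂ → l₂ = 0 := by
    intro x hx l₁ l₂ h
    obtain ⟨e1, e2⟩ := hvm x l₁ l₂ h
    by_cases hx₂ : x ∈ s₂
    swap
    · exact h₂.left_zero hx₂ e2
    obtain ⟨v, l, hv, hl, hne⟩ := hS x hx hx₂
    have hl0 : l ≠ 0 := fun h0 => hne (by rw [h0, zero_dotProduct])
    obtain ⟨t, rfl⟩ := h₂.2 x l l₂ hl0 hl e2
    have := congrArg (fun m => m ⬝ᵥ v) e1
    simp only [add_dotProduct, ← dotProduct_mulVec, hv, dotProduct_smul, smul_dotProduct,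
      smul_eq_mul, add_eq_left, mul_eq_zero, or_iff_left hne] at this
    rw [this, zero_smul]
  refine ⟨⟨by rw [Matrix.charpoly_fromBlocks_zero₁₂, h₁.1, h₂.1, rpoly_add], fun x l l' hl0 hl hl' => ?_⟩,
    hzero⟩
  obtain ⟨l₁, l₂, rfl⟩ : ∃ l₁ l₂, l = Sum.elim l₁ l₂ := ⟨_, _, (Sum.elim_comp_inl_inr l).symm⟩
  obtain ⟨m₁, m₂, rfl⟩ : ∃ m₁ m₂, l' = Sum.elim m₁ m₂ := ⟨_, _, (Sum.elim_comp_inl_inr l').symm⟩
  obtain ⟨e1, e2⟩ := hvm x l₁ l₂ hl
  obtain ⟨f1, f2⟩ := hvm x m₁ m₂ hl'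
  by_cases hx : x ∈ s₁
  · have a := hzero x hx l₁ l₂ hl
    have b := hzero x hx m₁ m₂ hl'
    subst a b
    simp only [zero_vecMul, add_zero] at e1 f1
    obtain ⟨t, rfl⟩ := h₁.2 x l₁ m₁ (fun h => hl0 (by rw [h]; ext (i | i) <;> rfl)) e1 f1
    exact ⟨t, by ext (i | i) <;> simp⟩
  · have hl₂ : l₂ ≠ 0 := fun h => by
      subst h
      simp only [zero_vecMul, add_zero] at e1
      exact hl0 (by rw [h₁.left_zero hx e1]; ext (i | i) <;> rfl)
    obtain ⟨t, rfl⟩ := h₂.2 x l₂ m₂ hl₂ e2 f2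
    have : (m₁ - t • l₁) ᵥ* Z₁ = x • (m₁ - t • l₁) := by
      rw [smul_vecMul] at f1
      rw [sub_vecMul, smul_vecMul, eq_sub_of_add_eq e1, eq_sub_of_add_eq f1]
      module
    have := h₁.left_zero hx this
    rw [sub_eq_zero] at this
    exact ⟨t, by subst this; ext (i | i) <;> simp⟩

/-- The joining step. -/
theorem Good.join [Fintype F] {Y₁ : Matrix ι ι F} {Y₂ : Matrix κ κ F} {a₁ b₁ a₂ b₂ : F}
    {s₁ s₂ : Multiset F} {R₁ L₁ R₂ L₂ : Set F} (h₁ : Good Y₁ a₁ b₁ s₁ R₁ L₁)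
    (h₂ : Good Y₂ a₂ b₂ s₂ R₂ L₂) (hs : (0 : F) ∉ s₂)
    (hd : ∀ x, x ∈ s₁ → x ∈ s₂ → x ∈ R₁ → x ∈ L₂ → False) (p : Matrix κ ι F) :
    Good (fromBlocks Y₁ 0 p Y₂) (a₁ * a₂) (b₁ * b₂) (s₁ + s₂) (R₁ ∪ R₂)
      (L₁ ∪ (L₂ \ {x | x ∈ s₁})) := by
  classical
  obtain ⟨g₁, k₁, hg₁, hk₁, hZ₁, hR₁, hL₁⟩ := h₁
  obtain ⟨g₂, k₂, hg₂, hk₂, hZ₂, hR₂, hL₂⟩ := h₂
  set p' := (g₂ : Matrix κ κ F) * p * ((g₁⁻¹ : GL ι F) : Matrix ι ι F)
  set r' := (k₂ : Matrix κ κ F) * p * ((k₁⁻¹ : GL ι F) : Matrix ι ι F)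
  set X₁ := cj g₁ Y₁
  set M₁ := cj k₁ Y₁
  set X₂ := cj g₂ Y₂
  set M₂ := cj k₂ Y₂
  let T := (s₁.toFinset ∩ s₂.toFinset)
  have hT : T.card < Fintype.card F := by
    refine lt_of_le_of_lt (Finset.card_le_card (t := Finset.univ.erase 0) fun x hx => ?_) ?_
    · simp only [T, Finset.mem_inter, Multiset.mem_toFinset] at hx
      exact Finset.mem_erase.2 ⟨fun e => hs (e ▸ hx.2), Finset.mem_univ _⟩
    · rw [Finset.card_erase_of_mem (Finset.mem_univ _), Finset.card_univ]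
      exact Nat.sub_lt Fintype.card_pos one_pos
  have hex : ∀ x ∈ T, ∃ v l, v ≠ 0 ∧ l ≠ 0 ∧ (X₁ * M₁) *ᵥ v = x • v ∧ l ᵥ* (X₂ * M₂) = x • l := by
    intro x hx
    simp only [T, Finset.mem_inter, Multiset.mem_toFinset] at hx
    obtain ⟨v, h1, h2⟩ := hZ₁.exists_right hx.1
    obtain ⟨l, h3, h4⟩ := hZ₂.exists_left hx.2
    exact ⟨v, l, h1, h3, h2, h4⟩
  choose! v l hv0 hl0 hv hl using hex
  obtain ⟨U, hU⟩ := exists_avoid_affine T hT (fun x => sandwich (l x) (v x) (p' * M₁ + X₂ * r'))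
    (fun x => (sandwich (l x) (v x)).comp (linkMap X₂ M₂ M₁)) (fun x hx => Or.inr fun h => by
      have hx' := hx
      simp only [T, Finset.mem_inter, Multiset.mem_toFinset] at hx'
      obtain ⟨h1, h2⟩ := link_zero (fun e => hs (e ▸ hx'.2)) (hv0 x hx) (hl0 x hx) (hv x hx)
        (hl x hx) h
      exact hd x hx'.1 hx'.2 (hR₁ x h1) (hL₂ x h2))
  refine ⟨diagGL g₁ g₂, uniGL U * diagGL k₁ k₂, by rw [det_diagGL, hg₁, hg₂],
    by rw [Units.val_mul, det_mul, det_uniGL, one_mul, det_diagGL, hk₁, hk₂], ?_⟩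
  have hX : cj (diagGL g₁ g₂) (fromBlocks Y₁ 0 p Y₂) = fromBlocks X₁ 0 p' X₂ := cj_diagGL ..
  have hM : cj (uniGL U * diagGL k₁ k₂) (fromBlocks Y₁ 0 p Y₂) =
      fromBlocks M₁ 0 (r' + (U * M₁ - M₂ * U)) M₂ := by rw [← cj_cj, cj_diagGL, cj_uniGL]
  have hZ : fromBlocks X₁ 0 p' X₂ * fromBlocks M₁ 0 (r' + (U * M₁ - M₂ * U)) M₂ =
      fromBlocks (X₁ * M₁) 0 (p' * M₁ + X₂ * r' + linkMap X₂ M₂ M₁ U) (X₂ * M₂) := by
    rw [fromBlocks_multiply, linkMap_apply]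
    simp [add_assoc, Matrix.mul_add]
  obtain ⟨hlc, hzero⟩ := lcyc_join (S := p' * M₁ + X₂ * r' + linkMap X₂ M₂ M₁ U) hZ₁ hZ₂
    fun x hx₁ hx₂ => by
      have hxT : x ∈ T := by simp [T, hx₁, hx₂]
      refine ⟨v x, l x, hv x hxT, hl x hxT, ?_⟩
      have := hU x hxT
      simpa [add_mulVec, dotProduct_add] using this
  rw [hX, hM]
  refine ⟨by rw [hZ]; exact hlc, ?_, ?_⟩
  · rintro x ⟨w, hw0, hw, μ, hμ⟩
    rw [hZ, fromBlocks_mulVec] at hw
    rw [fromBlocks_mulVec] at hμ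
    by_cases h0 : w ∘ Sum.inl = 0
    · have hw2 : w ∘ Sum.inr ≠ 0 := fun h2 => hw0 (funext fun i => by
        rcases i with i | i
        · exact congrFun h0 i
        · exact congrFun h2 i)
      refine Or.inr (hR₂ x ⟨_, hw2, funext fun i => ?_, μ, funext fun i => ?_⟩)
      · have := congrFun hw (Sum.inr i)
        simpa [h0] using this
      · have := congrFun hμ (Sum.inr i)
        simpa [h0] using this
    · refine Or.inl (hR₁ x ⟨_, h0, funext fun i => ?_, μ, funext fun i => ?_⟩)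
      · have := congrFun hw (Sum.inl i)
        simpa using this
      · have := congrFun hμ (Sum.inl i)
        simpa using this
  · rintro x ⟨w, hw0, hw, μ, hμ⟩
    obtain ⟨w₁, w₂, rfl⟩ : ∃ w₁ w₂, w = Sum.elim w₁ w₂ := ⟨_, _, (Sum.elim_comp_inl_inr w).symm⟩
    rw [hZ] at hw
    by_cases h2 : w₂ = 0
    · subst h2
      refine Or.inl (hL₁ x ⟨w₁, fun h => hw0 (by rw [h]; ext (i | i) <;> rfl), funext fun i => ?_, μ,
        funext fun i => ?_⟩)
      · have := congrFun hw (Sum.inl i)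
        simpa [vecMul_fromBlocks] using this
      · have := congrFun hμ (Sum.inl i)
        simpa [vecMul_fromBlocks] using this
    · refine Or.inr ⟨hL₂ x ⟨w₂, h2, funext fun i => ?_, μ, funext fun i => ?_⟩,
        fun hx => h2 (hzero x hx _ _ hw)⟩
      · have := congrFun hw (Sum.inr i)
        simpa [vecMul_fromBlocks] using this
      · have := congrFun hμ (Sum.inr i)
        simpa [vecMul_fromBlocks] using this

theorem GoodAll.join_left [Fintype F] {Y₁ : Matrix ι ι F} {Y₂ : Matrix κ κ F} {a₂ b₂ : F}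
    {s₁ s₂ : Multiset F} {R₁ L₁ R₂ L₂ : Set F} (h₁ : GoodAll Y₁ s₁ R₁ L₁)
    (h₂ : Good Y₂ a₂ b₂ s₂ R₂ L₂) (hs : (0 : F) ∉ s₂)
    (hd : ∀ x, x ∈ s₁ → x ∈ s₂ → x ∈ R₁ → x ∈ L₂ → False) (p : Matrix κ ι F) :
    GoodAll (fromBlocks Y₁ 0 p Y₂) (s₁ + s₂) (R₁ ∪ R₂) (L₁ ∪ (L₂ \ {x | x ∈ s₁})) := by
  intro a b ha hb
  obtain ⟨g, h, hg, hh, -⟩ := id h₂
  have hga : a₂ ≠ 0 := hg ▸ gl_det_ne_zero g
  have hgb : b₂ ≠ 0 := hh ▸ gl_det_ne_zero h
  simpa [div_mul_cancel₀ _ hga, div_mul_cancel₀ _ hgb] using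
    (h₁ (a / a₂) (b / b₂) (div_ne_zero ha hga) (div_ne_zero hb hgb)).join h₂ hs hd p

theorem GoodAll.join_right [Fintype F] {Y₁ : Matrix ι ι F} {Y₂ : Matrix κ κ F} {a₁ b₁ : F}
    {s₁ s₂ : Multiset F} {R₁ L₁ R₂ L₂ : Set F} (h₁ : Good Y₁ a₁ b₁ s₁ R₁ L₁)
    (h₂ : GoodAll Y₂ s₂ R₂ L₂) (hs : (0 : F) ∉ s₂)
    (hd : ∀ x, x ∈ s₁ → x ∈ s₂ → x ∈ R₁ → x ∈ L₂ → False) (p : Matrix κ ι F) :
    GoodAll (fromBlocks Y₁ 0 p Y₂) (s₁ + s₂) (R₁ ∪ R₂) (L₁ ∪ (L₂ \ {x | x ∈ s₁})) := by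
  intro a b ha hb
  obtain ⟨g, h, hg, hh, -⟩ := id h₁
  have hga : a₁ ≠ 0 := hg ▸ gl_det_ne_zero g
  have hgb : b₁ ≠ 0 := hh ▸ gl_det_ne_zero h
  simpa [mul_div_cancel₀ _ hga, mul_div_cancel₀ _ hgb] using
    h₁.join (h₂ (a / a₁) (b / b₁) (div_ne_zero ha hga) (div_ne_zero hb hgb)) hs hd p

theorem Lines.of_sim {Z Z' : Matrix ι ι F} (h : Sim Z Z') (hZ : Lines Z) : Lines Z' := by
  obtain ⟨g, rfl⟩ := h
  intro x l l' hl0 hl hl'
  have tr : ∀ m : ι → F, m ᵥ* cj g Z = x • m →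
      (m ᵥ* (g : Matrix ι ι F)) ᵥ* Z = x • (m ᵥ* (g : Matrix ι ι F)) := fun m hm => by
    rw [vecMul_vecMul, (cj_eq_iff g Z _).1 rfl, ← vecMul_vecMul, hm, smul_vecMul]
  have inj : Function.Injective fun m : ι → F => m ᵥ* (g : Matrix ι ι F) := fun a b e => by
    have := congrArg (fun m => m ᵥ* ((g⁻¹ : GL ι F) : Matrix ι ι F)) e
    simpa [vecMul_vecMul, ← Units.val_mul] using this
  obtain ⟨t, ht⟩ := hZ x (l ᵥ* (g : Matrix ι ι F)) _ (fun h0 => hl0 (inj (by simpa using h0)))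
    (tr l hl) (tr l' hl')
  exact ⟨t, inj (by simpa [smul_vecMul] using ht)⟩

theorem LCyc.reindex (e : ι ≃ κ) {Z : Matrix ι ι F} {s : Multiset F} (h : LCyc Z s) :
    LCyc (Matrix.reindexAlgEquiv F F e Z) s := by
  refine ⟨(Matrix.charpoly_reindex e Z).trans h.1, fun x l l' hl0 hl hl' => ?_⟩
  have tr : ∀ m : κ → F, m ᵥ* Matrix.reindexAlgEquiv F F e Z = x • m →
      (m ∘ e) ᵥ* Z = x • (m ∘ e) := fun m hm => by
    funext i
    have := congrFun hm (e i)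
    simp only [vecMul, dotProduct, Matrix.reindexAlgEquiv_apply, Matrix.reindex_apply,
      Matrix.submatrix_apply] at this
    rw [← e.sum_comp] at this
    simpa [vecMul, dotProduct] using this
  obtain ⟨t, ht⟩ := h.2 x (l ∘ e) (l' ∘ e) (fun h0 => hl0 (funext fun k => by
    simpa using congrFun h0 (e.symm k))) (tr l hl) (tr l' hl')
  exact ⟨t, funext fun k => by simpa using congrFun ht (e.symm k)⟩

theorem cyclic_of_lcyc : ∀ {n : ℕ} {Z : Matrix (Fin n) (Fin n) F} {s : Multiset F},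
    LCyc Z s → Cyclic Z := by
  classical
  intro n
  induction n with
  | zero => intro Z s _; exact ⟨0, by simp⟩
  | succ n ih =>
    intro Z s hZ
    obtain ⟨x, hx⟩ : ∃ x, x ∈ s := Multiset.exists_mem_of_ne_zero fun h0 => by
      have := congrArg Polynomial.natDegree hZ.1
      rw [charpoly_natDegree_eq_dim, h0, Fintype.card_fin] at this
      simp [rpoly] at this
    obtain ⟨l, hl0, hl⟩ := hZ.exists_left hx
    obtain ⟨P, hP⟩ := exists_gl_col (0 : Fin (n + 1)) hl0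
    let g : GL (Fin (n + 1)) F := mkGL ((P : Matrix (Fin (n + 1)) (Fin (n + 1)) F)ᵀ)
      (by rw [det_transpose]; exact gl_det_ne_zero P)
    have hg : Pi.single 0 1 ᵥ* (g : Matrix (Fin (n + 1)) (Fin (n + 1)) F) = l := by
      rw [coe_mkGL, vecMul_transpose, hP]
    have hrow : Pi.single 0 1 ᵥ* cj g Z = x • Pi.single 0 1 := by
      have inv : l ᵥ* ((g⁻¹ : GL (Fin (n + 1)) F) : Matrix (Fin (n + 1)) (Fin (n + 1)) F) =
          Pi.single 0 1 := by rw [← hg, vecMul_vecMul, ← Units.val_mul, mul_inv_cancel, Units.val_one, vecMul_one]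
      rw [cj, ← vecMul_vecMul, ← vecMul_vecMul, hg, hl, smul_vecMul, inv]
    obtain ⟨a, r, c, L, hform⟩ := exists_hd (cj g Z)
    have h00 := congrFun hrow 0
    have h0j : r = 0 := funext fun j => by simpa [hform] using congrFun hrow j.succ
    simp [hform] at h00
    subst h00 h0j
    have hsim : Sim Z (hd a 0 c L) := ⟨g, hform⟩
    have hlines := hZ.2.of_sim hsim
    have hchar : (hd a 0 c L).charpoly = (X - C a) * L.charpoly := by
      rw [hd, Matrix.coe_reindexAlgEquiv, Matrix.charpoly_reindex, blk,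
        show (of fun (_ : Unit) (j : Fin n) => (0 : Fin n → F) j) = 0 from rfl,
        Matrix.charpoly_fromBlocks_zero₁₂]
      congr 1
      simp [Matrix.charpoly, Matrix.det_unique]
    have hLs : L.charpoly = rpoly (s.erase a) := by
      refine mul_left_cancel₀ (X_sub_C_ne_zero a) ?_
      rw [← hchar, ← hsim.charpoly_eq, hZ.1]
      conv_lhs => rw [← Multiset.cons_erase hx]
      simp [rpoly]
    have hext : ∀ (y t : F) (m : Fin n → F), m ᵥ* L = y • m → t * (a - y) + m ⬝ᵥ c = 0 →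
        Fin.cons t m ᵥ* hd a 0 c L = y • Fin.cons t m := by
      intro y t m hm ht
      funext j
      induction j using Fin.cases with
      | zero =>
        simp [vecMul, dotProduct, Fin.sum_univ_succ] at ht ⊢
        linear_combination ht
      | succ j =>
        have := congrFun hm j
        simp [vecMul, dotProduct] at this
        simp [vecMul, dotProduct, Fin.sum_univ_succ, this]
    have hdot : ∀ m : Fin n → F, m ≠ 0 → m ᵥ* L = a • m → m ⬝ᵥ c ≠ 0 := by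
      intro m hm0 hm h0
      obtain ⟨t, ht⟩ := hlines a (Fin.cons 1 0) (Fin.cons 0 m)
        (fun h => by simpa using congrFun h 0)
        (hext a 1 0 (by simp) (by simp)) (hext a 0 m hm (by simp [h0]))
      exact hm0 (funext fun j => by simpa using congrFun ht j.succ)
    refine Cyclic.of_sim hsim.symm (cyclic_hd (ih (s := s.erase a) ⟨hLs, ?_⟩) a c hdot)
    intro y m m' hm0 hm hm'
    by_cases hy : a = y
    · subst hy
      have hc := hdot m hm0 hm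
      refine ⟨(m' ⬝ᵥ c) / (m ⬝ᵥ c), ?_⟩
      have hz : (m' - ((m' ⬝ᵥ c) / (m ⬝ᵥ c)) • m) ⬝ᵥ c = 0 := by
        rw [sub_dotProduct, smul_dotProduct, smul_eq_mul, div_mul_cancel₀ _ hc, sub_self]
      by_contra hne
      refine hdot _ (sub_ne_zero.2 hne) ?_ hz
      rw [sub_vecMul, smul_vecMul, hm, hm', smul_sub, smul_comm]
    · have hne := sub_ne_zero.2 hy
      obtain ⟨t, ht⟩ := hlines y (Fin.cons (-(m ⬝ᵥ c) / (a - y)) m)
        (Fin.cons (-(m' ⬝ᵥ c) / (a - y)) m')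
        (fun h => hm0 (funext fun j => by simpa using congrFun h j.succ))
        (hext y _ m hm (by field_simp; ring)) (hext y _ m' hm' (by field_simp; ring))
      exact ⟨t, funext fun j => by simpa using congrFun ht j.succ⟩

end CfsgLib.LevCover
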