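import Cfsg.Agent.Lib.LevCover.PieceZ

/-!
# The determinants of a centraliser
-/

set_option autoImplicit false

namespace CfsgLib.LevCover

open Matrix Polynomial

variable {F : Type*} [Field F] {ι κ : Type*} [Fintype ι] [DecidableEq ι] [Fintype κ] [DecidableEq κ]

/-- `d` is the determinant of a unit commuting with `Y`. -/
def DetIn (Y : Matrix ι ι F) (d : F) : Prop :=
  ∃ c : GL ι F, (c : Matrix ι ι F).det = d ∧ cj c Y = Y

theorem DetIn.one (Y : Matrix ι ι F) : DetIn Y 1 := ⟨1, by simp, cj_one Y⟩

theorem DetIn.mul {Y : Matrix ι ι F} {x y : F} : DetIn Y x → DetIn Y y → DetIn Y (x * y) :=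
  fun ⟨c, hc, hcY⟩ ⟨c', hc', hcY'⟩ =>
    ⟨c * c', by rw [Units.val_mul, det_mul, hc, hc'], by rw [← cj_cj, hcY', hcY]⟩

theorem DetIn.inv {Y : Matrix ι ι F} {x : F} : DetIn Y x → DetIn Y x⁻¹ := fun ⟨c, hc, hcY⟩ =>
  ⟨c⁻¹, by rw [← hc]; exact eq_inv_of_mul_eq_one_left (by
      rw [← det_mul, ← Units.val_mul, inv_mul_cancel, Units.val_one, det_one]),
    by conv_lhs => rw [← hcY]
       rw [cj_cj, inv_mul_cancel, cj_one]⟩

theorem DetIn.ne_zero {Y : Matrix ι ι F} {x : F} : DetIn Y x → x ≠ 0 :=
  fun ⟨c, hc, _⟩ => hc ▸ gl_det_ne_zero c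

theorem DetIn.sq {Y : Matrix ι ι F} {x : F} (h : DetIn Y x) : DetIn Y (x ^ 2) := by
  rw [pow_two]; exact h.mul h

theorem DetIn.of_div {Y : Matrix ι ι F} {x y : F} (hx : DetIn Y x) (h : DetIn Y (x / y)) :
    DetIn Y y := by
  have := hx.mul h.inv
  rwa [inv_div, mul_div_cancel₀ _ hx.ne_zero] at this

theorem DetIn.of_sim {Y Y' : Matrix ι ι F} {d : F} (h : Sim Y Y') (hY : DetIn Y d) : DetIn Y' d := by
  obtain ⟨g, rfl⟩ := h
  obtain ⟨c, hc, hcY⟩ := hY
  refine ⟨g * c * g⁻¹, ?_, ?_⟩
  · rw [Units.val_mul, Units.val_mul, Matrix.det_units_conj, hc]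
  · rw [cj_cj, inv_mul_cancel_right, ← cj_cj, hcY]

theorem DetIn.reindex (e : ι ≃ κ) {Y : Matrix ι ι F} {d : F} (hY : DetIn Y d) :
    DetIn (Matrix.reindexAlgEquiv F F e Y) d := by
  obtain ⟨c, hc, hcY⟩ := hY
  exact ⟨reGL e c, (Matrix.det_reindexAlgEquiv F F e _).trans hc, by rw [← reindex_cj, hcY]⟩

theorem DetIn.left {A : Matrix ι ι F} (D : Matrix κ κ F) {d : F} (hA : DetIn A d) :
    DetIn (fromBlocks A 0 0 D) d := by
  obtain ⟨c, hc, hcA⟩ := hA
  exact ⟨diagGL c 1, by simp [det_diagGL, hc], by simp [cj_diagGL, hcA, cj_one]⟩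

theorem DetIn.right (A : Matrix ι ι F) {D : Matrix κ κ F} {d : F} (hD : DetIn D d) :
    DetIn (fromBlocks A 0 0 D) d := by
  obtain ⟨c, hc, hcD⟩ := hD
  exact ⟨diagGL 1 c, by simp [det_diagGL, hc], by simp [cj_diagGL, hcD, cj_one]⟩

theorem Dec.detIn {n : ℕ} {Y : Matrix (Fin n) (Fin n) F} {l : List F[X]} (h : Dec Y l) {g : F[X]}
    (hg : g ∈ l) {x : F}
    (hblock : ∀ (d : ℕ) (c : Fin (d + 2) → F), (comp c).charpoly = g → DetIn (comp c) x) :
    DetIn Y x := by
  induction h with
  | one e c h =>
    rw [List.mem_singleton] at hg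
    exact ((hblock _ c hg.symm).reindex e).of_sim h.symm
  | step e c h' ha h ih =>
    rcases List.mem_cons.1 hg with rfl | hg
    · exact (((hblock _ c rfl).right _).reindex e).of_sim h.symm
    · exact (((ih hg).left _).reindex e).of_sim h.symm

/-- The normalised constant term. -/
noncomputable def nrm (g : F[X]) (α : F) : F := g.coeff 0 / α ^ g.natDegree

theorem Dec.nrm_mem {n : ℕ} {Y : Matrix (Fin n) (Fin n) F} {l : List F[X]} (h : Dec Y l) {g : F[X]}
    (hg : g ∈ l) (hg0 : g.coeff 0 ≠ 0) {α : F} (hα : α ≠ 0) : DetIn Y (nrm g α) := by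
  refine h.detIn hg fun d c hc => ?_
  have hdet : ((-α⁻¹) • comp c).det = nrm g α := by
    rw [Matrix.det_smul, Matrix.det_eq_sign_charpoly_coeff, hc, nrm, ← hc,
      charpoly_natDegree_eq_dim, Fintype.card_fin, ← mul_assoc, ← mul_pow, neg_mul_neg, mul_one,
      inv_pow]
    field_simp
  refine ⟨mkGL ((-α⁻¹) • comp c) (by rw [hdet]; exact div_ne_zero hg0 (pow_ne_zero _ hα)), hdet, ?_⟩
  rw [cj_eq_iff]
  simp

theorem topF_eq (g : F[X]) (α : F) (hα : α ≠ 0) (hd : 1 ≤ g.natDegree) :
    topF g (α * α) = α * α * nrm g α ^ 2 := by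
  obtain ⟨k, hk⟩ : ∃ k, g.natDegree = k + 1 := ⟨g.natDegree - 1, by omega⟩
  rw [topF, nrm, hk, Nat.add_sub_cancel, div_pow, ← pow_mul, mul_pow]
  field_simp
  ring

section Outside

variable [Fintype F] {Y : Matrix ι ι F}

open Classical in
/-- The scalars that are no determinant. -/
noncomputable def outside (Y : Matrix ι ι F) : Finset F :=
  Finset.univ.filter fun x => x ≠ 0 ∧ ¬ DetIn Y x

theorem mem_outside {x : F} : x ∈ outside Y ↔ x ≠ 0 ∧ ¬ DetIn Y x := by simp [outside]

open Classical in
/-- The determinants as a finset. -/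
noncomputable def inside (Y : Matrix ι ι F) : Finset F := Finset.univ.filter fun x => DetIn Y x

theorem mem_inside {x : F} : x ∈ inside Y ↔ DetIn Y x := by simp [inside]

theorem outside_card_add : (outside Y).card + (inside Y).card + 1 = Fintype.card F := by
  classical
  have hu : outside Y ∪ inside Y ∪ {0} = Finset.univ := by
    ext x
    simp only [Finset.mem_union, mem_outside, mem_inside, Finset.mem_singleton, Finset.mem_univ, iff_true]
    tauto
  have h1 : Disjoint (outside Y) (inside Y) := Finset.disjoint_left.2 fun x h1 h2 =>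
    (mem_outside.1 h1).2 (mem_inside.1 h2)
  have h2 : Disjoint (outside Y ∪ inside Y) {0} := by
    rw [Finset.disjoint_singleton_right, Finset.mem_union, mem_outside, mem_inside]
    rintro (⟨h, -⟩ | h)
    · exact h rfl
    · exact h.ne_zero rfl
  rw [← Finset.card_univ, ← hu, Finset.card_union_of_disjoint h2, Finset.card_union_of_disjoint h1,
    Finset.card_singleton]

theorem inside_card_le (hY : ¬ Flex Y) : (inside Y).card ≤ (outside Y).card := by
  classical
  obtain ⟨a, ha, hna⟩ : ∃ a : F, a ≠ 0 ∧ ¬ DetIn Y a := by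
    by_contra h
    push Not at h
    exact hY fun d hd => h d hd
  refine Finset.card_le_card_of_injOn (fun x => a * x) (fun x hx => ?_)
    (fun x _ y _ h => mul_left_cancel₀ ha h)
  have hx' := mem_inside.1 hx
  refine mem_outside.2 ⟨mul_ne_zero ha hx'.ne_zero, fun h => hna ?_⟩
  have := h.mul hx'.inv
  rwa [mul_inv_cancel_right₀ hx'.ne_zero] at this

theorem two_le_outside (h4 : 4 ≤ Fintype.card F) (hY : ¬ Flex Y) : 2 ≤ (outside Y).card := by
  have := outside_card_add (Y := Y)
  have := inside_card_le hY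
  omega

/-- An outside scalar different from a given one. -/
theorem exists_outside (h4 : 4 ≤ Fintype.card F) (hY : ¬ Flex Y) (w : F) :
    ∃ a : F, a ≠ 0 ∧ ¬ DetIn Y a ∧ a ≠ w := by
  obtain ⟨a, ha, haw⟩ := Finset.exists_mem_ne (Nat.lt_of_succ_le (two_le_outside h4 hY)) w
  exact ⟨a, (mem_outside.1 ha).1, (mem_outside.1 ha).2, haw⟩

theorem two_eq_zero_of_even (h : Fintype.card F % 2 = 0) : (2 : F) = 0 := by
  haveI : CharP F 2 := by
    obtain ⟨p, hp⟩ := CharP.exists F
    haveI := hp
    obtain ⟨k, hpr, hk⟩ := FiniteField.card F p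
    have : p = 2 := (Nat.prime_dvd_prime_iff_eq Nat.prime_two hpr).1
      ((Nat.prime_two.dvd_of_dvd_pow (n := (k : ℕ)) (m := p)
        (hk ▸ Nat.dvd_of_mod_eq_zero h))) |>.symm
    subst this
    exact hp
  exact CharP.ofNat_eq_zero F 2

/-- An outside scalar avoiding a value and two square roots, or the one exception. -/
theorem exists_outside_two (h4 : 4 ≤ Fintype.card F) (hY : ¬ Flex Y) {p h : F} (hp : p ≠ 0)
    (hh : h ≠ 0) (hph : DetIn Y (p * h)) :
    (∃ a : F, a ≠ 0 ∧ ¬ DetIn Y a ∧ a ≠ h ^ 2 ∧ a ^ 2 ≠ p ^ 2) ∨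
      (p ^ 2 = -1 ∧ h ^ 2 = -1 ∧ ∀ x, DetIn Y x → x ^ 2 = 1) := by
  classical
  by_contra hcon
  push Not at hcon
  obtain ⟨hnone, hexc⟩ := hcon
  have hsub : outside Y ⊆ {h ^ 2, p, -p} := fun a ha => by
    obtain ⟨ha0, han⟩ := mem_outside.1 ha
    simp only [Finset.mem_insert, Finset.mem_singleton]
    by_cases e : a = h ^ 2
    · exact Or.inl e
    · exact Or.inr (eq_or_eq_neg_of_sq_eq_sq _ _ (hnone a ha0 han e))
  have hO := (Finset.card_le_card hsub).trans Finset.card_le_three
  have hsum := outside_card_add (Y := Y)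
  have hle := inside_card_le hY
  have h1 : 1 ∈ inside Y := mem_inside.2 (DetIn.one Y)
  have hpow : ∀ x : F, x ≠ 0 → x ^ (Fintype.card F - 1) = 1 := fun x hx =>
    FiniteField.pow_card_sub_one_eq_one x hx
  rcases Nat.mod_two_eq_zero_or_one (Fintype.card F) with hev | hodd
  · -- four elements
    have h2 := two_eq_zero_of_even hev
    have hneg : -p = p := by linear_combination (-p) * h2
    rw [hneg, Finset.pair_eq_singleton] at hsub
    have hO2 := (Finset.card_le_card hsub).trans Finset.card_le_two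
    have hq : Fintype.card F = 4 := by omega
    have hin : (inside Y).card = 1 := by omega
    have hpair : p * h = 1 := by
      obtain ⟨c, hc⟩ := Finset.card_eq_one.1 hin
      have e1 := mem_inside.2 hph
      rw [hc, Finset.mem_singleton] at e1 h1
      rw [e1, h1]
    have hcube : p ^ 3 = 1 := by
      have := hpow p hp
      rwa [hq] at this
    have : h ^ 2 = p := by
      have hh' : h = p ^ 2 := mul_left_cancel₀ hp (by rw [hpair]; linear_combination -hcube)
      rw [hh']; linear_combination p * hcube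
    rw [this, Finset.pair_eq_singleton] at hsub
    have := (Finset.card_le_card hsub).trans (Finset.card_singleton p).le
    omega
  have hq : Fintype.card F = 5 ∨ Fintype.card F = 7 := by omega
  rcases hq with hq | hq
  · have hsq : ∀ x : F, x ≠ 0 → x ^ 2 = 1 ∨ x ^ 2 = -1 := fun x hx => by
      have := hpow x hx
      rw [hq] at this
      exact sq_eq_one_iff.1 (by rw [← this]; ring)
    have hH : ∀ x, DetIn Y x → x ^ 2 = 1 := by
      intro x hx
      by_contra hx2
      have hx2' := (hsq x hx.ne_zero).resolve_left hx2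
      have : ({1, x, x ^ 2} : Finset F) ⊆ inside Y := by
        intro y hy
        simp only [Finset.mem_insert, Finset.mem_singleton] at hy
        rcases hy with rfl | rfl | rfl
        · exact h1
        · exact mem_inside.2 hx
        · exact mem_inside.2 hx.sq
      have hcard := Finset.card_le_card this
      have hne1 : x ≠ 1 := fun e => hx2 (by rw [e]; ring)
      rw [Finset.card_insert_of_notMem, Finset.card_pair] at hcard
      · omega
      · intro e
        have : x = 1 := by
          have h' : x * x = x * 1 := by rw [mul_one, ← pow_two]; exact e.symm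
          exact mul_left_cancel₀ hx.ne_zero h'
        exact hne1 this
      · simp only [Finset.mem_insert, Finset.mem_singleton, not_or]
        exact ⟨Ne.symm hne1, Ne.symm hx2⟩
    have hprod : p ^ 2 * h ^ 2 = 1 := by rw [← mul_pow]; exact hH _ hph
    rcases hsq p hp with hp2 | hp2
    · rw [hp2, one_mul] at hprod
      have : outside Y ⊆ {-1} := fun a ha => by
        have hmem := hsub ha
        simp only [Finset.mem_insert, Finset.mem_singleton] at hmem ⊢
        have hne : a ≠ 1 := fun e => (mem_outside.1 ha).2 (e ▸ DetIn.one Y)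
        have ha2 : a ^ 2 = 1 := by
          rcases hmem with rfl | rfl | rfl
          · rw [hprod]; ring
          · exact hp2
          · rw [neg_sq]; exact hp2
        exact (sq_eq_one_iff.1 ha2).resolve_left hne
      have := (Finset.card_le_card this).trans (Finset.card_singleton (-1 : F)).le
      omega
    · obtain ⟨x, hx, hx2⟩ := hexc hp2 (by rw [hp2] at hprod; linear_combination -hprod)
      exact hx2 (hH x hx)
  · have hin3 : (inside Y).card = 3 := by omega
    have hout3 : (outside Y).card = 3 := by omega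
    have heq : outside Y = {h ^ 2, p, -p} := Finset.eq_of_subset_of_card_le hsub
      (Finset.card_le_three.trans hout3.ge)
    have hpo := mem_outside.1 (show p ∈ outside Y by rw [heq]; simp)
    have hnpo : -p ∈ outside Y := by rw [heq]; simp
    have himg : (inside Y).image (fun x => p * x) = outside Y := by
      refine Finset.eq_of_subset_of_card_le (fun y hy => ?_) ?_
      · obtain ⟨x, hx, rfl⟩ := Finset.mem_image.1 hy
        have hx' := mem_inside.1 hx
        refine mem_outside.2 ⟨mul_ne_zero hp hx'.ne_zero, fun h' => hpo.2 ?_⟩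
        have := h'.mul hx'.inv
        rwa [mul_inv_cancel_right₀ hx'.ne_zero] at this
      · rw [Finset.card_image_of_injective _ (mul_right_injective₀ hp)]
        omega
    rw [← himg, Finset.mem_image] at hnpo
    obtain ⟨x, hx, hpx⟩ := hnpo
    have hx1 : x = -1 := mul_left_cancel₀ hp (by rw [hpx]; ring)
    subst hx1
    have himg2 : (inside Y).image (fun x => -1 * x) = inside Y := by
      refine Finset.eq_of_subset_of_card_le (fun y hy => ?_) ?_
      · obtain ⟨z, hz, rfl⟩ := Finset.mem_image.1 hy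
        exact mem_inside.2 ((mem_inside.1 hx).mul (mem_inside.1 hz))
      · rw [Finset.card_image_of_injective _ (mul_right_injective₀ (by norm_num))]
    have hprod : ∏ z ∈ inside Y, z = (-1 : F) ^ 3 * ∏ z ∈ inside Y, z := by
      conv_lhs => rw [← himg2]
      rw [Finset.prod_image (fun a _ b _ e => mul_left_cancel₀ (by norm_num) e), Finset.prod_mul_distrib,
        Finset.prod_const, hin3]
    have h0 : ∏ z ∈ inside Y, z ≠ 0 :=
      Finset.prod_ne_zero_iff.2 fun z hz => (mem_inside.1 hz).ne_zero
    have hm1 : (-1 : F) = 1 := by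
      have := mul_right_cancel₀ h0 ((one_mul _).trans hprod)
      linear_combination -this
    have h2 : (2 : F) = 0 := by linear_combination -hm1
    have h7 : ((Fintype.card F : ℕ) : F) = 0 := Nat.cast_card_eq_zero F
    rw [hq, Nat.cast_ofNat] at h7
    exact one_ne_zero (α := F) (by linear_combination h7 - 3 * h2)

end Outside

end CfsgLib.LevCover
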