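import Cfsg.Agent.Lib.LevCover.Step

/-!
# Covering by `n` conjugates
-/

set_option autoImplicit false

namespace CfsgLib.LevCover

open Matrix Polynomial

variable {F : Type*} [Field F]

theorem IsRefl.of_sim {n : ℕ} {δ : F} {R R' : Matrix (Fin n) (Fin n) F} (h : IsRefl δ R)
    (hs : Sim R R') : IsRefl δ R' := by
  obtain ⟨hd, hne, u, w, rfl⟩ := h
  obtain ⟨g, rfl⟩ := hs
  refine ⟨by rw [cj_det, hd], fun h1 => hne (cj_injective g (h1.trans (by simp [cj]))),
    (g : Matrix (Fin n) (Fin n) F) *ᵥ u,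
    w ᵥ* ((g⁻¹ : GL (Fin n) F) : Matrix (Fin n) (Fin n) F), ?_⟩
  rw [cj, mul_add, add_mul, mul_one, ← Units.val_mul, mul_inv_cancel, Units.val_one, mul_vecMulVec,
    vecMulVec_mul]

theorem sim_of_eq {ι : Type*} [Fintype ι] [DecidableEq ι] {A B : Matrix ι ι F} (h : A = B) : Sim A B :=
  h ▸ Sim.refl A

/-- Two reindexings agree up to similarity. -/
theorem sim_reindex_two {ι : Type*} [Fintype ι] [DecidableEq ι] {n : ℕ} (e e' : ι ≃ Fin n)
    (M : Matrix ι ι F) : Sim (Matrix.reindexAlgEquiv F F e M) (Matrix.reindexAlgEquiv F F e' M) := by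
  refine sim_of_mul_eq (P := (e'.symm.trans e).toPEquiv.toMatrix) ?_ ?_
  · rw [Matrix.det_permutation]
    rcases Int.units_eq_one_or (Equiv.Perm.sign (e'.symm.trans e)) with hs | hs <;> simp [hs]
  · rw [PEquiv.toMatrix_toPEquiv_mul, PEquiv.mul_toMatrix_toPEquiv]
    ext i j
    simp

theorem Dec.reindex {m n : ℕ} (σ : Fin m ≃ Fin n) {Y : Matrix (Fin m) (Fin m) F} {l : List F[X]}
    (h : Dec Y l) : Dec (Matrix.reindexAlgEquiv F F σ Y) l := by
  cases h with
  | one e c h =>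
    refine .one (e.trans σ) c ((h.reindex σ).trans ?_)
    refine sim_of_eq ?_
    ext i j
    simp
  | step e c h' ha h =>
    refine .step (e.trans σ) c h' ha ((h.reindex σ).trans ?_)
    refine sim_of_eq ?_
    ext i j
    simp

variable {n : ℕ}

theorem SProd.flex_gprod {Y A : Matrix (Fin n) (Fin n) F} {k : ℕ} (hY : Flex Y) (h : GProd Y k A) :
    SProd Y k A := h.sprod hY

/-- Cyclic matrices of the spectrum are products of two conjugates of determinant one. -/
theorem spair_of_good [DecidableEq F] (hn : 2 ≤ n) {Y : Matrix (Fin n) (Fin n) F} {s : Multiset F}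
    {R L : Set F} (hG : GoodAll Y s R L) (hsimp : Flex Y ∨ ∃ x, s.count x = 1) {z : Fin n → F}
    (hzs : rpoly s = ∏ i, (Polynomial.X - C (z i))) : ∀ H, CycSpec z H → SProd Y 2 H := by
  obtain ⟨g, k, hg, hk, hZ, -, -⟩ := hG 1 1 one_ne_zero one_ne_zero
  have h0 : CycSpec z (cj g Y * cj k Y) := ⟨cyclic_of_lcyc hZ, hZ.1.trans hzs⟩
  intro H hH
  obtain ⟨γ, rfl⟩ := h0.sim hH
  rcases hsimp with hflex | ⟨x, hx⟩
  · exact SProd.flex_gprod hflex (((gprod_one Y g).mul (gprod_one Y k)).cj γ)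
  have hflexH : Flex (cj g Y * cj k Y) := by
    obtain ⟨c, hc⟩ := h0.1.exists_comp
    refine Flex.of_sim hc ?_
    have hmem : x ∈ s := Multiset.one_le_count_iff_mem.1 hx.ge
    refine flex_comp_root c (rpoly_monic (s.erase x)) ?_ (α := x) ?_ ?_
    · rw [rpoly, natDegree_multiset_prod_of_monic _ (fun f hf => by
        obtain ⟨y, -, rfl⟩ := Multiset.mem_map.1 hf
        exact monic_X_sub_C y), Multiset.map_map]
      have := hZ.card
      have := Multiset.card_erase_add_one hmem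
      simp only [Function.comp_def, natDegree_X_sub_C, Multiset.map_const', Multiset.sum_replicate,
        smul_eq_mul, mul_one]
      omega
    · rw [hc.charpoly_eq, h0.2, ← hzs]
      conv_lhs => rw [← Multiset.cons_erase hmem]
      simp [rpoly]
    · rw [Ne, rpoly_eval_eq_zero, ← Multiset.count_pos]
      rw [Multiset.count_erase_self, hx]
      simp
  obtain ⟨c, hc, hcH⟩ := hflexH ((γ : Matrix (Fin n) (Fin n) F).det)⁻¹
    (inv_ne_zero (gl_det_ne_zero γ))
  have hd : ((γ * c : GL (Fin n) F) : Matrix (Fin n) (Fin n) F).det = 1 := by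
    rw [Units.val_mul, det_mul, hc, mul_inv_cancel₀ (gl_det_ne_zero γ)]
  rw [← hcH, cj_cj, cj_mul, cj_cj, cj_cj]
  exact (sprod_one Y _ (by rw [Units.val_mul, det_mul, hd, hg, one_mul])).mul
    (sprod_one Y _ (by rw [Units.val_mul, det_mul, hd, hk, one_mul]))

theorem exists_pairs' [Fintype F] [DecidableEq F] (h4 : 4 ≤ Fintype.card F) {m : ℕ} (hm : 1 ≤ m)
    {Y A : Matrix (Fin (m + 2)) (Fin (m + 2)) F} (hY : ¬ IsScal Y) (hYd : Y.det = 1) {s : Multiset F}
    {R L : Set F} (hG : GoodAll Y s R L) (hs : (0 : F) ∉ s) (hsimp : Flex Y ∨ ∃ x, s.count x = 1)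
    (j : ℕ) (hA : ¬ IsScal A) (hdet : A.det = 1) : SProd Y (j + 4) A := by
  classical
  obtain ⟨g, k, hg, hk, hZ, -, -⟩ := hG 1 1 one_ne_zero one_ne_zero
  obtain ⟨z, hzc, hzf, hzm, hzall, hzs⟩ := exists_contig hZ.card (1 : F)
  have h0 : CycSpec z (cj g Y * cj k Y) := ⟨cyclic_of_lcyc hZ, hZ.1.trans hzs⟩
  have hpair : ∀ H, CycSpec z H → SProd Y 2 H := spair_of_good (by omega) hG hsimp hzs
  obtain ⟨gp, hgp, hB⟩ := exists_pads hY (by rw [hYd]; exact one_ne_zero) hA j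
  set Q := (List.ofFn fun i => cj (gp i) Y).prod with hQ
  have hQd : Q.det = 1 := by rw [GProd.det (k := j) ⟨gp, hQ⟩, hYd, one_pow]
  have hzp : ∏ i, z i = 1 := by rw [← h0.det_eq, det_mul, cj_det, cj_det, hYd, one_mul]
  obtain ⟨H, K, hH, hK, hsim, -⟩ := exists_pairs h4 hm hB hzc (fun i h => hs (h ▸ hzm i))
    (by rw [det_mul, det_nonsing_inv, hQd, hdet, hzp, Ring.inverse_one])
    one_ne_zero (fun i hi => hzf i hi 0 rfl)
  obtain ⟨γ, hγ⟩ := hsim.symm
  rw [cj_mul] at hγ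
  have h4' := ((hpair _ (hH.of_sim ⟨γ, rfl⟩)).mul (hpair _ (hK.of_sim ⟨γ, rfl⟩))).mul
    (⟨gp, hgp, hQ⟩ : SProd Y j Q)
  rw [hγ, Matrix.nonsing_inv_mul_cancel_right _ _ (by rw [hQd]; exact isUnit_one)] at h4'
  rwa [show 2 + 2 + j = j + 4 by omega] at h4'

theorem flex_split {m r : ℕ} (hr : 0 < r) {Y' : Matrix (Fin m) (Fin m) F} {t : F}
    (e : Fin m ⊕ Fin r ≃ Fin n) {Y : Matrix (Fin n) (Fin n) F}
    (hs : Sim Y (Matrix.reindexAlgEquiv F F e (fromBlocks Y' 0 0 (t • 1)))) : Flex Y := by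
  refine Flex.of_sim hs.symm (Flex.reindex e (flex_iff_scl.2 (Scl.right _ ?_)))
  intro d hd
  refine ⟨mkGL (Matrix.diagonal fun i : Fin r => if (i : ℕ) = 0 then d ^ 1 else 1) ?_, ?_, ?_⟩
  · rw [det_diagonal]
    exact Finset.prod_ne_zero_iff.2 fun i _ => by split_ifs <;> simp [hd]
  · rw [coe_mkGL, det_diagonal, Finset.prod_eq_single ⟨0, hr⟩]
    · simp
    · intro i _ hi
      exact if_neg fun e => hi (Fin.ext e)
    · simp
  · exact cj_smul_one _ t

/-- Iterating the step. -/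
theorem ncr_tower {m r₀ k : ℕ} (hr₀ : 0 < r₀) (hm : 2 ≤ m) {Y' : Matrix (Fin m) (Fin m) F}
    (hY' : ¬ IsScal Y') (hd' : Y'.det ≠ 0) {t : F} (ht : t ≠ 0)
    (base : ∀ (n : ℕ) (e : Fin m ⊕ Fin r₀ ≃ Fin n) (A : Matrix (Fin n) (Fin n) F), ¬ IsScal A →
      A.det = (Matrix.reindexAlgEquiv F F e (fromBlocks Y' 0 0 (t • 1))).det ^ k →
      NCR (Matrix.reindexAlgEquiv F F e (fromBlocks Y' 0 0 (t • 1))) k A t) :
    ∀ i n, ∀ (e : Fin m ⊕ Fin (r₀ + i) ≃ Fin n) (A : Matrix (Fin n) (Fin n) F), ¬ IsScal A →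
      A.det = (Matrix.reindexAlgEquiv F F e (fromBlocks Y' 0 0 (t • 1))).det ^ (k + i) →
      NCR (Matrix.reindexAlgEquiv F F e (fromBlocks Y' 0 0 (t • 1))) (k + i) A t := by
  intro i
  induction i with
  | zero => exact base
  | succ i ih =>
    intro n e A hA hdet
    obtain rfl : n = m + (r₀ + i) + 1 := by
      have := Fintype.card_congr e
      simp at this
      omega
    let e₁ : Fin m ⊕ Fin (r₀ + i) ≃ Fin (m + (r₀ + i)) := finSumFinEquiv
    set Y₁ := Matrix.reindexAlgEquiv F F e₁ (fromBlocks Y' 0 0 (t • 1)) with hY₁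
    let f : Fin m ⊕ Fin (r₀ + i + 1) → Fin (m + (r₀ + i) + 1) :=
      Sum.elim (fun a => (e₁ (Sum.inl a)).succ) (Fin.cases 0 fun b => (e₁ (Sum.inr b)).succ)
    have hf : Function.Bijective f := by
      refine (Fintype.bijective_iff_injective_and_card f).2 ⟨?_, by simp; omega⟩
      rintro (a | a) (b | b) h <;> simp only [f, Sum.elim_inl, Sum.elim_inr] at h
      · simpa using h
      · induction b using Fin.cases with
        | zero => simp at h
        | succ b => simp at h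
      · induction a using Fin.cases with
        | zero => exact absurd h (Fin.succ_ne_zero _).symm
        | succ a => simp at h
      · induction a using Fin.cases with
        | zero =>
          induction b using Fin.cases with
          | zero => rfl
          | succ b => exact absurd h (Fin.succ_ne_zero _).symm
        | succ a =>
          induction b using Fin.cases with
          | zero => simp at h
          | succ b => simpa using h
    let E : Fin m ⊕ Fin (r₀ + (i + 1)) ≃ Fin (m + (r₀ + i) + 1) := Equiv.ofBijective f hf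
    have hsucc : hd t 0 0 Y₁ = Matrix.reindexAlgEquiv F F E (fromBlocks Y' 0 0 (t • 1)) := by
      ext a b
      obtain ⟨(a | a), rfl⟩ := E.surjective a <;> obtain ⟨(b | b), rfl⟩ := E.surjective b
      all_goals simp only [Matrix.reindexAlgEquiv_apply, Matrix.reindex_apply, Matrix.submatrix_apply,
        Equiv.symm_apply_apply]
      all_goals simp only [E, Equiv.ofBijective_apply, f, Sum.elim_inl, Sum.elim_inr]
      all_goals (try induction a using Fin.cases)
      all_goals (try induction b using Fin.cases)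
      all_goals simp [hY₁, Matrix.one_apply, (Fin.succ_ne_zero _).symm]
    have hsim : Sim (Matrix.reindexAlgEquiv F F e (fromBlocks Y' 0 0 (t • 1))) (hd t 0 0 Y₁) := by
      rw [hsucc]; exact sim_reindex_two _ _ _
    have hY₁s : ¬ IsScal Y₁ := fun h => by
      obtain ⟨c, hc⟩ := (isScal_reindex e₁ _).1 h
      refine hY' ⟨c, Matrix.ext fun a b => ?_⟩
      have := congrFun (congrFun hc (Sum.inl a)) (Sum.inl b)
      simpa [Matrix.one_apply] using this
    have hY₁d : Y₁.det ≠ 0 := by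
      rw [hY₁, Matrix.det_reindexAlgEquiv, det_fromBlocks_zero₁₂]
      simp [hd', ht]
    have h := ncr_step (k := k + i) (by omega) hY₁s hY₁d ht (ih _ e₁) hA
      (by rw [← hsim.det_eq, hdet]; rfl)
    exact h.base_sim hsim.symm

/-- Everything known after decomposing. -/
theorem exists_shape [Fintype F] {Y : Matrix (Fin n) (Fin n) F} (hY : ¬ IsScal Y) (hYd : Y.det = 1) :
    (∃ l, Dec Y l) ∨ ∃ (m r : ℕ) (t : F) (e : Fin m ⊕ Fin r ≃ Fin n) (Y' : Matrix (Fin m) (Fin m) F)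
      (l : List F[X]), 0 < r ∧ 2 ≤ m ∧ m + r = n ∧ t ≠ 0 ∧ Y'.det ≠ 0 ∧ Dec Y' l ∧ ¬ IsScal Y' ∧
      (∀ g ∈ l, g.eval t = 0) ∧ Sim Y (Matrix.reindexAlgEquiv F F e (fromBlocks Y' 0 0 (t • 1))) := by
  obtain ⟨m, r, t, e, Y', l, hd, hs, hroot, -⟩ := exists_dec Y hY
  rcases Nat.eq_zero_or_pos r with rfl | hr
  · refine Or.inl ⟨l, (hd.reindex ((Equiv.sumEmpty (Fin m) (Fin 0)).symm.trans e)).of_sim ?_⟩
    refine Sim.trans ?_ hs.symm
    refine sim_of_eq ?_
    ext i j
    obtain ⟨(i | i), rfl⟩ := e.surjective i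
    · obtain ⟨(j | j), rfl⟩ := e.surjective j
      · simp
      · exact j.elim0
    · exact i.elim0
  have hm2 : 2 ≤ m := by
    have := hd.two_mul_length
    have := List.length_pos_of_ne_nil hd.ne_nil
    omega
  have hdet : Y'.det * t ^ r = 1 := by
    rw [← hYd, hs.det_eq, Matrix.det_reindexAlgEquiv, det_fromBlocks_zero₁₂]
    simp
  refine Or.inr ⟨m, r, t, e, Y', l, hr, hm2, by simpa using Fintype.card_congr e, ?_,
    left_ne_zero_of_mul_eq_one hdet, hd, ?_, hroot hr, hs⟩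
  · rintro rfl
    rw [zero_pow hr.ne', mul_zero] at hdet
    exact zero_ne_one hdet
  · rintro ⟨c, rfl⟩
    obtain ⟨g, hg⟩ := List.exists_mem_of_ne_nil _ hd.ne_nil
    obtain ⟨hgm, hg2, hann⟩ := hd.mem_facts g hg
    have hle := natDegree_le_of_dvd (hann (X - Polynomial.C c) (by
      simp [Algebra.algebraMap_eq_smul_one])).2 (X_sub_C_ne_zero c)
    rw [natDegree_X_sub_C] at hle
    omega

theorem isRefl_shape [Fintype F] {r : ℕ} {Y' : Matrix (Fin 2) (Fin 2) F} {t : F} (ht : t ≠ 0)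
    {l : List F[X]} (hd : Dec Y' l) (hroot : ∀ g ∈ l, g.eval t = 0) (e : Fin 2 ⊕ Fin r ≃ Fin n)
    {Y : Matrix (Fin n) (Fin n) F}
    (hs : Sim Y (Matrix.reindexAlgEquiv F F e (fromBlocks Y' 0 0 (t • 1)))) :
    IsRefl (t⁻¹ • Y).det (t⁻¹ • Y) := by
  obtain ⟨g, hg⟩ := List.exists_mem_of_ne_nil l hd.ne_nil
  obtain ⟨m, d, e', Y'', c, hc, hsim', -, -⟩ : ∃ (m d : ℕ) (e' : Fin m ⊕ Fin (d + 2) ≃ Fin 2)
      (Y'' : Matrix (Fin m) (Fin m) F) (c : Fin (d + 2) → F), (comp c).charpoly ∈ l ∧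
      Sim Y' (Matrix.reindexAlgEquiv F F e' (fromBlocks Y'' 0 0 (comp c))) ∧ True ∧ True := by
    obtain ⟨f, l', rfl⟩ := List.exists_cons_of_ne_nil hd.ne_nil
    obtain ⟨m, d, e', Y'', c, hc, h, -⟩ := hd.top
    exact ⟨m, d, e', Y'', c, by rw [hc]; exact List.mem_cons_self .., h, trivial, trivial⟩
  have hcard := Fintype.card_congr e'
  simp at hcard
  obtain rfl : m = 0 := by omega
  obtain rfl : d = 0 := by omega
  have hev := hroot _ hc
  rw [Matrix.charpoly_fin_two] at hev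
  simp [Matrix.trace_fin_two, Matrix.det_fin_two, comp] at hev
  have hY' : Sim Y' (comp c) := by
    refine hsim'.trans ?_
    have h2 := sim_reindex_two e' (Equiv.emptySum (Fin 0) (Fin 2)) (fromBlocks Y'' 0 0 (comp c))
    refine h2.trans ?_
    refine sim_of_eq ?_
    ext i j
    simp [Equiv.emptySum]
  have hY : Sim Y (Matrix.reindexAlgEquiv F F e (fromBlocks (comp c) 0 0 (t • 1))) :=
    hs.trans ((sim_fromBlocks hY' (Sim.refl _)).reindex e)
  set B := Matrix.reindexAlgEquiv F F e (fromBlocks (comp c) 0 0 (t • 1)) with hB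
  obtain ⟨k, hk⟩ := hY.symm
  have hsim : Sim (t⁻¹ • B) (t⁻¹ • Y) := ⟨k, by rw [← hk]; simp [cj]⟩
  rw [← hsim.det_eq]
  refine IsRefl.of_sim ⟨rfl, fun h1 => ?_,
    (Sum.elim ![-1, t⁻¹] 0 : Fin 2 ⊕ Fin r → F) ∘ e.symm,
    (Sum.elim ![1, -(c 0) / t] 0 : Fin 2 ⊕ Fin r → F) ∘ e.symm, ?_⟩ hsim
  · have := congrFun (congrFun h1 (e (Sum.inl 1))) (e (Sum.inl 0))
    simp [hB, comp, ht] at this
  · ext a b
    obtain ⟨(a | a), rfl⟩ := e.surjective a <;> obtain ⟨(b | b), rfl⟩ := e.surjective b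
    · fin_cases a <;> fin_cases b <;>
        simp [hB, comp, vecMulVec_apply, Matrix.one_apply] <;> field_simp <;> linear_combination -hev
    · simp [hB, vecMulVec_apply, Matrix.one_apply]
    · simp [hB, vecMulVec_apply, Matrix.one_apply]
    · simp [hB, vecMulVec_apply, Matrix.one_apply, ht]

/-- Reflection classes. -/
theorem cover_refl [Fintype F] (h4 : 4 ≤ Fintype.card F) (hn : 2 ≤ n) {Y : Matrix (Fin n) (Fin n) F}
    (hYd : Y.det = 1) {t : F} (ht : t ≠ 0) (hR : IsRefl (t⁻¹ • Y).det (t⁻¹ • Y))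
    {A : Matrix (Fin n) (Fin n) F} (hA : A.det = 1) (hA' : ¬ IsScal A ∨ A = 1) : GProd Y n A := by
  have hδ : (t⁻¹ • Y).det = t⁻¹ ^ n := by rw [Matrix.det_smul, hYd, mul_one, Fintype.card_fin]
  have hδ0 : t⁻¹ ^ n ≠ 0 := pow_ne_zero _ (inv_ne_zero ht)
  rw [hδ] at hR
  have hcov := refl_cover (h3_of_card h4) hn hδ0 hR (A := t⁻¹ ^ n • A)
    (by rw [Matrix.det_smul, hA, mul_one, Fintype.card_fin]) (hA'.imp (fun h ⟨c, hc⟩ => h
      ⟨(t⁻¹ ^ n)⁻¹ * c, by rw [← smul_smul, ← hc, smul_smul, inv_mul_cancel₀ hδ0, one_smul]⟩)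
      (fun h => by rw [h]))
  obtain ⟨g, hg⟩ := hcov
  refine ⟨g, ?_⟩
  have hsm : ∀ (L : List (Matrix (Fin n) (Fin n) F)) (u : F),
      (L.map fun X => u • X).prod = u ^ L.length • L.prod := by
    intro L u
    induction L with
    | nil => simp
    | cons a L ih => simp [ih, smul_smul, pow_succ]
  have h1 : (List.ofFn fun i => cj (g i) (t⁻¹ • Y)) =
      (List.ofFn fun i => cj (g i) Y).map fun X => t⁻¹ • X := by
    rw [List.map_ofFn]; congr 1; funext i; simp [cj]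
  rw [h1, hsm, List.length_ofFn] at hg
  exact smul_right_injective _ hδ0 hg

variable [Fintype F]

/-- Towers over one scalar. -/
theorem ncr_shape (h4 : 4 ≤ Fintype.card F) {m r : ℕ} {t : F} {Y' : Matrix (Fin m) (Fin m) F}
    {l : List F[X]} (hm : 3 ≤ m) (hr : 0 < r) (ht : t ≠ 0) (hd' : Y'.det ≠ 0) (hd : Dec Y' l)
    (hns : ¬ IsScal Y') (j : ℕ) (e : Fin m ⊕ Fin r ≃ Fin n) {A : Matrix (Fin n) (Fin n) F}
    (hA : ¬ IsScal A)
    (hdet : A.det = (Matrix.reindexAlgEquiv F F e (fromBlocks Y' 0 0 (t • 1))).det ^ (j + 4 + (r - 1))) :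
    GProd (Matrix.reindexAlgEquiv F F e (fromBlocks Y' 0 0 (t • 1))) (j + 4 + (r - 1)) A := by
  obtain ⟨i, rfl⟩ : ∃ i, r = 1 + i := ⟨r - 1, by omega⟩
  rw [show 1 + i - 1 = i by omega] at hdet ⊢
  refine (ncr_tower one_pos (by omega) hns hd' ht (fun n' e' A' hA' hdet' => ?_) i n e A hA hdet).gprod
  obtain ⟨m'', rfl⟩ : ∃ m'', n' = m'' + 2 := ⟨n' - 2, by
    have := Fintype.card_congr e'
    simp at this
    omega⟩
  obtain ⟨s, L, hG, hs, hL⟩ := goodAll_one_scalar h4 hd (hd.coeff_ne hd') ht e' (Sim.refl _)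
  refine ncr_base h4 (by have := Fintype.card_congr e'; simp at this; omega) (fun h => ?_) ?_
    (hG 1 1 one_ne_zero one_ne_zero) hs ht hL j hA' hdet'
  · obtain ⟨c, hc⟩ := (isScal_reindex e' _).1 h
    refine hns ⟨c, Matrix.ext fun a b => ?_⟩
    have := congrFun (congrFun hc (Sum.inl a)) (Sum.inl b)
    simpa [Matrix.one_apply] using this
  · rw [Matrix.det_reindexAlgEquiv, det_fromBlocks_zero₁₂]
    simp [hd', ht]

/-- Towers over two scalars and a cubic. -/
theorem ncr_cubic (h4 : 4 ≤ Fintype.card F) {r : ℕ} {t : F} {Y' : Matrix (Fin 3) (Fin 3) F}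
    {l : List F[X]} (hr : 2 ≤ r) (ht : t ≠ 0) (hd' : Y'.det ≠ 0) (hd : Dec Y' l)
    (hns : ¬ IsScal Y') (e : Fin 3 ⊕ Fin r ≃ Fin n) {A : Matrix (Fin n) (Fin n) F} (hA : ¬ IsScal A)
    (hdet : A.det = (Matrix.reindexAlgEquiv F F e (fromBlocks Y' 0 0 (t • 1))).det ^ (r + 2)) :
    GProd (Matrix.reindexAlgEquiv F F e (fromBlocks Y' 0 0 (t • 1))) (r + 2) A := by
  obtain ⟨i, rfl⟩ : ∃ i, r = 2 + i := ⟨r - 2, by omega⟩
  rw [show 2 + i + 2 = 4 + i by omega] at hdet ⊢
  refine (ncr_tower (k := 4) two_pos (by norm_num) hns hd' ht (fun n' e' A' hA' hdet' => ?_) i n e A hA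
    hdet).gprod
  have hlen := hd.two_mul_length
  obtain ⟨f, l', rfl⟩ := List.exists_cons_of_ne_nil hd.ne_nil
  obtain ⟨m', d, e₂, Y'', c, hc, hsim, -, hrest⟩ := hd.top
  obtain rfl : m' = 0 := by
    rcases hrest with ⟨h, -⟩ | h
    · exact h
    · have := h.two_mul_length
      have := List.length_pos_of_ne_nil h.ne_nil
      have := Fintype.card_congr e₂
      simp at this hlen
      omega
  obtain rfl : d = 1 := by
    have := Fintype.card_congr e₂
    simp at this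
    omega
  have hY' : Sim Y' (comp c) := by
    refine hsim.trans ((sim_reindex_two e₂ (Equiv.emptySum (Fin 0) (Fin 3)) _).trans ?_)
    refine sim_of_eq ?_
    ext a b
    simp [Equiv.emptySum]
  obtain rfl : n' = 5 := by
    have := Fintype.card_congr e'
    simp at this
    omega
  have hcd : (comp c).det ≠ 0 := by rwa [← hY'.det_eq]
  obtain ⟨s, hG, hs, hL⟩ := goodAll_cubic h4 hcd ht
  let σ : (Fin 1 ⊕ Fin 3) ⊕ Fin 1 ≃ Fin 3 ⊕ Fin 2 :=
    ((Equiv.sumCongr (Equiv.sumComm _ _) (Equiv.refl _)).trans (Equiv.sumAssoc _ _ _)).trans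
      (Equiv.sumCongr (Equiv.refl _) finSumFinEquiv)
  have hsim' : Sim (Matrix.reindexAlgEquiv F F (σ.trans e')
      (fromBlocks (fromBlocks (single1 t) 0 0 (comp c)) 0 0 (single1 t)))
      (Matrix.reindexAlgEquiv F F e' (fromBlocks Y' 0 0 (t • 1))) := by
    refine Sim.trans ?_ ((sim_fromBlocks hY'.symm (Sim.refl _)).reindex e')
    refine sim_of_eq ?_
    ext a b
    obtain ⟨((a | a) | a), rfl⟩ := (σ.trans e').surjective a <;>
      obtain ⟨((b | b) | b), rfl⟩ := (σ.trans e').surjective b <;>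
        simp [σ, single1, Matrix.one_apply, Fin.fin_one_eq_zero]
  refine ncr_base h4 (m := 3) (by norm_num) (fun h => ?_) ?_
    ((((hG.reindex (σ.trans e')).of_sim hsim') 1 1 one_ne_zero one_ne_zero)) hs ht
    (fun h => absurd h hL) 0 hA' hdet'
  · obtain ⟨c', hc'⟩ := (isScal_reindex e' _).1 h
    refine hns ⟨c', Matrix.ext fun a b => ?_⟩
    have := congrFun (congrFun hc' (Sum.inl a)) (Sum.inl b)
    simpa [Matrix.one_apply] using this
  · rw [Matrix.det_reindexAlgEquiv, det_fromBlocks_zero₁₂]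
    simp [hd', ht]

/-- Non-scalar elements in dimension at least four. -/
theorem cover_nonscalar (h4 : 4 ≤ Fintype.card F) (hn : 4 ≤ n) {Y A : Matrix (Fin n) (Fin n) F}
    (hY : ¬ IsScal Y) (hYd : Y.det = 1) (hA : ¬ IsScal A) (hAd : A.det = 1) : SProd Y n A := by
  classical
  rcases exists_shape hY hYd with ⟨l, hl⟩ | ⟨m, r, t, e, Y', l, hr, hm2, hmr, ht, hd', hd, hns, hroot, hs⟩
  · obtain ⟨m, rfl⟩ : ∃ m, n = m + 2 := ⟨n - 2, by omega⟩
    obtain ⟨s, hG, hs, hsimp⟩ := goodAll_zero h4 (by omega) hl hYd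
    have := exists_pairs' h4 (by omega) hY hYd hG hs hsimp (m - 2) hA hAd
    rwa [show m - 2 + 4 = m + 2 by omega] at this
  have hflex := flex_split hr e hs
  refine GProd.sprod hflex ?_
  by_cases hm : m = 2
  · subst hm
    exact cover_refl h4 (by omega) hYd ht (isRefl_shape ht hd hroot e hs) hAd (Or.inl hA)
  refine GProd.base_sim hs.symm ?_
  have := ncr_shape h4 (by omega) hr ht hd' hd hns (m - 3) e hA
    (by rw [← hs.det_eq, hYd, one_pow, hAd])
  rwa [show m - 3 + 4 + (r - 1) = n by omega] at this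

/-- The identity in dimension at least five. -/
theorem cover_one (h4 : 4 ≤ Fintype.card F) (hn : 5 ≤ n) {Y : Matrix (Fin n) (Fin n) F}
    (hY : ¬ IsScal Y) (hYd : Y.det = 1) : SProd Y n 1 := by
  classical
  have hu : IsUnit Y.det := by rw [hYd]; exact isUnit_one
  have hA : ¬ IsScal Y⁻¹ := by
    rintro ⟨c, hc⟩
    have h1 := Matrix.nonsing_inv_mul Y hu
    rw [hc, Matrix.smul_mul, one_mul] at h1
    have hc0 : c ≠ 0 := fun h0 => by
      rw [h0, zero_smul] at h1
      have := congrFun (congrFun h1 ⟨0, by omega⟩) ⟨0, by omega⟩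
      simp at this
    exact hY ⟨c⁻¹, by rw [← h1, smul_smul, inv_mul_cancel₀ hc0, one_smul]⟩
  have hAd : (Y⁻¹).det = 1 := by rw [det_nonsing_inv, hYd, Ring.inverse_one]
  suffices h : SProd Y (n - 1) Y⁻¹ by
    have := h.mul (sprod_one Y 1 (by simp))
    rwa [cj_one, Matrix.nonsing_inv_mul Y hu, show n - 1 + 1 = n by omega] at this
  rcases exists_shape hY hYd with ⟨l, hl⟩ | ⟨m, r, t, e, Y', l, hr, hm2, hmr, ht, hd', hd, hns, hroot, hs⟩
  · obtain ⟨m, rfl⟩ : ∃ m, n = m + 2 := ⟨n - 2, by omega⟩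
    obtain ⟨s, hG, hs, hsimp⟩ := goodAll_zero h4 (by omega) hl hYd
    have := exists_pairs' h4 (by omega) hY hYd hG hs hsimp (m - 3) hA hAd
    rwa [show m - 3 + 4 = m + 2 - 1 by omega] at this
  have hflex := flex_split hr e hs
  refine GProd.sprod hflex ?_
  by_cases hm : m = 2
  · subst hm
    have h := cover_refl h4 (by omega) hYd ht (isRefl_shape ht hd hroot e hs) (A := 1) det_one (Or.inr rfl)
    obtain ⟨g, hg⟩ := h
    obtain ⟨k, rfl⟩ : ∃ k, n = k + 1 := ⟨n - 1, by omega⟩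
    rw [List.ofFn_succ', List.concat_eq_append, List.prod_append, List.prod_singleton] at hg
    have hp : GProd Y k ((cj (g (Fin.last k)) Y)⁻¹) := by
      refine ⟨fun i => g i.castSucc, ?_⟩
      exact Matrix.inv_eq_left_inv hg.symm
    have hinv : cj (g (Fin.last k))⁻¹ ((cj (g (Fin.last k)) Y)⁻¹) = Y⁻¹ := by
      refine (Matrix.inv_eq_left_inv ?_).symm
      conv_lhs => arg 2; rw [← cj_one Y, ← inv_mul_cancel (g (Fin.last k)), ← cj_cj]
      rw [← cj_mul, Matrix.nonsing_inv_mul _ (by rw [cj_det]; exact hu)]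
      simp [cj]
    have := hp.cj (g (Fin.last k))⁻¹
    rwa [hinv] at this
  refine GProd.base_sim hs.symm ?_
  have hdet : (Y⁻¹).det = (Matrix.reindexAlgEquiv F F e (fromBlocks Y' 0 0 (t • 1))).det ^ (n - 1) := by
    rw [← hs.det_eq, hYd, one_pow, hAd]
  by_cases hm3 : m = 3
  · subst hm3
    have := ncr_cubic h4 (by omega) ht hd' hd hns e hA
      (by rwa [show r + 2 = n - 1 by omega])
    rwa [show r + 2 = n - 1 by omega] at this
  have := ncr_shape h4 (by omega) hr ht hd' hd hns (m - 4) e hA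
    (by rwa [show m - 4 + 4 + (r - 1) = n - 1 by omega])
  rwa [show m - 4 + 4 + (r - 1) = n - 1 by omega] at this

end CfsgLib.LevCover
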