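import Cfsg.Agent.Lib.LevCover.Triangle

/-!
# Cyclic matrices and triangular matrices with linked diagonal
-/

set_option autoImplicit false

namespace CfsgLib.LevCover

open Matrix Polynomial

variable {F : Type*} [Field F] {d : ℕ}

/-- The companion matrix with last column `c`. -/
def comp (c : Fin d → F) : Matrix (Fin d) (Fin d) F :=
  Matrix.of fun i j => if (j : ℕ) + 1 < d then (if (i : ℕ) = (j : ℕ) + 1 then 1 else 0) else c i

/-- The matrix whose columns are the iterates of `v`. -/
def krylov (M : Matrix (Fin d) (Fin d) F) (v : Fin d → F) : Matrix (Fin d) (Fin d) F :=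
  Matrix.of fun i j => ((M ^ (j : ℕ)) *ᵥ v) i

/-- A matrix with a cyclic vector. -/
def Cyclic (M : Matrix (Fin d) (Fin d) F) : Prop := ∃ v, (krylov M v).det ≠ 0

theorem mul_krylov {M : Matrix (Fin d) (Fin d) F} {v c : Fin d → F}
    (h : (M ^ d) *ᵥ v = krylov M v *ᵥ c) : krylov M v * comp c = M * krylov M v := by
  ext i j
  have hR : (M * krylov M v) i j = ((M ^ ((j : ℕ) + 1)) *ᵥ v) i := by
    rw [pow_succ', ← mulVec_mulVec]
    rfl
  rw [hR]
  by_cases hj : (j : ℕ) + 1 < d
  · rw [Matrix.mul_apply, Finset.sum_eq_single ⟨(j : ℕ) + 1, hj⟩]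
    · simp [krylov, comp, hj]
    · intro b _ hb
      simp [comp, hj, show (b : ℕ) ≠ (j : ℕ) + 1 from fun e => hb (Fin.ext e)]
    · simp
  · rw [show (j : ℕ) + 1 = d by omega, h]
    simp [Matrix.mul_apply, comp, hj, mulVec, dotProduct]

theorem sim_comp {M : Matrix (Fin d) (Fin d) F} {v c : Fin d → F}
    (hv : (krylov M v).det ≠ 0) (h : (M ^ d) *ᵥ v = krylov M v *ᵥ c) : Sim (comp c) M :=
  sim_of_mul_eq hv (mul_krylov h)

theorem Cyclic.exists_comp {M : Matrix (Fin d) (Fin d) F} (h : Cyclic M) :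
    ∃ c, Sim (comp c) M := by
  obtain ⟨v, hv⟩ := h
  refine ⟨(krylov M v)⁻¹ *ᵥ ((M ^ d) *ᵥ v), sim_comp hv ?_⟩
  rw [mulVec_mulVec, Matrix.mul_nonsing_inv _ hv.isUnit, one_mulVec]

/-- The last column from the characteristic polynomial. -/
noncomputable def colOf (p : F[X]) : Fin d → F := fun k => - p.coeff k

theorem sim_comp_charpoly {M : Matrix (Fin d) (Fin d) F} {v : Fin d → F}
    (hv : (krylov M v).det ≠ 0) : Sim (comp (colOf M.charpoly)) M := by
  refine sim_comp hv ?_
  have hdeg : M.charpoly.natDegree = d := by rw [charpoly_natDegree_eq_dim, Fintype.card_fin]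
  have h0 := congrArg (fun B : Matrix (Fin d) (Fin d) F => B *ᵥ v) (Matrix.aeval_self_charpoly M)
  simp only [Polynomial.aeval_eq_sum_range, hdeg, zero_mulVec, Matrix.sum_mulVec, smul_mulVec] at h0
  rw [Finset.sum_range_succ] at h0
  have hlc : M.charpoly.coeff d = 1 :=
    (congrArg M.charpoly.coeff hdeg).symm.trans M.charpoly_monic
  rw [hlc, one_smul, add_comm, add_eq_zero_iff_eq_neg, ← Fin.sum_univ_eq_sum_range
    (fun k => M.charpoly.coeff k • ((M ^ k) *ᵥ v)) d] at h0
  rw [h0]
  funext i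
  simp [mulVec, dotProduct, krylov, colOf, Finset.sum_apply, mul_comm]

theorem Cyclic.sim {M N : Matrix (Fin d) (Fin d) F} (hM : Cyclic M) (hN : Cyclic N)
    (h : M.charpoly = N.charpoly) : Sim M N := by
  obtain ⟨v, hv⟩ := hM
  obtain ⟨w, hw⟩ := hN
  have h1 := sim_comp_charpoly hv
  rw [h] at h1
  exact h1.symm.trans (sim_comp_charpoly hw)

/-- Lower triangular with the given diagonal and no zero below it. -/
def Linked (z : Fin d → F) (Z : Matrix (Fin d) (Fin d) F) : Prop :=
  (∀ i j, i < j → Z i j = 0) ∧ (∀ i, Z i i = z i) ∧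
    ∀ i j : Fin d, (i : ℕ) = (j : ℕ) + 1 → Z i j ≠ 0

theorem Linked.charpoly_eq {z : Fin d → F} {Z : Matrix (Fin d) (Fin d) F} (h : Linked z Z) :
    Z.charpoly = ∏ i, (X - C (z i)) := by
  rw [Matrix.charpoly, Matrix.det_of_isLowerTriangular]
  · exact Finset.prod_congr rfl fun i _ => by rw [charmatrix_apply_eq, h.2.1]
  · intro i j hij
    simp only [OrderDual.toDual_lt_toDual] at hij
    rw [charmatrix_apply_ne _ _ _ hij.ne, h.1 i j hij, map_zero, neg_zero]

theorem Linked.det_eq {z : Fin d → F} {Z : Matrix (Fin d) (Fin d) F} (h : Linked z Z) :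
    Z.det = ∏ i, z i := by
  rw [Matrix.det_of_isLowerTriangular]
  · exact Finset.prod_congr rfl fun i _ => h.2.1 i
  · intro i j hij
    exact h.1 i j hij

/-- The map applying a polynomial of bounded degree to a vector. -/
theorem cyclic_of_surj {M : Matrix (Fin d) (Fin d) F} {v : Fin d → F}
    (h : ∀ w, ∃ p : F[X], aeval M p *ᵥ v = w) : Cyclic M := by
  refine ⟨v, fun hdet => ?_⟩
  obtain ⟨u, hu0, hu⟩ := Matrix.exists_vecMul_eq_zero_iff.2 hdet
  have hperp : ∀ k : ℕ, u ⬝ᵥ ((M ^ k) *ᵥ v) = 0 := by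
    intro k
    induction k using Nat.strong_induction_on with
    | _ k ih =>
      by_cases hk : k < d
      · exact congrFun hu ⟨k, hk⟩
      · obtain ⟨j, rfl⟩ : ∃ j, k = j + d := ⟨k - d, by omega⟩
        have hdeg : M.charpoly.natDegree = d := by rw [charpoly_natDegree_eq_dim, Fintype.card_fin]
        have h0 := congrArg (fun B : Matrix (Fin d) (Fin d) F => u ⬝ᵥ ((M ^ j * B) *ᵥ v))
          (Matrix.aeval_self_charpoly M)
        simp only [Polynomial.aeval_eq_sum_range, hdeg, mul_zero, zero_mulVec, dotProduct_zero,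
          Finset.mul_sum, Matrix.sum_mulVec, dotProduct_sum, Matrix.mul_smul, smul_mulVec,
          dotProduct_smul, ← pow_add] at h0
        have hlc : M.charpoly.coeff d = 1 :=
          (congrArg M.charpoly.coeff hdeg).symm.trans M.charpoly_monic
        rw [Finset.sum_range_succ, Finset.sum_eq_zero (fun i hi => by
          rw [ih (j + i) (by have := Finset.mem_range.1 hi; omega), smul_zero]), zero_add, hlc,
          one_smul] at h0
        exact h0
  refine hu0 (funext fun i => ?_)
  obtain ⟨p, hp⟩ := h (Pi.single i 1)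
  have : u ⬝ᵥ (aeval M p *ᵥ v) = 0 := by
    rw [Polynomial.aeval_eq_sum_range, Matrix.sum_mulVec, dotProduct_sum]
    exact Finset.sum_eq_zero fun k _ => by rw [smul_mulVec, dotProduct_smul, hperp, smul_zero]
  rwa [hp, dotProduct_single, mul_one] at this

theorem Cyclic.surj {M : Matrix (Fin d) (Fin d) F} (h : Cyclic M) :
    ∃ v, ∀ w, ∃ p : F[X], aeval M p *ᵥ v = w := by
  obtain ⟨v, hv⟩ := h
  refine ⟨v, fun w => ⟨∑ k : Fin d, C (((krylov M v)⁻¹ *ᵥ w) k) * X ^ (k : ℕ), ?_⟩⟩
  have e := congrArg (fun B : Matrix (Fin d) (Fin d) F => B *ᵥ w) (Matrix.mul_nonsing_inv _ hv.isUnit)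
  simp only [← mulVec_mulVec, one_mulVec] at e
  conv_rhs => rw [← e]
  rw [map_sum, Matrix.sum_mulVec]
  funext i
  simp only [map_mul, aeval_C, map_pow, aeval_X, Algebra.algebraMap_eq_smul_one, Matrix.smul_mul,
    one_mul, smul_mulVec, Finset.sum_apply, Pi.smul_apply, smul_eq_mul]
  exact Finset.sum_congr rfl fun k _ => mul_comm _ _

theorem Sim.charpoly_eq {A B : Matrix (Fin d) (Fin d) F} : Sim A B → A.charpoly = B.charpoly := by
  rintro ⟨g, rfl⟩
  rw [cj, Matrix.coe_units_inv]
  exact (Matrix.charpoly_units_conj g A).symm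

theorem Cyclic.of_sim {A B : Matrix (Fin d) (Fin d) F} (h : Sim A B) (hA : Cyclic A) :
    Cyclic B := by
  obtain ⟨g, rfl⟩ := h
  obtain ⟨v, hv⟩ := hA.surj
  refine cyclic_of_surj (v := (g : Matrix (Fin d) (Fin d) F) *ᵥ v) fun w => ?_
  obtain ⟨p, hp⟩ := hv (((g⁻¹ : GL (Fin d) F) : Matrix (Fin d) (Fin d) F) *ᵥ w)
  refine ⟨p, ?_⟩
  have he : aeval (cj g A) p = cj g (aeval A p) := by
    let φ : Matrix (Fin d) (Fin d) F →ₐ[F] Matrix (Fin d) (Fin d) F :=
      AlgHom.ofLinearMap
        { toFun := cj g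
          map_add' := fun x y => by simp [cj, mul_add, add_mul]
          map_smul' := fun c x => by simp [cj] }
        (by simp [cj]) (fun x y => cj_mul g x y)
    exact Polynomial.aeval_algHom_apply φ A p
  rw [he, cj, mulVec_mulVec, mul_assoc, ← Units.val_mul, inv_mul_cancel, Units.val_one, mul_one,
    ← mulVec_mulVec, hp, mulVec_mulVec, ← Units.val_mul, mul_inv_cancel, Units.val_one, one_mulVec]

theorem comp_pow_single {c : Fin d → F} (hd : 0 < d) :
    ∀ k (hk : k < d), (comp c ^ k) *ᵥ Pi.single ⟨0, hd⟩ 1 = Pi.single ⟨k, hk⟩ 1 := by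
  intro k
  induction k with
  | zero => intro hk; rw [pow_zero, one_mulVec]
  | succ k ih =>
    intro hk
    rw [pow_succ', ← mulVec_mulVec, ih (by omega), mulVec_single_one]
    funext i
    simp only [col_apply, comp, Matrix.of_apply, hk, if_true, Pi.single_apply, Fin.ext_iff]

theorem cyclic_comp (c : Fin d → F) : Cyclic (comp c) := by
  rcases Nat.eq_zero_or_pos d with hd | hd
  · subst hd
    exact ⟨0, by simp⟩
  refine ⟨Pi.single ⟨0, hd⟩ 1, ?_⟩
  have : krylov (comp c) (Pi.single ⟨0, hd⟩ 1) = 1 := by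
    ext i j
    show ((comp c ^ (j : ℕ)) *ᵥ Pi.single ⟨0, hd⟩ 1) i = _
    rw [comp_pow_single hd _ j.2]
    simp [Matrix.one_apply, Pi.single_apply]
  rw [this, det_one]
  exact one_ne_zero

/-- A one-sided eigenvector detects a cyclic vector. -/
theorem cyclic_left_eigen {M : Matrix (Fin d) (Fin d) F} (h : Cyclic M) {x : F}
    {l l' : Fin d → F} (hl : l ᵥ* M = x • l) (hl' : l' ᵥ* M = x • l') (hne : l ≠ 0) :
    ∃ t : F, l' = t • l := by
  obtain ⟨v, hv⟩ := h.surj
  have ev : ∀ (m : Fin d → F), m ᵥ* M = x • m → ∀ p : F[X],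
      m ⬝ᵥ (aeval M p *ᵥ v) = p.eval x * (m ⬝ᵥ v) := by
    intro m hm p
    induction p using Polynomial.induction_on' with
    | add p q hp hq => rw [map_add, add_mulVec, dotProduct_add, hp, hq, eval_add, add_mul]
    | monomial k a =>
      have hk : ∀ k : ℕ, m ᵥ* (M ^ k) = x ^ k • m := by
        intro k
        induction k with
        | zero => simp
        | succ k ih => rw [pow_succ, ← vecMul_vecMul, ih, smul_vecMul, hm, smul_smul, pow_succ]
      rw [aeval_monomial, Algebra.algebraMap_eq_smul_one, smul_mul_assoc, one_mul, smul_mulVec,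
        dotProduct_smul, dotProduct_mulVec, hk, smul_dotProduct, eval_monomial]
      simp [mul_assoc]
  have h0 : l ⬝ᵥ v ≠ 0 := by
    intro h0
    refine hne (funext fun i => ?_)
    obtain ⟨p, hp⟩ := hv (Pi.single i 1)
    have := ev l hl p
    rw [hp, h0, mul_zero, dotProduct_single, mul_one] at this
    exact this
  refine ⟨(l' ⬝ᵥ v) / (l ⬝ᵥ v), funext fun i => ?_⟩
  obtain ⟨p, hp⟩ := hv (Pi.single i 1)
  have e1 := ev l hl p
  have e2 := ev l' hl' p
  rw [hp, dotProduct_single, mul_one] at e1 e2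
  rw [Pi.smul_apply, smul_eq_mul, e1, e2]
  field_simp

/-- Prepending one diagonal entry to a cyclic matrix. -/
theorem cyclic_hd {L : Matrix (Fin d) (Fin d) F} (hL : Cyclic L) (α : F) (c : Fin d → F)
    (h : ∀ l : Fin d → F, l ≠ 0 → l ᵥ* L = α • l → l ⬝ᵥ c ≠ 0) :
    Cyclic (hd α 0 c L) := by
  obtain ⟨g, hg⟩ := hL.surj
  obtain ⟨u, k, hk, hu⟩ : ∃ (u : Fin d → F) (k : F), k ≠ 0 ∧ c + (L - α • 1) *ᵥ u = k • g := by
    by_cases hdet : (L - α • 1).det = 0
    · obtain ⟨l, hl0, hl⟩ := Matrix.exists_vecMul_eq_zero_iff.2 hdet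
      rw [vecMul_sub, vecMul_smul, vecMul_one, sub_eq_zero] at hl
      obtain ⟨p, hp⟩ := hg c
      obtain ⟨q, hq⟩ := Polynomial.X_sub_C_dvd_sub_C_eval (p := p) (a := α)
      have e : c = (L - α • 1) *ᵥ (aeval L q *ᵥ g) + p.eval α • g := by
        have := congrArg (fun r => aeval L r *ᵥ g) hq
        simp only [map_sub, map_mul, aeval_X, aeval_C, Algebra.algebraMap_eq_smul_one, sub_mulVec,
          smul_mulVec, one_mulVec, hp, ← mulVec_mulVec] at this
        rw [sub_mulVec, smul_mulVec, one_mulVec, ← this]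
        abel
      refine ⟨-(aeval L q *ᵥ g), p.eval α, fun h0 => h l hl0 hl ?_, ?_⟩
      · rw [e, h0, zero_smul, add_zero, dotProduct_mulVec, vecMul_sub, vecMul_smul, vecMul_one, hl,
          sub_self, zero_dotProduct]
      · conv_lhs => rw [e]
        rw [mulVec_neg]
        abel
    · exact ⟨(L - α • 1)⁻¹ *ᵥ (g - c), 1, one_ne_zero, by
        rw [mulVec_mulVec, Matrix.mul_nonsing_inv _ (Ne.isUnit hdet), one_mulVec, one_smul]; abel⟩
  refine cyclic_of_surj (v := Fin.cons 1 u) fun w => ?_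
  set H := hd α 0 c L with hH
  have hmv : ∀ (a : F) (x : Fin d → F),
      H *ᵥ Fin.cons a x = Fin.cons (α * a) (a • c + L *ᵥ x) := by
    intro a x
    funext i
    induction i using Fin.cases with
    | zero => simp [hH, mulVec, dotProduct, Fin.sum_univ_succ]
    | succ i => simp [hH, mulVec, dotProduct, Fin.sum_univ_succ, mul_comm]
  have hmp : ∀ (p : F[X]) (x : Fin d → F),
      aeval H p *ᵥ Fin.cons 0 x = Fin.cons 0 (aeval L p *ᵥ x) := by
    intro p
    induction p using Polynomial.induction_on' with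
    | add p q hp hq =>
      intro x
      rw [map_add, map_add, add_mulVec, add_mulVec, hp, hq]
      funext i
      induction i using Fin.cases <;> simp
    | monomial k a =>
      intro x
      induction k generalizing x with
      | zero =>
        simp only [monomial_zero_left, aeval_C, Algebra.algebraMap_eq_smul_one, smul_mulVec, one_mulVec]
        funext i
        induction i using Fin.cases <;> simp
      | succ k ih =>
        simp only [← monomial_mul_X, map_mul, aeval_X, ← mulVec_mulVec, hmv]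
        rw [mul_zero, zero_smul, zero_add, ih]
  obtain ⟨p, hp⟩ := hg (k⁻¹ • (Fin.tail w - w 0 • u))
  refine ⟨C (w 0) + p * (X - C α), ?_⟩
  have hv : aeval H (X - C α) *ᵥ Fin.cons 1 u = Fin.cons 0 (k • g) := by
    rw [map_sub, aeval_X, aeval_C, Algebra.algebraMap_eq_smul_one, sub_mulVec, smul_mulVec,
      one_mulVec, hmv, ← hu]
    funext i
    induction i using Fin.cases with
    | zero => simp
    | succ i =>
      simp [sub_mulVec, smul_mulVec]
      ring
  rw [map_add, add_mulVec, map_mul, ← mulVec_mulVec, hv, hmp, mulVec_smul, hp, aeval_C,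
    Algebra.algebraMap_eq_smul_one, smul_mulVec, one_mulVec, smul_smul, mul_inv_cancel₀ hk, one_smul]
  funext i
  induction i using Fin.cases with
  | zero => simp
  | succ i => simp [Fin.tail]

end CfsgLib.LevCover
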