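import Cfsg.Agent.Lib.LevCover.Piece

/-!
# Decomposition into companion blocks and one scalar block
-/

set_option autoImplicit false

namespace CfsgLib.LevCover

open Matrix Polynomial Module

variable {F : Type*} [Field F] {n : ℕ}

/-- The minimal polynomial of a vector divides the given one. -/
theorem exists_min_vector (Y : Matrix (Fin n) (Fin n) F) :
    ∃ x : Fin n → F, ∀ a : F[X], aeval Y a *ᵥ x = 0 ↔ minpoly F Y ∣ a := by
  set f := minpoly F Y with hf
  have hf0 : f ≠ 0 := minpoly.ne_zero (Matrix.isIntegral Y)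
  suffices H : ∀ g : F[X], g ∣ f → ∃ x : Fin n → F, ∀ a : F[X], aeval Y a *ᵥ x = 0 ↔ g ∣ a from
    H f dvd_rfl
  intro g
  induction g using UniqueFactorizationMonoid.induction_on_coprime with
  | h0 => intro h; exact absurd (zero_dvd_iff.1 h) hf0
  | h1 h => exact fun _ => ⟨0, fun a => by simp [h.dvd]⟩
  | hpr i hp =>
    rename_i p
    intro hdvd
    rcases Nat.eq_zero_or_pos i with rfl | hi
    · exact ⟨0, fun a => by simp⟩
    obtain ⟨k, hk⟩ : p ∣ f := (dvd_pow_self p hi.ne').trans hdvd
    obtain ⟨h, hh⟩ := hdvd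
    obtain ⟨x, hx⟩ : ∃ x : Fin n → F, aeval Y k *ᵥ x ≠ 0 := by
      by_contra hall
      push Not at hall
      have h0 : aeval Y k = 0 := Matrix.toLin'.injective (LinearMap.ext fun x => by
        simpa using hall x)
      have h1 : f ∣ k := minpoly.dvd F Y h0
      have hk0 : k ≠ 0 := fun e => hf0 (by rw [hk, e, mul_zero])
      obtain ⟨t, ht⟩ := h1
      refine hp.not_unit (IsUnit.of_mul_eq_one t (mul_left_cancel₀ hk0 ?_))
      rw [mul_one]
      calc k * (p * t) = p * k * t := by ring
        _ = k := by rw [← hk, ← ht]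
    refine ⟨aeval Y h *ᵥ x, fun a => ⟨fun ha => ?_, ?_⟩⟩
    · -- reduce to the gcd with the prime power
      classical
      have hg0 : aeval Y (gcd (p ^ i) a) *ᵥ (aeval Y h *ᵥ x) = 0 := by
        obtain ⟨u, v, huv⟩ := exists_gcd_eq_mul_add_mul (p ^ i) a
        rw [huv, map_add, add_mulVec, mul_comm (p ^ i) u, mul_comm a v, map_mul, map_mul,
          ← mulVec_mulVec, ← mulVec_mulVec, ha, mulVec_zero, add_zero,
          mulVec_mulVec _ (aeval Y (p ^ i)), ← map_mul, ← hh, hf, minpoly.aeval, zero_mulVec,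
          mulVec_zero]
      obtain ⟨j, hj, hassoc⟩ := (dvd_prime_pow hp i).1 (gcd_dvd_left (p ^ i) a)
      by_cases hji : j = i
      · rw [← hji]
        exact hassoc.symm.dvd.trans (gcd_dvd_right _ _)
      · exfalso
        apply hx
        obtain ⟨u, hu⟩ : gcd (p ^ i) a ∣ p ^ (i - 1) :=
          hassoc.dvd.trans (pow_dvd_pow p (by omega))
        have hkeq : k = p ^ (i - 1) * h := by
          refine mul_left_cancel₀ hp.ne_zero ?_
          rw [← hk, hh, ← mul_assoc, ← pow_succ', Nat.sub_add_cancel hi]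
        rw [hkeq, hu, mul_comm (gcd _ _) u, mul_assoc, map_mul, ← mulVec_mulVec, map_mul,
          ← mulVec_mulVec, hg0, mulVec_zero]
    · rintro ⟨t, rfl⟩
      rw [mulVec_mulVec, ← map_mul, mul_comm (p ^ i) t, mul_assoc, ← hh, map_mul, hf, minpoly.aeval,
        mul_zero, zero_mulVec]
  | hcp hab h1 h2 =>
    rename_i g₁ g₂
    intro hdvd
    obtain ⟨x, hx⟩ := h1 ((dvd_mul_right _ _).trans hdvd)
    obtain ⟨y, hy⟩ := h2 ((dvd_mul_left _ _).trans hdvd)
    refine ⟨x + y, fun a => ⟨fun ha => ?_, fun ha => ?_⟩⟩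
    · refine hab.mul_dvd ?_ ?_
      · have h : aeval Y (g₂ * a) *ᵥ (x + y) = 0 := by
          rw [map_mul, ← mulVec_mulVec, ha, mulVec_zero]
        rw [mulVec_add, (hy _).2 (dvd_mul_right _ _), add_zero, hx] at h
        exact hab.dvd_of_dvd_mul_left h
      · have h : aeval Y (g₁ * a) *ᵥ (x + y) = 0 := by
          rw [map_mul, ← mulVec_mulVec, ha, mulVec_zero]
        rw [mulVec_add, (hx _).2 (dvd_mul_right _ _), zero_add, hy] at h
        exact hab.symm.dvd_of_dvd_mul_left h
    · rw [mulVec_add, (hx _).2 ((dvd_mul_right _ _).trans ha), (hy _).2 ((dvd_mul_left _ _).trans ha),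
        add_zero]

theorem aeval_mulVec_eq (Y : Matrix (Fin n) (Fin n) F) {p : F[X]} {d : ℕ} (hp : p.natDegree < d)
    (x : Fin n → F) : aeval Y p *ᵥ x = ∑ i : Fin d, p.coeff i • ((Y ^ (i : ℕ)) *ᵥ x) := by
  rw [aeval_eq_sum_range' hp, Matrix.sum_mulVec, ← Fin.sum_univ_eq_sum_range]
  simp only [smul_mulVec]

/-- A polynomial of small degree does not annihilate a companion matrix. -/
theorem comp_aeval_eq_zero {d : ℕ} (hd : 0 < d) {c : Fin d → F} {p : F[X]} (hp : p.natDegree < d)
    (h : aeval (comp c) p *ᵥ Pi.single ⟨0, hd⟩ 1 = 0) : p = 0 := by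
  rw [aeval_mulVec_eq _ hp] at h
  ext k
  by_cases hk : k < d
  · have := congrFun h ⟨k, hk⟩
    simpa [comp_pow_single hd, Pi.single_apply] using this
  · simp [coeff_eq_zero_of_natDegree_lt (lt_of_lt_of_le hp (not_lt.1 hk))]

theorem comp_annihilate {d : ℕ} {f : F[X]} (hm : f.Monic) (hd : f.natDegree = d) (hd0 : 0 < d) :
    aeval (comp (colOf (d := d) f)) f = 0 := by
  set C := comp (colOf (d := d) f)
  set e : Fin d → F := Pi.single ⟨0, hd0⟩ 1 with he
  have hlast : (C ^ d) *ᵥ e = colOf (d := d) f := by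
    obtain ⟨d', rfl⟩ : ∃ d', d = d' + 1 := ⟨d - 1, by omega⟩
    rw [pow_succ', ← mulVec_mulVec, he, comp_pow_single hd0 d' (by omega), mulVec_single_one]
    funext i
    simp [C, comp, col_apply]
  have h0 : aeval C f *ᵥ e = 0 := by
    rw [aeval_eq_sum_range, hd, Matrix.sum_mulVec, Finset.sum_range_succ, smul_mulVec, hlast,
      show f.coeff d = 1 from hd ▸ hm.coeff_natDegree, one_smul,
      ← Fin.sum_univ_eq_sum_range (fun i => (f.coeff i • C ^ i) *ᵥ e),
      Finset.sum_congr rfl (fun (k : Fin d) _ => show (f.coeff k • C ^ (k : ℕ)) *ᵥ e =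
        f.coeff k • Pi.single k 1 by rw [smul_mulVec, he, comp_pow_single hd0 _ k.2])]
    funext i
    simp [colOf, Pi.single_apply, Finset.sum_apply]
  refine Matrix.toLin'.injective ((Pi.basisFun F (Fin d)).ext fun i => ?_)
  rw [Pi.basisFun_apply, Matrix.toLin'_apply, map_zero, LinearMap.zero_apply]
  have hi : (Pi.single i 1 : Fin d → F) = (C ^ (i : ℕ)) *ᵥ e := by rw [he, comp_pow_single hd0 _ i.2]
  rw [hi, mulVec_mulVec]
  have : aeval C f * C ^ (i : ℕ) = C ^ (i : ℕ) * aeval C f := by
    rw [← aeval_X_pow (R := F) (A := Matrix (Fin d) (Fin d) F), ← map_mul, ← map_mul, mul_comm]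
  rw [this, ← mulVec_mulVec, h0, mulVec_zero]

theorem natDegree_sub_lt' {f g : F[X]} {d : ℕ} (hd : 0 < d) (hf : f.Monic) (hg : g.Monic)
    (h1 : f.natDegree = d) (h2 : g.natDegree = d) : (f - g).natDegree < d := by
  by_contra h
  have hle : (f - g).natDegree ≤ d := (natDegree_sub_le _ _).trans (by omega)
  have he : (f - g).natDegree = d := by omega
  have : (f - g).coeff d = 0 := by
    rw [coeff_sub, show f.coeff d = 1 from h1 ▸ hf.coeff_natDegree,
      show g.coeff d = 1 from h2 ▸ hg.coeff_natDegree, sub_self]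
  rw [← he] at this
  have h0 := leadingCoeff_eq_zero.1 this
  rw [h0, natDegree_zero] at he
  omega

theorem eq_charpoly_of_annihilates {d : ℕ} (hd : 0 < d) {c : Fin d → F} {f : F[X]} (hm : f.Monic)
    (hdeg : f.natDegree = d) (h : aeval (comp c) f = 0) : (comp c).charpoly = f := by
  refine sub_eq_zero.1 (comp_aeval_eq_zero hd (c := c) (natDegree_sub_lt' hd (charpoly_monic _) hm
    (by rw [charpoly_natDegree_eq_dim, Fintype.card_fin]) hdeg) ?_)
  rw [map_sub, Matrix.aeval_self_charpoly, h, sub_zero, zero_mulVec]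

theorem charpoly_comp {d : ℕ} {f : F[X]} (hm : f.Monic) (hdeg : f.natDegree = d) (hd : 0 < d) :
    (comp (colOf (d := d) f)).charpoly = f :=
  eq_charpoly_of_annihilates hd hm hdeg (comp_annihilate hm hdeg hd)

/-- Splitting off the largest companion block. -/
theorem exists_split_block (Y : Matrix (Fin n) (Fin n) F) (hY : ¬ IsScal Y) :
    ∃ (m d : ℕ) (e : Fin m ⊕ Fin (d + 2) ≃ Fin n) (Y' : Matrix (Fin m) (Fin m) F)
      (c : Fin (d + 2) → F),
      Sim Y (Matrix.reindexAlgEquiv F F e (fromBlocks Y' 0 0 (comp c))) ∧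
      aeval Y' (comp c).charpoly = 0 := by
  classical
  set f := minpoly F Y with hf
  have hint := Matrix.isIntegral (R := F) Y
  obtain ⟨d, hd⟩ : ∃ d, f.natDegree = d + 2 := by
    haveI : Nonempty (Fin n) := by
      by_contra h
      exact hY ⟨0, Matrix.ext fun i => absurd ⟨i⟩ h⟩
    have h1 : 0 < f.natDegree := minpoly.natDegree_pos hint
    refine ⟨f.natDegree - 2, ?_⟩
    by_contra hne
    have h2 : f.natDegree = 1 := by omega
    refine hY ⟨- f.coeff 0, ?_⟩
    have := minpoly.aeval F Y
    rw [← hf, aeval_eq_sum_range, h2, Finset.sum_range_succ, Finset.sum_range_succ, Finset.sum_range_zero,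
      zero_add, pow_zero, pow_one, show f.coeff 1 = 1 from h2 ▸ (minpoly.monic hint).coeff_natDegree,
      one_smul, add_eq_zero_iff_neg_eq] at this
    rw [← this, neg_smul]
  have hm : f.Monic := minpoly.monic hint
  obtain ⟨x, hx⟩ := exists_min_vector Y
  let c : Fin (d + 2) → F := colOf f
  have hchar : (comp c).charpoly = f := charpoly_comp hm hd (by omega)
  let K : (Fin (d + 2) → F) →ₗ[F] (Fin n → F) := Fintype.linearCombination F fun i : Fin (d + 2) => (Y ^ (i : ℕ)) *ᵥ x
  have hKdef : ∀ a, K a = ∑ i, a i • ((Y ^ (i : ℕ)) *ᵥ x) := fun a => rfl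
  have hKpoly : ∀ a, K a = aeval Y (∑ i : Fin (d + 2), C (a i) * X ^ (i : ℕ)) *ᵥ x := by
    intro a
    rw [hKdef, map_sum, Matrix.sum_mulVec]
    simp [Algebra.algebraMap_eq_smul_one, smul_mulVec]
  have hKinj : Function.Injective K := by
    rw [injective_iff_map_eq_zero]
    intro a ha
    rw [hKpoly, hx] at ha
    have h0 : (∑ i : Fin (d + 2), C (a i) * X ^ (i : ℕ)) = 0 := by
      by_contra hne
      have hle := natDegree_le_of_dvd ha hne
      have hlt : (∑ i : Fin (d + 2), C (a i) * X ^ (i : ℕ)).natDegree ≤ d + 1 :=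
        natDegree_sum_le_of_forall_le _ _ fun i _ => (natDegree_C_mul_X_pow_le _ _).trans (by omega)
      rw [← hf] at hle
      omega
    funext i
    have := congrArg (fun p : F[X] => p.coeff i) h0
    simpa [finsetSum_coeff, coeff_C_mul, coeff_X_pow, Fin.val_inj] using this
  obtain ⟨Kinv, hKinv⟩ := K.exists_leftInverse_of_injective (LinearMap.ker_eq_bot.2 hKinj)
  let l : (Fin n → F) →ₗ[F] F := (LinearMap.proj (Fin.last (d + 1))).comp Kinv
  let G : (Fin n → F) →ₗ[F] (Fin (d + 2) → F) :=
    LinearMap.pi fun i : Fin (d + 2) => l.comp (Matrix.toLin' (Y ^ (i : ℕ)))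
  have hl : ∀ j : ℕ, (hj : j < d + 2) → l ((Y ^ j) *ᵥ x) = if j = d + 1 then 1 else 0 := by
    intro j hj
    have : K (Pi.single ⟨j, hj⟩ 1) = (Y ^ j) *ᵥ x := by
      rw [hKdef, Finset.sum_eq_single ⟨j, hj⟩]
      · simp
      · intro b _ hb; simp [hb]
      · simp
    rw [← this]
    show Kinv (K (Pi.single ⟨j, hj⟩ 1)) (Fin.last (d + 1)) = _
    rw [← LinearMap.comp_apply, hKinv, LinearMap.id_apply, Pi.single_apply]
    simp [Fin.ext_iff, eq_comm]
  have hGK : Function.Injective (G.comp K) := by
    rw [injective_iff_map_eq_zero]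
    intro a ha
    have main : ∀ k : ℕ, ∀ i : Fin (d + 2), (i : ℕ) + k = d + 1 → a i = 0 := by
      intro k
      induction k using Nat.strong_induction_on with
      | _ k ih =>
        intro i hi
        have e := congrFun ha ⟨k, by omega⟩
        simp only [G, LinearMap.comp_apply, LinearMap.pi_apply, Matrix.toLin'_apply, hKdef, map_sum,
          map_smul, mulVec_mulVec, ← pow_add, Pi.zero_apply] at e
        rw [Finset.sum_eq_single i] at e
        · rw [hl _ (by omega), if_pos (by omega), smul_eq_mul, mul_one] at e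
          exact e
        · intro b _ hb
          rcases Nat.lt_or_ge (d + 1) (k + (b : ℕ)) with h' | h'
          · rw [ih (d + 1 - b) (by omega) b (by omega), zero_smul]
          · rw [hl _ (by omega), if_neg fun e => hb (Fin.ext (by omega)), smul_zero]
        · simp
    funext i
    exact main (d + 1 - i) i (by omega)
  have hGsurj : Function.Surjective G := fun b => by
    obtain ⟨a, ha⟩ := LinearMap.surjective_of_injective hGK b
    exact ⟨K a, ha⟩
  set m := finrank F (LinearMap.ker G) with hmdef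
  have hdim : m + (d + 2) = n := by
    have := LinearMap.finrank_range_add_finrank_ker G
    rw [LinearMap.range_eq_top.2 hGsurj, finrank_top, finrank_fin_fun, finrank_fin_fun, ← hmdef] at this
    omega
  let b := (Module.finBasis F (LinearMap.ker G))
  have hinv : ∀ w : Fin n → F, w ∈ LinearMap.ker G → Y *ᵥ w ∈ LinearMap.ker G := by
    intro w hw
    have hw' : ∀ j : ℕ, l ((Y ^ j) *ᵥ w) = 0 := by
      intro j
      induction j using Nat.strong_induction_on with
      | _ j ih =>
        by_cases hj : j < d + 2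
        · exact congrFun (LinearMap.mem_ker.1 hw) ⟨j, hj⟩
        · obtain ⟨k, rfl⟩ : ∃ k, j = k + (d + 2) := ⟨j - (d + 2), by omega⟩
          have h0 := congrArg (fun B : Matrix (Fin n) (Fin n) F => l ((Y ^ k * B) *ᵥ w))
            (minpoly.aeval F Y)
          simp only [← hf, aeval_eq_sum_range, hd, Finset.mul_sum, Matrix.sum_mulVec, map_sum,
            Matrix.mul_smul, smul_mulVec, map_smul, ← pow_add, mul_zero, zero_mulVec, map_zero] at h0
          rw [Finset.sum_range_succ, Finset.sum_eq_zero (fun i hi => by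
            rw [ih (k + i) (by have := Finset.mem_range.1 hi; omega), smul_zero]), zero_add,
            show f.coeff (d + 2) = 1 from hd ▸ hm.coeff_natDegree, one_smul] at h0
          exact h0
    refine LinearMap.mem_ker.2 (funext fun i => ?_)
    show l ((Y ^ (i : ℕ)) *ᵥ (Y *ᵥ w)) = 0
    rw [mulVec_mulVec, ← pow_succ]
    exact hw' _
  let Yr : LinearMap.ker G →ₗ[F] LinearMap.ker G := (Matrix.toLin' Y).restrict fun w hw => by
    rw [Matrix.toLin'_apply]; exact hinv w hw
  let Y' : Matrix (Fin m) (Fin m) F := LinearMap.toMatrix b b Yr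
  let e : Fin m ⊕ Fin (d + 2) ≃ Fin n := finSumFinEquiv.trans (finCongr hdim)
  let Pw : Matrix (Fin n) (Fin m) F := Matrix.of fun i j => (b j : Fin n → F) i
  let Pk : Matrix (Fin n) (Fin (d + 2)) F := Matrix.of fun i j => ((Y ^ (j : ℕ)) *ᵥ x) i
  have hw : Y * Pw = Pw * Y' := by
    ext i j
    have h1 : Yr (b j) = ∑ k, Y' k j • b k := by
      conv_lhs => rw [← b.sum_repr (Yr (b j))]
      simp [Y', LinearMap.toMatrix_apply]
    have h2 := congrArg (fun v : LinearMap.ker G => (v : Fin n → F) i) h1
    simp only [Submodule.coe_sum, Submodule.coe_smul, Finset.sum_apply, Pi.smul_apply, smul_eq_mul] at h2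
    rw [Matrix.mul_apply, Matrix.mul_apply]
    simp only [Pw, Matrix.of_apply]
    refine Eq.trans ?_ (h2.trans (Finset.sum_congr rfl fun k _ => mul_comm _ _))
    simp [Yr, LinearMap.restrict_coe_apply, Matrix.toLin'_apply, mulVec, dotProduct]
  have hk : Y * Pk = Pk * comp c := by
    ext i j
    have hR : (Y * Pk) i j = ((Y ^ ((j : ℕ) + 1)) *ᵥ x) i := by
      rw [pow_succ', ← mulVec_mulVec]; rfl
    rw [hR]
    by_cases hj : (j : ℕ) + 1 < d + 2
    · rw [Matrix.mul_apply, Finset.sum_eq_single ⟨(j : ℕ) + 1, hj⟩]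
      · simp [Pk, comp, show (j : ℕ) ≤ d by omega]
      · intro b' _ hb
        simp [comp, show (j : ℕ) ≤ d by omega, show (b' : ℕ) ≠ (j : ℕ) + 1 from fun e => hb (Fin.ext e)]
      · simp
    · rw [show (j : ℕ) + 1 = d + 2 by omega, Matrix.mul_apply]
      have h0 : aeval Y f *ᵥ x = 0 := by rw [hf, minpoly.aeval, zero_mulVec]
      rw [aeval_eq_sum_range, hd, Matrix.sum_mulVec, Finset.sum_range_succ, smul_mulVec,
        show f.coeff (d + 2) = 1 from hd ▸ hm.coeff_natDegree, one_smul,
        ← Fin.sum_univ_eq_sum_range (fun k => (f.coeff k • Y ^ k) *ᵥ x)] at h0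
      have := congrFun h0 i
      simp [Pk, comp, show ¬ (j : ℕ) ≤ d by omega, c, colOf, smul_mulVec, Finset.sum_apply] at this ⊢
      rw [eq_neg_iff_add_eq_zero]
      simpa [mul_comm, add_comm] using this
  let P := (fromCols Pw Pk).submatrix id e.symm
  have hP : P.det ≠ 0 := by
    intro h
    obtain ⟨v, hv0, hv⟩ := Matrix.exists_mulVec_eq_zero_iff.2 h
    let w : LinearMap.ker G := ∑ j, v (e (Sum.inl j)) • b j
    let a : Fin (d + 2) → F := fun j => v (e (Sum.inr j))
    have hsum : (w : Fin n → F) + K a = 0 := by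
      funext i
      have := congrFun hv i
      simp only [mulVec, dotProduct, P, Matrix.submatrix_apply, id] at this
      rw [← e.sum_comp, Fintype.sum_sum_type] at this
      simp [w, a, hKdef, Pw, Pk, Finset.sum_apply, mulVec, dotProduct, mul_comm] at this ⊢
      exact this
    have ha : a = 0 := hGK (by
      have := congrArg G hsum
      rw [map_add, LinearMap.mem_ker.1 w.2, zero_add, map_zero] at this
      simp [this])
    rw [ha, map_zero, add_zero] at hsum
    have hw0 : w = 0 := Subtype.ext hsum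
    have hvl := fun j => (Fintype.linearIndependent_iff.1 b.linearIndependent) _ hw0 j
    refine hv0 (funext fun i => ?_)
    obtain ⟨(j | j), rfl⟩ := e.surjective i
    · exact hvl j
    · exact congrFun ha j
  refine ⟨m, d, e, Y', c, (sim_of_mul_eq hP ?_).symm, ?_⟩
  · have hblk : fromCols Pw Pk * fromBlocks Y' 0 0 (comp c) = Y * fromCols Pw Pk := by
      rw [fromCols_mul_fromBlocks, mul_fromCols, Matrix.mul_zero, Matrix.mul_zero, add_zero, zero_add,
        hw, hk]
    show P * (fromBlocks Y' 0 0 (comp c)).submatrix e.symm e.symm = Y * P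
    rw [Matrix.submatrix_mul_equiv, hblk, ← Matrix.submatrix_mul_equiv _ _ id (Equiv.refl _) e.symm]
    rfl
  · rw [hchar]
    have key : ∀ p : F[X], Pw * aeval Y' p = aeval Y p * Pw := by
      intro p
      induction p using Polynomial.induction_on' with
      | add p q hp hq => rw [map_add, map_add, Matrix.mul_add, Matrix.add_mul, hp, hq]
      | monomial k a =>
        have hpow : ∀ k : ℕ, Pw * Y' ^ k = Y ^ k * Pw := by
          intro k
          induction k with
          | zero => simp
          | succ k ih =>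
            rw [pow_succ, pow_succ, ← Matrix.mul_assoc, ih, Matrix.mul_assoc, ← hw, Matrix.mul_assoc]
        rw [aeval_monomial, aeval_monomial, Algebra.algebraMap_eq_smul_one, Algebra.algebraMap_eq_smul_one,
          smul_mul_assoc, one_mul, smul_mul_assoc, one_mul, Matrix.mul_smul, Matrix.smul_mul, hpow]
    have h0 : Pw * aeval Y' f = 0 := by rw [key, hf, minpoly.aeval, Matrix.zero_mul]
    ext k j
    have := Fintype.linearIndependent_iff.1 b.linearIndependent (fun k => aeval Y' f k j) (by
      refine Subtype.ext (funext fun i => ?_)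
      have := congrFun (congrFun h0 i) j
      simpa [Matrix.mul_apply, Pw, Finset.sum_apply, mul_comm] using this) k
    simpa using this

/-- A direct sum of companion blocks, largest first in the list. -/
inductive Dec : ∀ {n : ℕ}, Matrix (Fin n) (Fin n) F → List F[X] → Prop
  | one {n d : ℕ} (e : Fin (d + 2) ≃ Fin n) (c : Fin (d + 2) → F) {Y : Matrix (Fin n) (Fin n) F}
      (h : Sim Y (Matrix.reindexAlgEquiv F F e (comp c))) : Dec Y [(comp c).charpoly]
  | step {n m d : ℕ} (e : Fin m ⊕ Fin (d + 2) ≃ Fin n) (c : Fin (d + 2) → F)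
      {Y : Matrix (Fin n) (Fin n) F} {Y' : Matrix (Fin m) (Fin m) F} {l : List F[X]}
      (h' : Dec Y' l) (ha : aeval Y' (comp c).charpoly = 0)
      (h : Sim Y (Matrix.reindexAlgEquiv F F e (fromBlocks Y' 0 0 (comp c)))) :
      Dec Y ((comp c).charpoly :: l)

theorem sim_fromBlocks {ι κ : Type*} [Fintype ι] [DecidableEq ι] [Fintype κ] [DecidableEq κ]
    {A A' : Matrix ι ι F} {D D' : Matrix κ κ F} (hA : Sim A A') (hD : Sim D D') :
    Sim (fromBlocks A 0 0 D) (fromBlocks A' 0 0 D') := by
  obtain ⟨g, rfl⟩ := hA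
  obtain ⟨h, rfl⟩ := hD
  exact ⟨diagGL g h, by rw [cj_diagGL]; simp⟩

theorem sim_scalar_eq {ι : Type*} [Fintype ι] [DecidableEq ι] {A : Matrix ι ι F} {t : F}
    (h : Sim (t • 1) A) : A = t • 1 := by
  obtain ⟨g, rfl⟩ := h
  exact cj_smul_one g t

theorem aeval_reindex {ι κ : Type*} [Fintype ι] [DecidableEq ι] [Fintype κ] [DecidableEq κ]
    (e : ι ≃ κ) (A : Matrix ι ι F) (p : F[X]) :
    aeval (Matrix.reindexAlgEquiv F F e A) p = Matrix.reindexAlgEquiv F F e (aeval A p) :=
  Polynomial.aeval_algHom_apply (Matrix.reindexAlgEquiv F F e).toAlgHom A p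

theorem aeval_fromBlocks {ι κ : Type*} [Fintype ι] [DecidableEq ι] [Fintype κ] [DecidableEq κ]
    (A : Matrix ι ι F) (D : Matrix κ κ F) (p : F[X]) :
    aeval (fromBlocks A 0 0 D) p = fromBlocks (aeval A p) 0 0 (aeval D p) := by
  induction p using Polynomial.induction_on' with
  | add p q hp hq => rw [map_add, map_add, map_add, hp, hq, fromBlocks_add, add_zero, add_zero]
  | monomial k a =>
    have hpow : ∀ k : ℕ, (fromBlocks A 0 0 D) ^ k = fromBlocks (A ^ k) 0 0 (D ^ k) := by
      intro k
      induction k with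
      | zero => simp [fromBlocks_one]
      | succ k ih => rw [pow_succ, ih, fromBlocks_multiply, pow_succ, pow_succ]; simp
    simp only [aeval_monomial, Algebra.algebraMap_eq_smul_one, smul_mul_assoc, one_mul, hpow,
      fromBlocks_smul, smul_zero]

theorem aeval_cj {ι : Type*} [Fintype ι] [DecidableEq ι] (g : GL ι F) (A : Matrix ι ι F) (p : F[X]) :
    aeval (cj g A) p = cj g (aeval A p) := by
  let φ : Matrix ι ι F →ₐ[F] Matrix ι ι F :=
    AlgHom.ofLinearMap
      { toFun := cj g
        map_add' := fun x y => by simp [cj, mul_add, add_mul]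
        map_smul' := fun c x => by simp [cj] }
      (by simp [cj]) (fun x y => cj_mul g x y)
  exact Polynomial.aeval_algHom_apply φ A p

theorem Dec.aeval_zero {Y : Matrix (Fin n) (Fin n) F} {f : F[X]} {l : List F[X]}
    (h : Dec Y (f :: l)) : aeval Y f = 0 := by
  cases h with
  | one e c h =>
    obtain ⟨g, hg⟩ := h
    refine cj_injective g ?_
    rw [← aeval_cj, hg, aeval_reindex, Matrix.aeval_self_charpoly, map_zero]
    simp [cj]
  | step e c h' ha h =>
    obtain ⟨g, hg⟩ := h
    refine cj_injective g ?_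
    rw [← aeval_cj, hg, aeval_reindex, aeval_fromBlocks, ha, Matrix.aeval_self_charpoly,
      fromBlocks_zero, map_zero]
    simp [cj]

theorem Dec.mem_facts {Y : Matrix (Fin n) (Fin n) F} {l : List F[X]} (h : Dec Y l) :
    ∀ g ∈ l, g.Monic ∧ 2 ≤ g.natDegree ∧ ∀ p : F[X], aeval Y p = 0 →
      (p.Monic → p.natDegree ≤ g.natDegree → g = p) ∧ g ∣ p := by
  induction h with
  | one e c h =>
    rename_i d Y
    intro g hg
    rw [List.mem_singleton] at hg
    subst hg
    refine ⟨charpoly_monic _, by simp [charpoly_natDegree_eq_dim], fun p hp => ?_⟩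
    obtain ⟨k, rfl⟩ := h.symm
    rw [aeval_cj, aeval_reindex] at hp
    have hp' : aeval (comp c) p = 0 := by
      have := cj_injective k (hp.trans (show (0 : Matrix _ _ F) = cj k 0 by simp [cj]))
      exact (Matrix.reindexAlgEquiv F F e).injective (by rw [this, map_zero])
    refine ⟨fun hm hle => ?_, ?_⟩
    · rcases Nat.lt_or_ge p.natDegree (d + 2) with h' | h'
      · exact absurd (comp_aeval_eq_zero (by omega) (c := c) h' (by rw [hp', zero_mulVec])) hm.ne_zero
      · rw [charpoly_natDegree_eq_dim, Fintype.card_fin] at hle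
        exact eq_charpoly_of_annihilates (by omega) hm (by omega) hp'
    · have hmod : aeval (comp c) (p %ₘ (comp c).charpoly) = 0 := by
        conv_lhs => rw [modByMonic_eq_sub_mul_div, map_sub, map_mul, Matrix.aeval_self_charpoly,
          zero_mul, sub_zero, hp']
      rw [← modByMonic_eq_zero_iff_dvd (charpoly_monic _)]
      refine comp_aeval_eq_zero (d := d + 2) (by omega) (c := c) ?_ (by rw [hmod, zero_mulVec])
      have := natDegree_modByMonic_lt p (charpoly_monic (comp c)) (fun e => by
        have := congrArg natDegree e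
        simp [charpoly_natDegree_eq_dim] at this)
      rwa [charpoly_natDegree_eq_dim, Fintype.card_fin] at this
  | step e c h' ha h ih =>
    rename_i m d Y Y' l
    intro g hg
    obtain ⟨k, rfl⟩ := h.symm
    have split : ∀ p : F[X], aeval (cj k (Matrix.reindexAlgEquiv F F e (fromBlocks Y' 0 0 (comp c)))) p = 0 →
        aeval Y' p = 0 ∧ aeval (comp c) p = 0 := by
      intro p hp
      rw [aeval_cj, aeval_reindex, aeval_fromBlocks] at hp
      have := cj_injective k (hp.trans (show (0 : Matrix _ _ F) = cj k 0 by simp [cj]))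
      simp only [EmbeddingLike.map_eq_zero_iff] at this
      rw [← fromBlocks_zero, fromBlocks_inj] at this
      exact ⟨this.1, this.2.2.2⟩
    rcases List.mem_cons.1 hg with rfl | hg
    · refine ⟨charpoly_monic _, by simp [charpoly_natDegree_eq_dim], fun p hp => ?_⟩
      have hp' := (split p hp).2
      refine ⟨fun hm hle => ?_, ?_⟩
      · rcases Nat.lt_or_ge p.natDegree (d + 2) with h'' | h''
        · exact absurd (comp_aeval_eq_zero (by omega) (c := c) h'' (by rw [hp', zero_mulVec])) hm.ne_zero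
        · rw [charpoly_natDegree_eq_dim, Fintype.card_fin] at hle
          exact eq_charpoly_of_annihilates (by omega) hm (by omega) hp'
      · have hmod : aeval (comp c) (p %ₘ (comp c).charpoly) = 0 := by
          conv_lhs => rw [modByMonic_eq_sub_mul_div, map_sub, map_mul, Matrix.aeval_self_charpoly,
            zero_mul, sub_zero, hp']
        rw [← modByMonic_eq_zero_iff_dvd (charpoly_monic _)]
        refine comp_aeval_eq_zero (d := d + 2) (by omega) (c := c) ?_ (by rw [hmod, zero_mulVec])
        have := natDegree_modByMonic_lt p (charpoly_monic (comp c)) (fun e => by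
          have := congrArg natDegree e
          simp [charpoly_natDegree_eq_dim] at this)
        rwa [charpoly_natDegree_eq_dim, Fintype.card_fin] at this
    · obtain ⟨h1, h2, h3⟩ := ih g hg
      exact ⟨h1, h2, fun p hp => h3 p (split p hp).1⟩

theorem Dec.of_sim {Y Y' : Matrix (Fin n) (Fin n) F} {l : List F[X]} (h : Dec Y l) (hs : Sim Y Y') :
    Dec Y' l := by
  cases h with
  | one e c h => exact .one e c (hs.symm.trans h)
  | step e c h' ha h => exact .step e c h' ha (hs.symm.trans h)

/-- Block reassociation. -/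
def regroup {m r d : ℕ} {α β γ : Type*} (e₁ : Fin m ⊕ Fin r ≃ α) (e : α ⊕ Fin d ≃ β)
    (e₂ : Fin m ⊕ Fin d ≃ γ) : γ ⊕ Fin r ≃ β :=
  ((Equiv.sumCongr e₂.symm (Equiv.refl _)).trans
    ((Equiv.sumAssoc _ _ _).trans ((Equiv.sumCongr (Equiv.refl _) (Equiv.sumComm _ _)).trans
      (Equiv.sumAssoc _ _ _).symm))).trans ((Equiv.sumCongr e₁ (Equiv.refl _)).trans e)

/-- The full decomposition. -/
theorem exists_dec : ∀ {n : ℕ} (Y : Matrix (Fin n) (Fin n) F), ¬ IsScal Y →
    ∃ (m r : ℕ) (t : F) (e : Fin m ⊕ Fin r ≃ Fin n) (Y' : Matrix (Fin m) (Fin m) F) (l : List F[X]),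
      Dec Y' l ∧ Sim Y (Matrix.reindexAlgEquiv F F e (fromBlocks Y' 0 0 (t • 1))) ∧
      (0 < r → ∀ g ∈ l, g.eval t = 0) ∧ ∀ p : F[X], aeval Y p = 0 → aeval Y' p = 0 := by
  intro n
  induction n using Nat.strong_induction_on with
  | _ n ih =>
    intro Y hY
    obtain ⟨m, d, e, Y₁, c, hsim, hann⟩ := exists_split_block Y hY
    have hsub : ∀ p : F[X], aeval Y p = 0 → aeval Y₁ p = 0 ∧ aeval (comp c) p = 0 := by
      intro p hp
      obtain ⟨k, hk⟩ := hsim
      have : aeval (cj k Y) p = 0 := by rw [aeval_cj, hp]; simp [cj]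
      rw [hk, aeval_reindex, aeval_fromBlocks] at this
      simp only [EmbeddingLike.map_eq_zero_iff] at this
      rw [← fromBlocks_zero, fromBlocks_inj] at this
      exact ⟨this.1, this.2.2.2⟩
    by_cases hs : IsScal Y₁
    · obtain ⟨t, rfl⟩ := hs
      let e' : Fin (d + 2) ⊕ Fin m ≃ Fin n := (Equiv.sumComm _ _).trans e
      refine ⟨d + 2, m, t, e', comp c, [(comp c).charpoly], .one (Equiv.refl _) c ?_, ?_, ?_,
        fun p hp => (hsub p hp).2⟩
      · convert Sim.refl (comp c) using 1
        ext i j; rfl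
      · convert hsim using 1
        ext i j
        obtain ⟨(i | i), rfl⟩ := e.surjective i <;> obtain ⟨(j | j), rfl⟩ := e.surjective j <;>
          simp [e']
      · intro hm g hg
        rw [List.mem_singleton] at hg
        subst hg
        have h0 := congrArg (fun M : Matrix (Fin m) (Fin m) F => M ⟨0, hm⟩ ⟨0, hm⟩) hann
        rw [show t • (1 : Matrix (Fin m) (Fin m) F) = algebraMap F _ t from
          (Algebra.algebraMap_eq_smul_one t).symm, aeval_algebraMap_apply] at h0
        simpa [Algebra.algebraMap_eq_smul_one] using h0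
    · have hm : m < n := by
        have := Fintype.card_congr e
        simp at this
        omega
      obtain ⟨m', r, t, e₁, Y', l, hdec, hsim₁, hroot, hann₁⟩ := ih m hm Y₁ hs
      let e₂ : Fin m' ⊕ Fin (d + 2) ≃ Fin (m' + (d + 2)) := finSumFinEquiv
      refine ⟨m' + (d + 2), r, t, regroup e₁ e e₂, Matrix.reindexAlgEquiv F F e₂ (fromBlocks Y' 0 0 (comp c)),
        (comp c).charpoly :: l, .step e₂ c hdec (hann₁ _ hann) (Sim.refl _), ?_, fun hr g hg => ?_,
        fun p hp => ?_⟩
      · refine hsim.trans ?_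
        refine ((sim_fromBlocks hsim₁ (Sim.refl (comp c))).reindex e).trans ?_
        rw [show Matrix.reindexAlgEquiv F F e (fromBlocks
            (Matrix.reindexAlgEquiv F F e₁ (fromBlocks Y' 0 0 (t • 1))) 0 0 (comp c)) =
          Matrix.reindexAlgEquiv F F (regroup e₁ e e₂) (fromBlocks
            (Matrix.reindexAlgEquiv F F e₂ (fromBlocks Y' 0 0 (comp c))) 0 0 (t • 1)) by
          ext i j
          obtain ⟨(i | i), rfl⟩ := e.surjective i <;> obtain ⟨(j | j), rfl⟩ := e.surjective j <;>
            (try obtain ⟨(i | i), rfl⟩ := e₁.surjective i) <;>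
              (try obtain ⟨(j | j), rfl⟩ := e₁.surjective j) <;>
                simp [regroup, e₂]]
        exact Sim.refl _
      · rcases List.mem_cons.1 hg with rfl | hg
        · obtain ⟨k, hk⟩ := hsim₁
          have h1 : aeval (cj k Y₁) (comp c).charpoly = 0 := by rw [aeval_cj, hann]; simp [cj]
          rw [hk, aeval_reindex, aeval_fromBlocks] at h1
          simp only [EmbeddingLike.map_eq_zero_iff] at h1
          rw [← fromBlocks_zero, fromBlocks_inj] at h1
          have h0 := congrArg (fun M : Matrix (Fin r) (Fin r) F => M ⟨0, hr⟩ ⟨0, hr⟩) h1.2.2.2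
          rw [show t • (1 : Matrix (Fin r) (Fin r) F) = algebraMap F _ t from
            (Algebra.algebraMap_eq_smul_one t).symm, aeval_algebraMap_apply] at h0
          simpa [Algebra.algebraMap_eq_smul_one] using h0
        · exact hroot hr g hg
      · rw [aeval_reindex, aeval_fromBlocks, (hsub p hp).2, hann₁ p (hsub p hp).1, fromBlocks_zero, map_zero]

end CfsgLib.LevCover
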