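import Cfsg.Agent.Lib.LevCover.PivotSmall

/-!
# Factorisation through two cyclic triangular matrices
-/

set_option autoImplicit false

namespace CfsgLib.LevCover

open Matrix Module Polynomial

variable {F : Type*} [Field F] {n : ℕ}

/-- Equal entries occur next to each other. -/
def Contig (z : Fin n → F) : Prop := ∀ i j k, i ≤ j → j ≤ k → z i = z k → z j = z i

theorem Contig.tail {z : Fin (n + 1) → F} (h : Contig z) : Contig fun i : Fin n => z i.succ :=
  fun i j k h1 h2 e => h i.succ j.succ k.succ (by simpa using h1) (by simpa using h2) e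

theorem Linked.tail {z : Fin (n + 1) → F} {Z : Matrix (Fin (n + 1)) (Fin (n + 1)) F}
    (h : Linked z Z) : Linked (fun i : Fin n => z i.succ) (Z.submatrix Fin.succ Fin.succ) :=
  ⟨fun i j hij => h.1 _ _ (by simpa using hij), fun i => h.2.1 _,
    fun i j hij => h.2.2 _ _ (by simpa using hij)⟩

theorem Linked.eq_hd {z : Fin (n + 1) → F} {Z : Matrix (Fin (n + 1)) (Fin (n + 1)) F}
    (h : Linked z Z) :
    Z = hd (z 0) 0 (fun i => Z i.succ 0) (Z.submatrix Fin.succ Fin.succ) := by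
  ext i j
  induction i using Fin.cases with
  | zero =>
    induction j using Fin.cases with
    | zero => simp [h.2.1]
    | succ j => simp [h.1 _ _ (Fin.succ_pos j)]
  | succ i => induction j using Fin.cases <;> simp

theorem Linked.det_sub_ne_zero {z : Fin n → F} {Z : Matrix (Fin n) (Fin n) F} (h : Linked z Z)
    {x : F} (hx : ∀ i, z i ≠ x) : (Z - x • 1).det ≠ 0 := by
  rw [Matrix.det_of_isLowerTriangular]
  · exact Finset.prod_ne_zero_iff.2 fun i _ => by simp [h.2.1, sub_eq_zero, hx i]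
  · intro i j hij
    simp only [OrderDual.toDual_lt_toDual] at hij
    simp [h.1 i j hij, Matrix.one_apply_ne hij.ne]

theorem Linked.cyclic : ∀ {n : ℕ} {z : Fin n → F} {Z : Matrix (Fin n) (Fin n) F},
    Linked z Z → Contig z → Cyclic Z := by
  intro n
  induction n with
  | zero => intro z Z _ _; exact ⟨0, by simp⟩
  | succ n ih =>
    intro z Z h hz
    rw [h.eq_hd]
    refine cyclic_hd (ih h.tail hz.tail) _ _ fun l hl hlZ => ?_
    rcases n with _ | m
    · exact absurd (Subsingleton.elim l 0) hl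
    by_cases e : z (Fin.succ 0) = z 0
    · have he : (Pi.single 0 1 : Fin (m + 1) → F) ᵥ* Z.submatrix Fin.succ Fin.succ =
          z 0 • Pi.single 0 1 := by
        funext j
        induction j using Fin.cases with
        | zero => simpa [h.2.1] using e
        | succ j =>
          simpa using h.1 (Fin.succ 0) j.succ.succ (Fin.succ_lt_succ_iff.2 (Fin.succ_pos j))
      obtain ⟨t, rfl⟩ := cyclic_left_eigen (ih h.tail hz.tail) he hlZ (by simp)
      have ht : t ≠ 0 := fun h0 => hl (by rw [h0, zero_smul])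
      rw [smul_dotProduct, single_dotProduct, one_mul, smul_eq_mul]
      exact mul_ne_zero ht (h.2.2 _ _ (by simp))
    · exfalso
      refine h.tail.det_sub_ne_zero (x := z 0) (fun i hi => e ?_) (Matrix.exists_vecMul_eq_zero_iff.1
        ⟨l, hl, by rw [vecMul_sub, vecMul_smul, vecMul_one, hlZ, sub_self]⟩)
      exact hz 0 (Fin.succ 0) i.succ (Fin.zero_le _) (Fin.succ_le_succ_iff.2 (Fin.zero_le _)) hi.symm

/-- Reversal of the coordinates. -/
def rev (Z : Matrix (Fin n) (Fin n) F) : Matrix (Fin n) (Fin n) F :=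
  Matrix.reindexAlgEquiv F F Fin.revPerm Z

theorem rev_apply (Z : Matrix (Fin n) (Fin n) F) (i j : Fin n) : rev Z i j = Z i.rev j.rev := by
  simp [rev]

theorem Linked.rev {z : Fin n → F} {U : Matrix (Fin n) (Fin n) F} (h : Linked z Uᵀ) :
    Linked (fun i => z i.rev) (CfsgLib.LevCover.rev U) := by
  refine ⟨fun i j hij => ?_, fun i => ?_, fun i j hij => ?_⟩
  · rw [rev_apply]
    exact h.1 _ _ (Fin.rev_lt_rev.2 hij)
  · rw [rev_apply]
    exact h.2.1 _
  · rw [rev_apply]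
    exact h.2.2 j.rev i.rev (by simp only [Fin.val_rev]; omega)

theorem sim_rev (U : Matrix (Fin n) (Fin n) F) : Sim U (rev U) := by
  let P : Matrix (Fin n) (Fin n) F := (Fin.revPerm).toPEquiv.toMatrix
  refine sim_of_mul_eq (P := P) ?_ ?_
  · simp only [P, Matrix.det_permutation]
    rcases Int.units_eq_one_or (Equiv.Perm.sign (Fin.revPerm (n := n))) with h | h <;> simp [h]
  · ext i j
    simp [P, PEquiv.toMatrix_toPEquiv_mul, PEquiv.mul_toMatrix_toPEquiv, rev_apply]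

theorem Linked.cyclic_upper {z : Fin n → F} {U : Matrix (Fin n) (Fin n) F} (h : Linked z Uᵀ)
    (hz : Contig z) : Cyclic U :=
  Cyclic.of_sim (sim_rev U).symm (h.rev.cyclic fun i j k h1 h2 e =>
    (hz k.rev j.rev i.rev (Fin.rev_le_rev.2 h2) (Fin.rev_le_rev.2 h1) e.symm).trans e.symm)

theorem Linked.charpoly_upper {z : Fin n → F} {U : Matrix (Fin n) (Fin n) F} (h : Linked z Uᵀ) :
    U.charpoly = ∏ i, (X - C (z i)) := by
  rw [← Matrix.charpoly_transpose, h.charpoly_eq]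

/-- The diagonal extension of a unit by one. -/
noncomputable def ext1 (Q : GL (Fin n) F) : GL (Fin (n + 1)) F :=
  mkGL (hd 1 0 0 (Q : Matrix (Fin n) (Fin n) F)) (by
    rw [det_hd 1 one_ne_zero]
    simpa using gl_det_ne_zero Q)

theorem cj_ext1 (Q : GL (Fin n) F) (a : F) (r c : Fin n → F) (A : Matrix (Fin n) (Fin n) F) :
    cj (ext1 Q) (hd a r c A) = hd a (r ᵥ* ((Q⁻¹ : GL (Fin n) F) : Matrix (Fin n) (Fin n) F))
      ((Q : Matrix (Fin n) (Fin n) F) *ᵥ c) (cj Q A) := by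
  rw [cj_eq_iff, ext1, coe_mkGL, hd_mul, hd_mul]
  congr 1
  · simp
  · simp [vecMul_vecMul, ← Units.val_mul]
  · simp
  · simp [cj, mul_assoc]

theorem ext1_single (Q : GL (Fin n) F) :
    (ext1 Q : Matrix (Fin (n + 1)) (Fin (n + 1)) F) *ᵥ Pi.single 0 1 = Pi.single 0 1 := by
  rw [ext1, coe_mkGL, ← cons_single, hd_mulVec]
  simp

theorem ext1_zero (Q : GL (Fin n) F) (v : Fin (n + 1) → F) :
    ((ext1 Q : Matrix (Fin (n + 1)) (Fin (n + 1)) F) *ᵥ v) 0 = v 0 := by
  rw [ext1, coe_mkGL, ← Fin.cons_self_tail v, hd_mulVec]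
  simp

/-- The factorised form with spectra `z` and `w`. -/
def LUOut (A : Matrix (Fin (n + 1)) (Fin (n + 1)) F) (b γ : Fin (n + 1) → F)
    (z w : Fin (n + 1) → F) : Prop :=
  ∃ (g : GL (Fin (n + 1)) F) (L U : Matrix (Fin (n + 1)) (Fin (n + 1)) F),
    cj g A = L * U ∧ Linked z L ∧ Linked w Uᵀ ∧
    ((g : Matrix (Fin (n + 1)) (Fin (n + 1)) F) *ᵥ b) 0 ≠ 0 ∧
    (γ ᵥ* ((g⁻¹ : GL (Fin (n + 1)) F) : Matrix (Fin (n + 1)) (Fin (n + 1)) F)) 0 ≠ 0

theorem luOut_one {A : Matrix (Fin 1) (Fin 1) F} {b γ z w : Fin 1 → F} (hb : b ≠ 0) (hγ : γ ≠ 0)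
    (hdet : A.det = ∏ i, z i * w i) : LUOut A b γ z w := by
  have h0 : ∀ v : Fin 1 → F, v ≠ 0 → v 0 ≠ 0 := fun v hv h => hv (funext fun i => by
    rw [Fin.fin_one_eq_zero i, h]; rfl)
  refine ⟨1, Matrix.diagonal z, Matrix.diagonal w, ?_, ?_, ?_, ?_, ?_⟩
  · rw [cj_one]
    ext i j
    simp only [Fin.fin_one_eq_zero i, Fin.fin_one_eq_zero j, diagonal_mul_diagonal,
      diagonal_apply_eq]
    simpa using hdet
  · exact ⟨fun i j h => absurd h (by simp [Fin.fin_one_eq_zero]), fun i => by simp,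
      fun i j h => absurd h (by omega)⟩
  · exact ⟨fun i j h => absurd h (by simp [Fin.fin_one_eq_zero]), fun i => by simp,
      fun i j h => absurd h (by omega)⟩
  · simpa using h0 b hb
  · simpa using h0 γ hγ

theorem luOut_succ {m : ℕ} {A : Matrix (Fin (m + 2)) (Fin (m + 2)) F}
    {b γ z w : Fin (m + 2) → F} (hz : z 0 ≠ 0) (hw : w 0 ≠ 0) (hdet : A.det = ∏ i, z i * w i)
    {P : Matrix (Fin (m + 1)) (Fin (m + 1)) F → Prop} (hstep : StepOut A (z 0 * w 0) b γ P)
    (ih : ∀ (B : Matrix (Fin (m + 1)) (Fin (m + 1)) F) (c r : Fin (m + 1) → F), P B → c ≠ 0 →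
      r ≠ 0 → B.det = (∏ i : Fin (m + 1), z i.succ * w i.succ) →
      LUOut B c r (fun i => z i.succ) fun i => w i.succ) : LUOut A b γ z w := by
  obtain ⟨g, r, c, A₁, hform, hc, hr, hb, hγ, hP⟩ := hstep
  set a := z 0 * w 0 with haeq
  have ha : a ≠ 0 := mul_ne_zero hz hw
  have hdB : (A₁ - a⁻¹ • vecMulVec c r).det = ∏ i : Fin (m + 1), z i.succ * w i.succ := by
    refine mul_left_cancel₀ ha ?_
    rw [← det_hd a ha, ← hform, cj_det, hdet, Fin.prod_univ_succ]
  obtain ⟨g', L, U, hLU, hL, hU, hc', hr'⟩ := ih _ c r hP hc hr hdB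
  set c' := (g' : Matrix (Fin (m + 1)) (Fin (m + 1)) F) *ᵥ c with hc''
  set r' := r ᵥ* ((g'⁻¹ : GL (Fin (m + 1)) F) : Matrix (Fin (m + 1)) (Fin (m + 1)) F) with hr''
  have hrem : cj g' A₁ = a⁻¹ • vecMulVec c' r' + L * U := by
    rw [← hLU, hr'', hc'', cj, cj, mul_sub, sub_mul, ← sub_eq_iff_eq_add']
    congr 1
    rw [Matrix.mul_smul, Matrix.smul_mul, mul_vecMulVec, vecMulVec_mul]
  refine ⟨ext1 g' * g, hd (z 0) 0 ((w 0)⁻¹ • c') L, hd (w 0) ((z 0)⁻¹ • r') 0 U, ?_, ?_, ?_, ?_, ?_⟩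
  · rw [← cj_cj, hform, cj_ext1, hd_mul, ← hc'', ← hr'']
    congr 1
    · simp [haeq]
    · simp [smul_smul, mul_inv_cancel₀ hz]
    · simp [smul_smul, mul_inv_cancel₀ hw]
    · rw [hrem, smul_vecMulVec, vecMulVec_smul, smul_smul, haeq, _root_.mul_inv_rev]
  · refine ⟨blockTriangular_hd_lower hL.1 _ _, fun i => ?_, fun i j hij => ?_⟩
    · induction i using Fin.cases <;> simp [hL.2.1]
    · induction i using Fin.cases with
      | zero => simp at hij
      | succ i =>
        induction j using Fin.cases with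
        | zero =>
          have hi : i = 0 := Fin.ext (by simpa using hij)
          subst hi
          rw [hd_succ_zero]
          simp [hw, hc']
        | succ j => simpa using hL.2.2 i j (by simpa using hij)
  · refine ⟨fun i j hij => blockTriangular_hd_upper (fun i j h => hU.1 j i h) _ _ j i hij,
      fun i => ?_, fun i j hij => ?_⟩
    · induction i using Fin.cases with
      | zero => simp
      | succ i => simpa using hU.2.1 i
    · induction i using Fin.cases with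
      | zero => simp at hij
      | succ i =>
        induction j using Fin.cases with
        | zero =>
          have hi : i = 0 := Fin.ext (by simpa using hij)
          subst hi
          rw [transpose_apply, hd_zero_succ]
          simp [hz, hr']
        | succ j => simpa using hU.2.2 i j (by simpa using hij)
  · rwa [Units.val_mul, ← mulVec_mulVec, ext1_zero]
  · have e : ((ext1 g')⁻¹ : GL (Fin (m + 2)) F).val *ᵥ Pi.single 0 (1 : F) = Pi.single 0 1 := by
      conv_lhs => arg 2; rw [← ext1_single g']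
      exact inv_mulVec_cancel _ _
    have e' : (γ ᵥ* ((ext1 g' * g)⁻¹ : GL (Fin (m + 2)) F).val) ⬝ᵥ Pi.single 0 1 =
        (γ ᵥ* (g⁻¹ : GL (Fin (m + 2)) F).val) ⬝ᵥ Pi.single 0 1 := by
      rw [_root_.mul_inv_rev, Units.val_mul, ← vecMul_vecMul, ← dotProduct_mulVec, e]
    simp only [dotProduct_single, mul_one] at e'
    rwa [e']

theorem lu_two (h4 : 4 ≤ ENat.card F) (A : Matrix (Fin 2) (Fin 2) F) (hA : ¬ IsScal A)
    {z w : Fin 2 → F} (hz : ∀ i, z i ≠ 0) (hw : ∀ i, w i ≠ 0) (hdet : A.det = ∏ i, z i * w i)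
    (hd0 : (A - (z 0 * w 0) • 1).det ≠ 0) {b γ : Fin 2 → F} (hb : b ≠ 0) (hγ : γ ≠ 0) :
    LUOut A b γ z w :=
  luOut_succ (hz 0) (hw 0) hdet (exists_pivot_two h4 A hA hd0 hb hγ)
    fun _ _ _ _ hc hr hd => luOut_one hc hr hd

theorem lu_three (h4 : 4 ≤ ENat.card F) (A : Matrix (Fin 3) (Fin 3) F) (hA : ¬ IsScal A)
    {z w : Fin 3 → F} (hz : ∀ i, z i ≠ 0) (hw : ∀ i, w i ≠ 0) (hdet : A.det = ∏ i, z i * w i)
    (hrk : ∀ i, 2 ≤ rk A (z i * w i)) {b γ : Fin 3 → F} (hb : b ≠ 0) (hγ : γ ≠ 0) :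
    LUOut A b γ z w :=
  luOut_succ (hz 0) (hw 0) hdet
    (exists_pivot_three h4 A hA (a₂ := z 1 * w 1) (a₃ := z 2 * w 2)
      (mul_ne_zero (hz 0) (hw 0)) (mul_ne_zero (hz 1) (hw 1)) (mul_ne_zero (hz 2) (hw 2))
      (by rw [hdet, Fin.prod_univ_three, mul_assoc]) (hrk 0) (hrk 1) (hrk 2) hb hγ)
    fun B _ _ hB hc hr hd => lu_two h4 B hB.1 (fun i => hz _) (fun i => hw _) hd hB.2 hc hr

theorem lu_big [Fintype F] (h4 : 4 ≤ ENat.card F) : ∀ (n : ℕ), 3 ≤ n + 1 →
    ∀ (A : Matrix (Fin (n + 1)) (Fin (n + 1)) F), ¬ IsScal A →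
    ∀ z w : Fin (n + 1) → F, (∀ i, z i ≠ 0) → (∀ i, w i ≠ 0) → A.det = (∏ i, z i * w i) →
    (∀ i, 2 ≤ rk A (z i * w i)) →
    ∀ b γ : Fin (n + 1) → F, b ≠ 0 → γ ≠ 0 → LUOut A b γ z w := by
  classical
  intro n
  induction n with
  | zero => intro h; omega
  | succ n ih =>
    intro hn A hA z w hz hw hdet hrk b γ hb hγ
    by_cases h2 : n + 1 = 2
    · obtain rfl : n = 1 := by omega
      exact lu_three h4 A hA hz hw hdet hrk hb hγ
    have hd0 : A.det ≠ 0 := by
      rw [hdet]; exact Finset.prod_ne_zero_iff.2 fun i _ => mul_ne_zero (hz i) (hw i)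
    obtain ⟨g, r, c, A₁, h1, h2', h3, h4', h5, h6, h7⟩ := exists_pivot_big h4 (by omega) A hA hd0
      (mul_ne_zero (hz 0) (hw 0)) (hrk 0) (Finset.univ.image fun i : Fin (n + 1) => z i.succ * w i.succ)
      (Finset.card_image_le.trans (by simp))
      (fun ν hν => by
        obtain ⟨i, -, rfl⟩ := Finset.mem_image.1 hν
        exact ⟨mul_ne_zero (hz _) (hw _), hrk _⟩) hb hγ
    exact luOut_succ (P := fun B => ¬ IsScal B ∧ ∀ i : Fin (n + 1), 2 ≤ rk B (z i.succ * w i.succ))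
      (hz 0) (hw 0) hdet
      ⟨g, r, c, A₁, h1, h2', h3, h4', h5, h6, fun i => h7 _ (by simp)⟩
      fun B c r hB hc hr hd => ih (by omega) B hB.1 _ _ (fun i => hz _) (fun i => hw _) hd hB.2 c r hc hr

end CfsgLib.LevCover
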