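import Cfsg.Agent.Lib.LevCover.Decomp
import Cfsg.Agent.Lib.ThreeTransp.CycloClass

/-!
# Centralisers with all determinants, and splitting a companion block
-/

set_option autoImplicit false

namespace CfsgLib.LevCover

open Matrix Polynomial

variable {F : Type*} [Field F] {ι κ : Type*} [Fintype ι] [DecidableEq ι] [Fintype κ] [DecidableEq κ]

/-- The centraliser has every `k`-th power as a determinant. -/
def Scl (k : ℕ) (Y : Matrix ι ι F) : Prop :=
  ∀ y : F, y ≠ 0 → ∃ c : GL ι F, (c : Matrix ι ι F).det = y ^ k ∧ cj c Y = Y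

theorem flex_iff_scl {Y : Matrix ι ι F} : Flex Y ↔ Scl 1 Y := by simp [Flex, Scl]

theorem Scl.of_sim {k : ℕ} {Y Y' : Matrix ι ι F} (h : Sim Y Y') (hY : Scl k Y) : Scl k Y' := by
  obtain ⟨g, rfl⟩ := h
  intro y hy
  obtain ⟨c, hc, hcY⟩ := hY y hy
  refine ⟨g * c * g⁻¹, ?_, ?_⟩
  · rw [Units.val_mul, Units.val_mul, Matrix.det_units_conj, hc]
  · rw [cj_cj, inv_mul_cancel_right, ← cj_cj, hcY]

theorem Scl.reindex {k : ℕ} (e : ι ≃ κ) {Y : Matrix ι ι F} (hY : Scl k Y) :
    Scl k (Matrix.reindexAlgEquiv F F e Y) := by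
  intro y hy
  obtain ⟨c, hc, hcY⟩ := hY y hy
  exact ⟨reGL e c, (Matrix.det_reindexAlgEquiv F F e _).trans hc, by rw [← reindex_cj, hcY]⟩

theorem Flex.of_sim {Y Y' : Matrix ι ι F} (h : Sim Y Y') (hY : Flex Y) : Flex Y' :=
  flex_iff_scl.2 ((flex_iff_scl.1 hY).of_sim h)

theorem Flex.reindex (e : ι ≃ κ) {Y : Matrix ι ι F} (hY : Flex Y) :
    Flex (Matrix.reindexAlgEquiv F F e Y) := flex_iff_scl.2 ((flex_iff_scl.1 hY).reindex e)

theorem Scl.left {k : ℕ} {A : Matrix ι ι F} (D : Matrix κ κ F) (hA : Scl k A) :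
    Scl k (fromBlocks A 0 0 D) := fun y hy => by
  obtain ⟨c, hc, hcA⟩ := hA y hy
  exact ⟨diagGL c 1, by simp [det_diagGL, hc], by simp [cj_diagGL, hcA, cj_one]⟩

theorem Scl.right {k : ℕ} (A : Matrix ι ι F) {D : Matrix κ κ F} (hD : Scl k D) :
    Scl k (fromBlocks A 0 0 D) := fun y hy => by
  obtain ⟨c, hc, hcD⟩ := hD y hy
  exact ⟨diagGL 1 c, by simp [det_diagGL, hc], by simp [cj_diagGL, hcD, cj_one]⟩

theorem scl_card (Y : Matrix ι ι F) : Scl (Fintype.card ι) Y := fun y hy =>
  ⟨mkGL (y • 1) (by simp [hy]), by simp, by rw [cj_eq_iff]; simp⟩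

theorem flex_of_scl_coprime {Y : Matrix ι ι F} (h3 : Scl 3 Y) (h2 : Scl 2 Y) : Flex Y := by
  intro d hd
  obtain ⟨c, hc, hcY⟩ := h3 d hd
  obtain ⟨c', hc', hcY'⟩ := h2 d⁻¹ (inv_ne_zero hd)
  refine ⟨c * c', ?_, by rw [← cj_cj, hcY', hcY]⟩
  rw [Units.val_mul, det_mul, hc, hc']
  field_simp

theorem Dec.scl {n : ℕ} {Y : Matrix (Fin n) (Fin n) F} {l : List F[X]} (h : Dec Y l) {g : F[X]}
    (hg : g ∈ l) {k : ℕ}
    (hblock : ∀ (d : ℕ) (c : Fin (d + 2) → F), (comp c).charpoly = g → Scl k (comp c)) : Scl k Y := by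
  induction h with
  | one e c h =>
    rw [List.mem_singleton] at hg
    exact ((hblock _ c hg.symm).reindex e).of_sim h.symm
  | step e c h' ha h ih =>
    rcases List.mem_cons.1 hg with rfl | hg
    · exact (((hblock _ c rfl).right _).reindex e).of_sim h.symm
    · exact (((ih hg).left _).reindex e).of_sim h.symm

theorem Dec.scl_deg {n : ℕ} {Y : Matrix (Fin n) (Fin n) F} {l : List F[X]} (h : Dec Y l) {g : F[X]}
    (hg : g ∈ l) : Scl g.natDegree Y := h.scl hg fun d c e => by
  rw [← e, charpoly_natDegree_eq_dim]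
  exact scl_card _

theorem flex_comp_irreducible [Fintype F] {d : ℕ} (c : Fin d → F)
    (hi : Irreducible (comp c).charpoly) : Flex (comp c) := by
  intro t ht
  obtain ⟨h, hc, hdet⟩ := CfsgLib.ThreeTransp.CycloClass.exists_det hi
    (by rw [charpoly_natDegree_eq_dim, Fintype.card_fin]) (Matrix.aeval_self_charpoly _) t
  exact ⟨mkGL h (hdet ▸ ht), hdet, (cj_eq_iff _ _ _).2 hc.symm.symm⟩

theorem Dec.flex_irreducible [Fintype F] {n : ℕ} {Y : Matrix (Fin n) (Fin n) F} {l : List F[X]}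
    (h : Dec Y l) {g : F[X]} (hg : g ∈ l) (hi : Irreducible g) : Flex Y :=
  flex_iff_scl.2 (h.scl hg fun _ c e => flex_iff_scl.1 (flex_comp_irreducible c (e ▸ hi)))

theorem cyclic_join {a b : ℕ} (ha : 0 < a) (hb : 0 < b) (cb : Fin b → F) (ca : Fin a → F) :
    Cyclic (Matrix.reindexAlgEquiv F F (finSumFinEquiv (m := b) (n := a))
      (fromBlocks (comp cb) 0 (Matrix.single ⟨0, ha⟩ ⟨b - 1, by omega⟩ 1) (comp ca))) := by
  set p : Matrix (Fin a) (Fin b) F := Matrix.single ⟨0, ha⟩ ⟨b - 1, by omega⟩ 1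
  set B := fromBlocks (comp cb) 0 p (comp ca)
  set e := finSumFinEquiv (m := b) (n := a)
  set v : Fin b ⊕ Fin a → F := Sum.elim (Pi.single ⟨0, hb⟩ 1) 0 with hv
  -- every vector is reached
  have reach : ∀ w : Fin b ⊕ Fin a → F, ∃ q : F[X], aeval B q *ᵥ v = w := by
    let S : Submodule F (Fin b ⊕ Fin a → F) :=
      { carrier := {w | ∃ q : F[X], aeval B q *ᵥ v = w}
        add_mem' := fun ⟨q, hq⟩ ⟨q', hq'⟩ => ⟨q + q', by rw [map_add, add_mulVec, hq, hq']⟩
        zero_mem' := ⟨0, by simp⟩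
        smul_mem' := fun t w ⟨q, hq⟩ => ⟨t • q, by rw [map_smul, smul_mulVec, hq]⟩ }
    have hstep : ∀ w ∈ S, B *ᵥ w ∈ S := fun w ⟨q, hq⟩ => ⟨X * q, by
      rw [map_mul, aeval_X, ← mulVec_mulVec, hq]⟩
    have hleft : ∀ k (hk : k < b), (Sum.elim (Pi.single ⟨k, hk⟩ 1) 0 : Fin b ⊕ Fin a → F) ∈ S := by
      intro k
      induction k with
      | zero => intro hk; exact ⟨1, by rw [map_one, one_mulVec, hv]⟩
      | succ k ih =>
        intro hk
        have h1 := hstep _ (ih (by omega))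
        have hp : p *ᵥ (Pi.single ⟨k, by omega⟩ 1 : Fin b → F) = 0 := by
          funext i
          simp [p, mulVec_single_one, col_apply, Matrix.single_apply,
            show ¬ (b - 1 = k) by omega]
        rw [fromBlocks_mulVec, Sum.elim_comp_inl, Sum.elim_comp_inr, hp,
          comp_single (j := (⟨k, by omega⟩ : Fin b)) (by simpa using hk), mulVec_zero, mulVec_zero,
          add_zero, add_zero] at h1
        exact h1
    have hleft' : ∀ u : Fin b → F, (Sum.elim u 0 : Fin b ⊕ Fin a → F) ∈ S := by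
      intro u
      have : (Sum.elim u 0 : Fin b ⊕ Fin a → F) =
          ∑ k, u k • (Sum.elim (Pi.single k 1) 0 : Fin b ⊕ Fin a → F) := by
        ext (i | i) <;> simp [Finset.sum_apply, Pi.single_apply]
      rw [this]
      exact sum_mem fun k _ => S.smul_mem _ (hleft k k.2)
    have hright : ∀ k (hk : k < a), (Sum.elim 0 (Pi.single ⟨k, hk⟩ 1) : Fin b ⊕ Fin a → F) ∈ S := by
      intro k
      induction k with
      | zero =>
        intro hk
        have h1 := hstep _ (hleft (b - 1) (by omega))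
        rw [fromBlocks_mulVec, Sum.elim_comp_inl, Sum.elim_comp_inr, mulVec_zero, mulVec_zero,
          add_zero, add_zero] at h1
        have h2 := sub_mem h1 (hleft' ((comp cb) *ᵥ Pi.single ⟨b - 1, by omega⟩ 1))
        convert h2 using 1
        ext (i | i) <;> simp [p, mulVec_single_one, col_apply, Matrix.single_apply, Pi.single_apply,
          Fin.ext_iff, eq_comm]
      | succ k ih =>
        intro hk
        have h1 := hstep _ (ih (by omega))
        rw [fromBlocks_mulVec, Sum.elim_comp_inl, Sum.elim_comp_inr,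
          comp_single (j := (⟨k, by omega⟩ : Fin a)) (by simpa using hk), zero_mulVec] at h1
        simp only [mulVec_zero, zero_add] at h1
        exact h1
    intro w
    have hw : w = Sum.elim (w ∘ Sum.inl) 0 + ∑ k, w (Sum.inr k) •
        (Sum.elim 0 (Pi.single k 1) : Fin b ⊕ Fin a → F) := by
      ext (i | i) <;> simp [Finset.sum_apply, Pi.single_apply]
    show w ∈ S
    rw [hw]
    exact add_mem (hleft' _) (sum_mem fun k _ => S.smul_mem _ (hright k k.2))
  refine cyclic_of_surj (v := v ∘ e.symm) fun w => ?_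
  obtain ⟨q, hq⟩ := reach (w ∘ e)
  refine ⟨q, funext fun i => ?_⟩
  rw [aeval_reindex]
  have := congrFun hq (e.symm i)
  simp only [mulVec, dotProduct, Function.comp_apply, Equiv.apply_symm_apply] at this
  rw [← this]
  simp only [mulVec, dotProduct, Matrix.reindexAlgEquiv_apply, Matrix.reindex_apply,
    Matrix.submatrix_apply, Function.comp_apply]
  exact (e.symm.sum_comp (fun j => aeval B q (e.symm i) j * v j))

/-- Splitting a companion block along a factorisation. -/
theorem sim_split {d a b : ℕ} (c : Fin d → F) {A B : F[X]} (hA : A.Monic) (hB : B.Monic)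
    (ha : A.natDegree = a) (hb : B.natDegree = b) (ha0 : 0 < a) (hb0 : 0 < b)
    (h : (comp c).charpoly = A * B) :
    ∃ (e : Fin b ⊕ Fin a ≃ Fin d) (p : Matrix (Fin a) (Fin b) F),
      Sim (comp c) (Matrix.reindexAlgEquiv F F e
        (fromBlocks (comp (colOf (d := b) B)) 0 p (comp (colOf (d := a) A)))) := by
  have hd : d = b + a := by
    have := congrArg natDegree h
    rw [charpoly_natDegree_eq_dim, Fintype.card_fin, natDegree_mul hA.ne_zero hB.ne_zero, ha, hb] at this
    omega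
  subst hd
  refine ⟨finSumFinEquiv, _, (cyclic_comp c).sim (cyclic_join ha0 hb0 _ _) ?_⟩
  rw [Matrix.coe_reindexAlgEquiv, Matrix.charpoly_reindex, Matrix.charpoly_fromBlocks_zero₁₂,
    charpoly_comp hB hb hb0, charpoly_comp hA ha ha0, h, mul_comm]

theorem comp_linear (α : F) : comp (colOf (d := 1) (X - C α)) = single1 α := by
  ext i j
  simp [comp, colOf, single1, Fin.fin_one_eq_zero]

/-- A simple root gives every determinant. -/
theorem flex_comp_root {d : ℕ} (c : Fin d → F) {α : F} {h : F[X]} (hh : h.Monic)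
    (hd : 0 < h.natDegree) (he : (comp c).charpoly = (X - C α) * h) (hα : h.eval α ≠ 0) :
    Flex (comp c) := by
  obtain ⟨e, p, hsim⟩ := sim_split c (monic_X_sub_C α) hh (natDegree_X_sub_C α) rfl one_pos hd he
  rw [comp_linear] at hsim
  refine Flex.of_sim hsim.symm (Flex.reindex e ?_)
  set D := comp (colOf (d := h.natDegree) h)
  have hne : (D - α • 1).det ≠ 0 := fun h0 => hα (by
    rw [← charpoly_comp hh rfl hd, Matrix.eval_charpoly]
    have : Matrix.scalar (Fin h.natDegree) α - D = -(D - α • 1) := by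
      rw [neg_sub, Matrix.scalar_apply, ← Matrix.smul_one_eq_diagonal]
    rw [this, Matrix.det_neg, h0, mul_zero])
  let U : Matrix (Fin 1) (Fin h.natDegree) F := -(p * (D - α • 1)⁻¹)
  have hU : U * D - single1 α * U = -p := by
    have : U * D - single1 α * U = U * (D - α • 1) := by
      simp [single1, Matrix.mul_sub]
    rw [this, Matrix.neg_mul, Matrix.mul_assoc, Matrix.nonsing_inv_mul _ hne.isUnit, Matrix.mul_one]
  have hd0 : Sim (fromBlocks D 0 p (single1 α)) (fromBlocks D 0 0 (single1 α)) :=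
    ⟨uniGL U, by rw [cj_uniGL, hU, add_neg_cancel]⟩
  exact Flex.of_sim hd0.symm (flex_iff_scl.2 ((flex_iff_scl.1 (flex_single α)).right D))

end CfsgLib.LevCover
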