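import Cfsg.Agent.Lib.LevCover.Special

/-!
# Two blocks of size two with one eigenvalue in dimension four
-/

set_option autoImplicit false

namespace CfsgLib.LevCover

open Matrix Polynomial

variable {F : Type*} [Field F]

/-- Scaling the lone weight. -/
theorem scale0_conj {w d : F} (hd : d ≠ 0) (μ : F) :
    cj (scale0 (n := 4) d hd) (!![0, 0, 0, 0; 0, 0, 0, 0; 0, 1, 0, 0; w, 0, 0, 0]) =
        !![0, 0, 0, 0; 0, 0, 0, 0; 0, 1, 0, 0; w / d, 0, 0, 0] ∧
      cj (scale0 (n := 4) d hd) (!![0, 0, 0, 0; 0, 0, μ, 0; 0, 0, 0, 0; w, 0, 0, 0]) =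
        !![0, 0, 0, 0; 0, 0, μ, 0; 0, 0, 0, 0; w / d, 0, 0, 0] := by
  constructor <;>
  · rw [cj_eq_iff, scale0, coe_mkGL]
    ext i j
    rw [diagonal_mul, mul_diagonal]
    fin_cases i <;> fin_cases j <;> simp [hd]

theorem half_four {w μ : F} (hw : w ≠ 0) (hμ : μ ≠ 0) :
    Half (!![0, 0, 0, 0; 0, 0, 0, 0; 0, 1, 0, 0; w, 0, 0, 0] : Matrix (Fin 4) (Fin 4) F) ∧
      Half (!![0, 0, 0, 0; 0, 0, μ, 0; 0, 0, 0, 0; w, 0, 0, 0] : Matrix (Fin 4) (Fin 4) F) := by
  constructor
  · refine half_pairing (fun j => j = 0 ∨ j = 1) ![3, 2, 0, 0] ?_ ?_ ?_ ![w, 1, 1, 1]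
      (fun j => by fin_cases j <;> simp [hw]) _ fun i j => by
        fin_cases i <;> fin_cases j <;> simp
    · intro j j'; fin_cases j <;> fin_cases j' <;> simp
    · intro j; fin_cases j <;> simp
    · intro i hi
      fin_cases i <;> simp at hi
      · exact ⟨1, by simp⟩
      · exact ⟨0, by simp⟩
  · refine half_pairing (fun j => j = 0 ∨ j = 2) ![3, 0, 1, 0] ?_ ?_ ?_ ![w, 1, μ, 1]
      (fun j => by fin_cases j <;> simp [hw, hμ]) _ fun i j => by
        fin_cases i <;> fin_cases j <;> simp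
    · intro j j'; fin_cases j <;> fin_cases j' <;> simp
    · intro j; fin_cases j <;> simp
    · intro i hi
      fin_cases i <;> simp at hi
      · exact ⟨2, by simp⟩
      · exact ⟨0, by simp⟩

theorem goodAll_four [Fintype F] [DecidableEq F] (h4 : 4 ≤ Fintype.card F)
    {Y : Matrix (Fin 4) (Fin 4) F} {α : F} (hα : α ≠ 0) (hY : Half (Y - α • 1)) (h2 : Scl 2 Y) :
    ∃ s : Multiset F, GoodAll Y s Set.univ Set.univ ∧ (0 : F) ∉ s ∧ (∃ x, s.count x = 1) ∧
      ∃ c : F, c ≠ 0 ∧ s.map (fun y => c / y) = s := by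
  obtain ⟨r, hr0, hr1, hr1', hr2⟩ := exists_tau h4 1 1
  have hr1m : r ≠ -1 := hr2
  set μ := r + r⁻¹ - 2 with hμdef
  have hμ : μ ≠ 0 := fun h => by
    have : (r - 1) * (r - 1) = 0 := by
      have := congrArg (fun x => r * x) h
      simp [hμdef, mul_sub, mul_add, mul_inv_cancel₀ hr0] at this
      linear_combination this
    rcases mul_eq_zero.1 this with h' | h' <;> exact hr1 (sub_eq_zero.1 h')
  have hrinv : r ≠ r⁻¹ := fun h => by
    have : r * r = 1 := by nth_rw 2 [h]; exact mul_inv_cancel₀ hr0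
    rcases mul_self_eq_one_iff.1 this with h' | h'
    · exact hr1 h'
    · exact hr1m h'
  set u := α * α
  have hu : u ≠ 0 := mul_ne_zero hα hα
  refine ⟨{u * r, u * r⁻¹} + {u, u}, ?_, ?_, ⟨u * r, ?_⟩, u * u, mul_ne_zero hu hu, ?_⟩
  rotate_left
  · simp [hu, hr0, hr0.symm, hu.symm]
  · have e1 : u * r ≠ u * r⁻¹ := fun h => hrinv (mul_left_cancel₀ hu h)
    have e2 : u * r ≠ u := fun h => hr1 (mul_left_cancel₀ hu (h.trans (mul_one u).symm))
    simp [e1, e2]
  · have e1 : u * u / (u * r) = u * r⁻¹ := by field_simp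
    have e2 : u * u / (u * r⁻¹) = u * r := by field_simp
    have e3 : u * u / u = u := by field_simp
    simp only [Multiset.insert_eq_cons, Multiset.map_add, Multiset.map_cons, Multiset.map_singleton,
      e1, e2, e3, Multiset.cons_add, Multiset.singleton_add]
    rw [Multiset.cons_swap]
  intro a b ha hb
  have base : ∀ N : Matrix (Fin 4) (Fin 4) F, Half N →
      ∃ g : GL (Fin 4) F, cj g Y = α • 1 + α • N := by
    intro N hN
    have hN' : Half (α • N) := by
      refine ⟨by rw [Matrix.smul_mul, Matrix.mul_smul, hN.1, smul_zero, smul_zero], fun v hv => ?_⟩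
      rw [smul_mulVec, smul_eq_zero] at hv
      obtain ⟨w, hw⟩ := hN.2 v (hv.resolve_left hα)
      exact ⟨α⁻¹ • w, by rw [smul_mulVec, mulVec_smul, smul_smul, mul_inv_cancel₀ hα, one_smul, hw]⟩
    obtain ⟨g, hg⟩ := hY.sim hN'
    exact ⟨g, by rw [← hg]; simp [cj, mul_sub, sub_mul]⟩
  obtain ⟨gA, hgA⟩ := base _ (half_four (one_ne_zero (α := F)) hμ).1
  obtain ⟨gB, hgB⟩ := base _ (half_four (one_ne_zero (α := F)) hμ).2
  set δA := (gA : Matrix (Fin 4) (Fin 4) F).det
  set δB := (gB : Matrix (Fin 4) (Fin 4) F).det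
  have hδA : δA ≠ 0 := gl_det_ne_zero gA
  have hδB : δB ≠ 0 := gl_det_ne_zero gB
  obtain ⟨y, hy, hsum⟩ : ∃ y : F, y ≠ 0 ∧ δA / a + δB * y ^ 2 / b ≠ 0 := by
    by_cases h : δA / a + δB / b = 0
    · refine ⟨r, hr0, fun h' => ?_⟩
      have : δB / b * (r ^ 2 - 1) = 0 := by linear_combination h' - h
      rcases mul_eq_zero.1 this with h'' | h''
      · exact div_ne_zero hδB hb h''
      · rcases sq_eq_one_iff.1 (sub_eq_zero.1 h'') with h3 | h3
        · exact hr1 h3
        · exact hr1m h3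
    · exact ⟨1, one_ne_zero, by simpa using h⟩
  obtain ⟨c, hc, hcY⟩ := h2 y hy
  have hdA : a / δA ≠ 0 := div_ne_zero ha hδA
  have hdB : b / (δB * y ^ 2) ≠ 0 := div_ne_zero hb (mul_ne_zero hδB (pow_ne_zero _ hy))
  have hscale : ∀ (d : F) (hd : d ≠ 0), (scale0 (n := 4) d hd : Matrix (Fin 4) (Fin 4) F).det = d :=
    fun d hd => by simp [scale0, det_diagonal, Fin.prod_univ_four]
  refine ⟨scale0 _ hdA * gA, scale0 _ hdB * gB * c, ?_, ?_, ?_, fun _ _ => Set.mem_univ _,
    fun _ _ => Set.mem_univ _⟩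
  · rw [Units.val_mul, det_mul, hscale]
    exact div_mul_cancel₀ _ hδA
  · rw [Units.val_mul, det_mul, Units.val_mul, det_mul, hscale, hc]
    show b / (δB * y ^ 2) * δB * y ^ 2 = b
    field_simp
  have hlin : ∀ (g : GL (Fin 4) F) (N : Matrix (Fin 4) (Fin 4) F),
      cj g (α • 1 + α • N) = α • 1 + α • cj g N := fun g N => by simp [cj, mul_add, add_mul]
  rw [← cj_cj, hgA, ← cj_cj _ c, hcY, ← cj_cj, hgB, hlin, hlin, (scale0_conj hdA μ).1,
    (scale0_conj hdB μ).2]
  set w := 1 / (a / δA)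
  set w' := 1 / (b / (δB * y ^ 2))
  have hww : w + w' ≠ 0 := by simpa [w, w', div_div_eq_mul_div] using hsum
  let e : Fin 2 ⊕ Fin 2 ≃ Fin 4 :=
    { toFun := Sum.elim ![1, 2] ![0, 3]
      invFun := ![Sum.inr 0, Sum.inl 0, Sum.inl 1, Sum.inr 1]
      left_inv := by rintro (i | i) <;> fin_cases i <;> rfl
      right_inv := fun i => by fin_cases i <;> rfl }
  have hP : (α • 1 + α • !![0, 0, 0, 0; 0, 0, 0, 0; 0, 1, 0, 0; w, 0, 0, 0]) *
      (α • 1 + α • !![0, 0, 0, 0; 0, 0, μ, 0; 0, 0, 0, 0; w', 0, 0, 0]) =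
      Matrix.reindexAlgEquiv F F e
        (fromBlocks (!![u, u * μ; u, u * (1 + μ)]) 0 0 (!![u, 0; u * (w + w'), u])) := by
    ext i j
    obtain ⟨(i | i), rfl⟩ := e.surjective i <;> obtain ⟨(j | j), rfl⟩ := e.surjective j <;>
      fin_cases i <;> fin_cases j <;>
        simp [e, u, Matrix.mul_apply, Fin.sum_univ_four, Matrix.one_apply] <;> ring
  rw [hP]
  refine LCyc.reindex e (lcyc_join (S := (0 : Matrix (Fin 2) (Fin 2) F)) ?_ ?_ ?_).1
  · set A : Matrix (Fin 2) (Fin 2) F := !![u, u * μ; u, u * (1 + μ)]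
    have hcyc : Cyclic A := ⟨Pi.single 0 1, by
      simp [krylov, Matrix.det_fin_two, A, mulVec, dotProduct, Fin.sum_univ_two, hu]⟩
    refine ⟨?_, fun x l l' h0 h1 h2 => cyclic_left_eigen hcyc h1 h2 h0⟩
    rw [Matrix.charpoly_fin_two]
    simp only [A, Matrix.trace_fin_two, Matrix.det_fin_two, rpoly, Multiset.insert_eq_cons,
      Multiset.map_cons, Multiset.map_singleton, Multiset.prod_cons, Multiset.prod_singleton,
      Matrix.of_apply, Matrix.cons_val', Matrix.cons_val_zero, Matrix.cons_val_one, Matrix.empty_val',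
      Matrix.cons_val_fin_one]
    have h1 : u + u * (1 + μ) = u * r + u * r⁻¹ := by rw [hμdef]; ring
    have h2 : u * (u * (1 + μ)) - u * μ * u = u * r * (u * r⁻¹) := by
      field_simp
      ring
    rw [h1, h2, C_add]
    simp only [map_mul]
    ring
  · set B : Matrix (Fin 2) (Fin 2) F := !![u, 0; u * (w + w'), u]
    have hlink : Linked (fun _ : Fin 2 => u) B := by
      refine ⟨fun i j hij => ?_, fun i => ?_, fun i j hij => ?_⟩
      · fin_cases i <;> fin_cases j <;> first | rfl | simp at hij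
      · fin_cases i <;> rfl
      · fin_cases i <;> fin_cases j <;> first | exact mul_ne_zero hu hww | simp at hij
    refine ⟨?_, fun x l l' h0 h1 h2 => cyclic_left_eigen (hlink.cyclic fun _ _ _ _ _ _ => rfl) h1 h2 h0⟩
    rw [hlink.charpoly_eq]
    simp [rpoly, Fin.prod_univ_two, sq]
  · intro x h1 h2
    exfalso
    simp only [Multiset.insert_eq_cons, Multiset.mem_cons, Multiset.mem_singleton, or_self] at h1 h2
    subst h2
    rcases h1 with h | h
    · exact hr1 (mul_left_cancel₀ hu (h.symm.trans (mul_one u).symm))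
    · have := mul_left_cancel₀ hu (h.symm.trans (mul_one u).symm)
      exact hr1 (inv_eq_one.1 this)

end CfsgLib.LevCover
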