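import Cfsg.Agent.Lib.LevCover.Cover

/-!
# The lower bound
-/

set_option autoImplicit false

namespace CfsgLib.LevCover

open Matrix Polynomial

variable {F : Type*} [Field F] {n : ℕ}

/-- Fewer than `n` transvections fix a non-zero vector. -/
theorem fix_of_short {k : ℕ} (hk : k < n) (u w : Fin n → F) (g : Fin k → GL (Fin n) F) :
    ∃ v : Fin n → F, v ≠ 0 ∧ (List.ofFn fun i => cj (g i) (1 + vecMulVec u w)).prod *ᵥ v = v := by
  classical
  let W : Matrix (Fin k) (Fin n) F :=
    Matrix.of fun i => w ᵥ* (((g i)⁻¹ : GL (Fin n) F) : Matrix (Fin n) (Fin n) F)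
  have hker : LinearMap.ker (Matrix.toLin' W) ≠ ⊥ := LinearMap.ker_ne_bot_of_finrank_lt (by
    rw [Module.finrank_fin_fun, Module.finrank_fin_fun]; exact hk)
  obtain ⟨v, hv, hv0⟩ := (Submodule.ne_bot_iff _).1 hker
  rw [LinearMap.mem_ker, Matrix.toLin'_apply] at hv
  have hfix : ∀ i, cj (g i) (1 + vecMulVec u w) *ᵥ v = v := fun i => by
    have h0 := congrFun hv i
    rw [cj, mul_add, add_mul, mul_one, ← Units.val_mul, mul_inv_cancel, Units.val_one, mul_vecMulVec,
      vecMulVec_mul, add_mulVec, one_mulVec, vecMulVec_mulVec]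
    have h1 : (w ᵥ* (((g i)⁻¹ : GL (Fin n) F) : Matrix (Fin n) (Fin n) F)) ⬝ᵥ v = 0 := h0
    rw [h1]
    simp
  refine ⟨v, hv0, ?_⟩
  have key : ∀ L : List (Matrix (Fin n) (Fin n) F), (∀ X ∈ L, X *ᵥ v = v) → L.prod *ᵥ v = v := by
    intro L hL
    induction L with
    | nil => simp
    | cons X L ih =>
      rw [List.prod_cons, ← mulVec_mulVec, ih fun Y hY => hL Y (List.mem_cons_of_mem _ hY),
        hL X (List.mem_cons_self ..)]
  exact key _ fun X hX => by
    obtain ⟨i, rfl⟩ := List.mem_ofFn.1 hX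
    exact hfix i

/-- A companion matrix of determinant one without eigenvalues. -/
theorem exists_no_eigen [Fintype F] (hn : 2 ≤ n) :
    ∃ g : Matrix (Fin n) (Fin n) F, g.det = 1 ∧ ∀ (x : F) (v : Fin n → F), g *ᵥ v = x • v → v = 0 := by
  classical
  obtain ⟨a, -, ha⟩ := Finset.exists_mem_notMem_of_card_lt_card (t := (Finset.univ : Finset F))
    (s := (Finset.univ.erase (0 : F)).image fun r => -(r ^ n + (-1) ^ n) / r) (by
      refine lt_of_le_of_lt Finset.card_image_le ?_
      rw [Finset.card_erase_of_mem (Finset.mem_univ _)]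
      exact Nat.sub_lt (Finset.card_pos.2 ⟨0, Finset.mem_univ _⟩) one_pos)
  set f : F[X] := X ^ n + (C a * X + C ((-1) ^ n)) with hf
  have hdeg : (C a * X + C ((-1 : F) ^ n)).degree < (n : WithBot ℕ) :=
    lt_of_le_of_lt degree_linear_le (by exact_mod_cast (show 1 < n by omega))
  have hfm : f.Monic := monic_X_pow_add hdeg
  have hfd : f.natDegree = n := by
    refine natDegree_eq_of_degree_eq_some ?_
    rw [hf, degree_add_eq_left_of_degree_lt (by rwa [degree_X_pow]), degree_X_pow]
  refine ⟨comp (colOf (d := n) f), ?_, fun x v hv => ?_⟩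
  · rw [Matrix.det_eq_sign_charpoly_coeff, charpoly_comp hfm hfd (by omega), Fintype.card_fin, hf]
    rw [coeff_add, coeff_X_pow, if_neg (show ¬ (0 = n) by omega), coeff_add, coeff_C_mul, coeff_X_zero,
      coeff_C_zero]
    simp [← mul_pow]
  by_contra hv0
  have hev : f.eval x = 0 := by
    rw [← charpoly_comp hfm hfd (by omega), Matrix.eval_charpoly]
    refine Matrix.exists_mulVec_eq_zero_iff.1 ⟨v, hv0, ?_⟩
    rw [sub_mulVec, Matrix.scalar_apply, ← Matrix.smul_one_eq_diagonal, smul_mulVec, one_mulVec, hv, sub_self]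
  simp [hf] at hev
  by_cases hx : x = 0
  · subst hx
    simp [zero_pow (show n ≠ 0 by omega)] at hev
  apply ha
  simp only [Finset.mem_image, Finset.mem_erase, Finset.mem_univ, and_true]
  refine ⟨x, hx, ?_⟩
  field_simp
  linear_combination -hev

end CfsgLib.LevCover
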