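import Cfsg.Agent.Lib.LevCover.Chain

/-!
# Companion blocks and single scalars
-/

set_option autoImplicit false

namespace CfsgLib.LevCover

open Matrix Polynomial

variable {F : Type*} [Field F]

/-- A single scalar. -/
def single1 (t : F) : Matrix (Fin 1) (Fin 1) F := t • 1

theorem flex_single (t : F) : Flex (single1 t) := fun d hd =>
  ⟨mkGL (d • 1) (by simp [hd]), by simp, by rw [cj_eq_iff]; simp [single1, smul_smul, mul_comm]⟩

theorem goodAll_single (t : F) : GoodAll (single1 t) {t * t} {t * t} {t * t} := by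
  refine Good.flex (flex_single t) (a := 1) (b := 1) ⟨1, 1, by simp, by simp, ⟨?_, ?_⟩, ?_, ?_⟩
  · simp [cj_one, single1, rpoly, Matrix.charpoly, Matrix.det_unique, smul_smul]
  · intro x l l' hl0 _ _
    have h0 : l 0 ≠ 0 := fun h => hl0 (funext fun i => by rw [Fin.fin_one_eq_zero i, h]; rfl)
    exact ⟨l' 0 / l 0, funext fun i => by
      rw [Fin.fin_one_eq_zero i, Pi.smul_apply, smul_eq_mul, div_mul_cancel₀ _ h0]⟩
  · rintro x ⟨v, hv0, hv, -⟩
    have h0 : v 0 ≠ 0 := fun h => hv0 (funext fun i => by rw [Fin.fin_one_eq_zero i, h]; rfl)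
    have := congrFun hv 0
    simp [cj_one, single1, smul_mulVec, ← mul_assoc, ← mulVec_mulVec] at this
    exact Set.mem_singleton_iff.2 (this.resolve_right h0).symm
  · rintro x ⟨v, hv0, hv, -⟩
    have h0 : v 0 ≠ 0 := fun h => hv0 (funext fun i => by rw [Fin.fin_one_eq_zero i, h]; rfl)
    have := congrFun hv 0
    simp [cj_one, single1, vecMul_smul, ← mul_assoc] at this
    exact Set.mem_singleton_iff.2 (this.resolve_right h0).symm

variable {m : ℕ}

/-- The prescribed columns of the second factor. -/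
def pieceBase (τ : F) (σ : Fin (m + 2) → F) : Matrix (Fin (m + 2)) (Fin (m + 2)) F :=
  Matrix.of fun i j => if (i : ℕ) + 1 = (j : ℕ) then τ else
    if i = j ∧ j ≠ 0 ∧ (j : ℕ) + 1 < m + 2 then σ j else 0

theorem pieceBase_mulVec {τ : F} {σ : Fin (m + 2) → F} {v : Fin (m + 2) → F} {k : ℕ}
    (hk : k + 1 < m + 2) (hv : ∀ i : Fin (m + 2), (i : ℕ) < k + 1 → v i = 0) :
    (∀ i : Fin (m + 2), (i : ℕ) < k → (pieceBase τ σ *ᵥ v) i = 0) ∧
      (pieceBase τ σ *ᵥ v) ⟨k, by omega⟩ = τ * v ⟨k + 1, hk⟩ := by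
  refine ⟨fun i hi => ?_, ?_⟩
  · simp only [mulVec, dotProduct]
    refine Finset.sum_eq_zero fun j _ => ?_
    by_cases hj : (j : ℕ) < k + 1
    · rw [hv j hj, mul_zero]
    · simp [pieceBase, show (i : ℕ) + 1 ≠ (j : ℕ) by omega, show i ≠ j from fun e => by rw [e] at hi; omega]
  · simp only [mulVec, dotProduct]
    rw [Finset.sum_eq_single ⟨k + 1, hk⟩]
    · simp [pieceBase]
    · intro j _ hj
      by_cases hj' : (j : ℕ) < k + 1
      · rw [hv j hj', mul_zero]
      · have : (j : ℕ) ≠ k + 1 := fun e => hj (Fin.ext e)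
        have hne : (⟨k, by omega⟩ : Fin (m + 2)) ≠ j := fun e => by
          have := congrArg Fin.val e
          simp at this
          omega
        simp [pieceBase, show k + 1 ≠ (j : ℕ) by omega, hne]
    · simp

theorem krylov_base (τ : F) (σ : Fin (m + 2) → F) : ∀ j : ℕ, j < m + 2 →
    (∀ i : Fin (m + 2), (i : ℕ) + j + 1 < m + 2 →
      ((pieceBase τ σ ^ j) *ᵥ Pi.single (Fin.last (m + 1)) 1) i = 0) ∧
    ((pieceBase τ σ ^ j) *ᵥ Pi.single (Fin.last (m + 1)) 1) ⟨m + 1 - j, by omega⟩ = τ ^ j := by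
  intro j
  induction j with
  | zero =>
    intro _
    refine ⟨fun i hi => ?_, ?_⟩
    · rw [pow_zero, one_mulVec, Pi.single_apply, if_neg]
      intro e; rw [e] at hi; simp at hi
    · rw [pow_zero, one_mulVec, Pi.single_apply, if_pos (Fin.ext (by simp)), pow_zero]
  | succ j ih =>
    intro hj
    obtain ⟨h1, h2⟩ := ih (by omega)
    obtain ⟨e1, e2⟩ := pieceBase_mulVec (τ := τ) (σ := σ)
      (v := (pieceBase τ σ ^ j) *ᵥ Pi.single (Fin.last (m + 1)) 1) (k := m - j) (by omega)
      (fun i hi => h1 i (by omega))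
    rw [pow_succ', ← mulVec_mulVec]
    refine ⟨fun i hi => e1 i (by omega), ?_⟩
    have ha : (⟨m + 1 - (j + 1), by omega⟩ : Fin (m + 2)) = ⟨m - j, by omega⟩ := Fin.ext (by simp)
    have hb : (⟨m - j + 1, by omega⟩ : Fin (m + 2)) = ⟨m + 1 - j, by omega⟩ := Fin.ext (by simp; omega)
    rw [ha, e2, hb, h2, pow_succ, mul_comm]

/-- A functional killing the first `k` iterates vanishes on the last `k` coordinates. -/
theorem base_tri {τ : F} (hτ : τ ≠ 0) (σ : Fin (m + 2) → F) {l : Fin (m + 2) → F} {k : ℕ}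
    (hk : k ≤ m + 2)
    (h : ∀ j : Fin (m + 2), (j : ℕ) < k →
      l ⬝ᵥ ((pieceBase τ σ ^ (j : ℕ)) *ᵥ Pi.single (Fin.last (m + 1)) 1) = 0) :
    ∀ i : Fin (m + 2), m + 2 ≤ (i : ℕ) + k → l i = 0 := by
  have main : ∀ j : ℕ, ∀ hj : j < k, l ⟨m + 1 - j, by omega⟩ = 0 := by
    intro j
    induction j using Nat.strong_induction_on with
    | _ j ih =>
      intro hj
      obtain ⟨h1, h2⟩ := krylov_base τ σ j (by omega)
      have e := h ⟨j, by omega⟩ hj
      rw [dotProduct, Finset.sum_eq_single ⟨m + 1 - j, by omega⟩] at e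
      · simp only [h2, mul_eq_zero, pow_eq_zero_iff', hτ, false_and, or_false] at e
        exact e
      · intro i _ hi
        rcases Nat.lt_or_ge ((i : ℕ) + j) (m + 1) with h' | h'
        · rw [h1 i (by omega), mul_zero]
        · have hne : (i : ℕ) ≠ m + 1 - j := fun e => hi (Fin.ext e)
          have := ih (m + 1 - i) (by omega) (by omega)
          rw [show (⟨m + 1 - (m + 1 - (i : ℕ)), by omega⟩ : Fin (m + 2)) = i from
            Fin.ext (by simp; omega)] at this
          rw [this, zero_mul]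
      · simp
  intro i hi
  have := main (m + 1 - i) (by omega)
  rwa [show (⟨m + 1 - (m + 1 - (i : ℕ)), by omega⟩ : Fin (m + 2)) = i from
    Fin.ext (by simp; omega)] at this

/-- The value of the first diagonal entry of a companion piece. -/
noncomputable def pieceTop (c : Fin (m + 2) → F) (τ : F) : F :=
  (comp c).det ^ 2 / τ ^ (m + 1)

/-- The spectrum of a companion piece. -/
noncomputable def pieceSpec (c : Fin (m + 2) → F) (τ : F) : Multiset F :=
  pieceTop c τ ::ₘ Multiset.replicate (m + 1) τ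

theorem comp_row_zero (c : Fin (m + 2) → F) (v : Fin (m + 2) → F) :
    (comp c *ᵥ v) 0 = c 0 * v (Fin.last (m + 1)) := by
  simp only [mulVec, dotProduct]
  rw [Finset.sum_eq_single (Fin.last (m + 1))]
  · simp [comp]
  · intro j _ hj
    simp [comp, show (j : ℕ) ≤ m by
      have := Fin.val_lt_last hj; omega]
  · simp

theorem comp_row_one (c : Fin (m + 2) → F) (v : Fin (m + 2) → F) :
    (comp c *ᵥ v) 1 = v 0 + c 1 * v (Fin.last (m + 1)) := by
  simp only [mulVec, dotProduct]
  rw [Fintype.sum_eq_add 0 (Fin.last (m + 1)) (by simp [Fin.ext_iff])]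
  · simp [comp]
  · rintro j ⟨h1, h2⟩
    have := Fin.val_lt_last h2
    have h1' : (j : ℕ) ≠ 0 := fun e => h1 (Fin.ext e)
    simp [comp, show (j : ℕ) ≤ m by omega, show (1 : ℕ) ≠ (j : ℕ) + 1 by omega, h1']

theorem trace_comp (c : Fin (m + 2) → F) : (comp c).trace = c (Fin.last (m + 1)) := by
  rw [Matrix.trace, Finset.sum_eq_single (Fin.last (m + 1))]
  · simp [comp]
  · intro j _ hj
    simp [comp, show (j : ℕ) ≤ m by have := Fin.val_lt_last hj; omega]
  · simp

/-- The raw piece. -/
theorem exists_piece_mat (h3 : ∃ a : F, a ≠ 0 ∧ a ≠ 1) (c : Fin (m + 2) → F)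
    (hc : (comp c).det ≠ 0) {τ : F} (hτ : τ ≠ 0) (hm : 1 ≤ m ∨ pieceTop c τ ≠ τ) :
    ∃ (K : GL (Fin (m + 2)) F) (Z : Matrix (Fin (m + 2)) (Fin (m + 2)) F)
      (σ : Fin (m + 2) → F),
      comp c * cj K (comp c) = Z ∧ (∀ j : Fin (m + 2), j ≠ 0 → (j : ℕ) + 1 < m + 2 → σ j ≠ 0) ∧
      (∀ i j : Fin (m + 2), j ≠ 0 → Z i j = if i = j then τ else
        if (i : ℕ) = (j : ℕ) + 1 then σ j else 0) ∧
      Z 0 0 = pieceTop c τ ∧ (pieceTop c τ = τ → Z 1 0 ≠ 0) ∧
      cj K (comp c) *ᵥ Pi.single (Fin.last (m + 1)) 1 = τ • Pi.single ⟨m, by omega⟩ 1 := by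
  have hc0 : c 0 ≠ 0 := fun h => hc (Matrix.det_eq_zero_of_row_eq_zero 0 fun j => by
    by_cases hj : (j : ℕ) + 1 < m + 2 <;> simp [comp, hj, h])
  obtain ⟨s, hs0, hs⟩ := exists_two_ne_zero h3
    (c (Fin.last (m + 1)) - ((m : F) - 1) + c 1 * pieceTop c τ / c 0)
  let σ : Fin (m + 2) → F := fun j => if (j : ℕ) = 1 then s else 1
  set M₀ := pieceBase τ σ with hM₀
  set v₀ : Fin (m + 2) → F := Pi.single (Fin.last (m + 1)) 1 with hv₀
  have hK : (krylov M₀ v₀).det ≠ 0 := by
    intro h
    obtain ⟨l, hl0, hl⟩ := Matrix.exists_vecMul_eq_zero_iff.2 h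
    exact hl0 (funext fun i => base_tri hτ σ le_rfl (fun j _ => congrFun hl j) i (by omega))
  let K := mkGL (krylov M₀ v₀) hK
  set M := cj K (comp c) with hM
  have hMcol : ∀ i j : Fin (m + 2), j ≠ 0 → M i j = M₀ i j := by
    intro i j hj
    refine sub_eq_zero.1 (base_tri hτ σ (l := fun j => M i j - M₀ i j) (k := m + 1) (by omega)
      (fun k hk => ?_) j (by have : (j : ℕ) ≠ 0 := fun e => hj (Fin.ext e); omega))
    have e : M * krylov M₀ v₀ = krylov M₀ v₀ * comp c := ((cj_eq_iff K _ M).1 hM.symm).symm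
    have e' := congrFun (congrFun e i) k
    have hr : (krylov M₀ v₀ * comp c) i k = ((M₀ ^ ((k : ℕ) + 1)) *ᵥ v₀) i := by
      rw [Matrix.mul_apply, Finset.sum_eq_single ⟨(k : ℕ) + 1, by omega⟩]
      · simp [krylov, comp, show (k : ℕ) ≤ m by omega]
      · intro b _ hb
        simp [comp, show (k : ℕ) ≤ m by omega,
          show (b : ℕ) ≠ (k : ℕ) + 1 from fun e => hb (Fin.ext e)]
      · simp
    rw [hr, pow_succ', ← mulVec_mulVec] at e'
    simp only [Matrix.mul_apply, krylov, Matrix.of_apply] at e'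
    simp only [dotProduct, sub_mul, Finset.sum_sub_distrib, sub_eq_zero]
    exact e'
  have hlast : M *ᵥ v₀ = τ • Pi.single ⟨m, by omega⟩ 1 := by
    funext i
    rw [hv₀, mulVec_single_one, col_apply, hMcol i _ (by simp [Fin.ext_iff]), hM₀]
    by_cases h : (i : ℕ) = m
    · rw [Pi.smul_apply, Pi.single_apply, if_pos (Fin.ext h)]
      simp [pieceBase, h]
    · rw [Pi.smul_apply, Pi.single_apply, if_neg fun e => h (congrArg Fin.val e)]
      simp [pieceBase, h]
  set Z := comp c * M with hZ
  have hZcol : ∀ i j : Fin (m + 2), j ≠ 0 → Z i j = if i = j then τ else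
      if (i : ℕ) = (j : ℕ) + 1 then σ j else 0 := by
    intro i j hj
    have hj' : (j : ℕ) ≠ 0 := fun e => hj (Fin.ext e)
    obtain ⟨j', hj''⟩ : ∃ j' : Fin (m + 2), (j' : ℕ) + 1 = j :=
      ⟨⟨(j : ℕ) - 1, by omega⟩, by simp; omega⟩
    have hp : (j' : ℕ) + 1 < m + 2 := by omega
    rw [hZ, Matrix.mul_apply, Fintype.sum_eq_add j' j (fun e => by rw [e] at hj''; omega)]
    · rw [hMcol j' j hj, hMcol j j hj]
      by_cases hlt : (j : ℕ) + 1 < m + 2
      · simp [hM₀, pieceBase, comp, hp, hlt, hj'', hj, show (j' : ℕ) ≤ m by omega,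
          show (j : ℕ) ≤ m by omega]
        by_cases h1 : i = j
        · simp [h1]
        · simp [h1, show (i : ℕ) ≠ (j : ℕ) from fun e => h1 (Fin.ext e)]
      · simp [hM₀, pieceBase, comp, hp, hlt, hj'', show (j' : ℕ) ≤ m by omega,
          show ¬ (j : ℕ) ≤ m by omega]
        by_cases h1 : i = j
        · simp [h1]
        · simp [h1, show (i : ℕ) ≠ (j : ℕ) from fun e => h1 (Fin.ext e),
            show (i : ℕ) ≠ (j : ℕ) + 1 by omega]
    · rintro k ⟨h1, h2⟩
      rw [hMcol k j hj]
      simp [hM₀, pieceBase, h2, show (k : ℕ) + 1 ≠ (j : ℕ) from fun e => h1 (Fin.ext (by omega))]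
  have hdetM : M.det = (comp c).det := cj_det K _
  have hlow : ∀ i j : Fin (m + 2), i < j → Z i j = 0 := by
    intro i j hij
    have : (i : ℕ) ≠ (j : ℕ) + 1 := by rw [Fin.lt_def] at hij; omega
    rw [hZcol i j (fun e => absurd (e ▸ hij) (by simp)), if_neg hij.ne, if_neg this]
  have hdZ : Z.det = Z 0 0 * τ ^ (m + 1) := by
    rw [Matrix.det_of_isLowerTriangular Z (fun i j hij => hlow i j hij), Fin.prod_univ_succ]
    congr 1
    rw [Finset.prod_eq_pow_card (b := τ) fun i _ => by
      rw [hZcol _ _ (Fin.succ_ne_zero i), if_pos rfl]]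
    simp
  have h00 : Z 0 0 = pieceTop c τ := by
    rw [pieceTop, eq_div_iff (pow_ne_zero _ hτ), ← hdZ, hZ, det_mul, hdetM, sq]
  have hcm : ∀ i, Z i 0 = (comp c *ᵥ (M *ᵥ Pi.single 0 1)) i := fun i => by
    rw [mulVec_mulVec, ← hZ, mulVec_single_one, col_apply]
  refine ⟨K, Z, σ, rfl, fun j _ _ => ?_, hZcol, h00, fun htop => ?_, hlast⟩
  · simp only [σ]; split_ifs <;> simp [hs0]
  rcases hm with hm | hm
  swap
  · exact absurd htop hm
  have e0 := hcm 0
  rw [h00, comp_row_zero, mulVec_single_one, col_apply] at e0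
  rw [hcm 1, comp_row_one, mulVec_single_one, col_apply, col_apply]
  have htr : M.trace = c (Fin.last (m + 1)) := by
    rw [hM, cj, Matrix.trace_mul_comm, ← mul_assoc, ← Units.val_mul, inv_mul_cancel, Units.val_one,
      one_mul, trace_comp]
  have hsum : M.trace = M 0 0 + s + ((m : F) - 1) := by
    rw [Matrix.trace, Fin.sum_univ_succ, diag_apply]
    suffices h : ∑ i : Fin (m + 1), M.diag i.succ = s + ((m : F) - 1) by rw [h]; ring
    have hterm : ∀ i : Fin (m + 1), M i.succ i.succ =
        if (i : ℕ) < m then (if (i : ℕ) = 0 then s else 1) else 0 := fun i => by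
      rw [hMcol _ _ (Fin.succ_ne_zero i), hM₀]
      simp [pieceBase, σ]
    simp only [diag_apply, hterm]
    rw [Fin.sum_univ_eq_sum_range (fun i => if i < m then (if i = 0 then s else (1 : F)) else 0),
      Finset.sum_range_succ, if_neg (lt_irrefl m), add_zero,
      Finset.sum_congr rfl (fun i hi => if_pos (Finset.mem_range.1 hi))]
    obtain ⟨k, rfl⟩ : ∃ k, m = k + 1 := ⟨m - 1, by omega⟩
    rw [Finset.sum_range_succ']
    simp
    ring
  intro h
  apply hs
  have e1 : M (Fin.last (m + 1)) 0 = pieceTop c τ / c 0 := by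
    rw [eq_div_iff hc0, e0]; ring
  rw [htr] at hsum
  rw [e1] at h
  linear_combination -hsum - h

theorem good_piece (h3 : ∃ a : F, a ≠ 0 ∧ a ≠ 1) (c : Fin (m + 2) → F)
    (hc : (comp c).det ≠ 0) {τ : F} (hτ : τ ≠ 0) (hm : 1 ≤ m ∨ pieceTop c τ ≠ τ) :
    ∃ a b : F, Good (comp c) a b (pieceSpec c τ) ({pieceTop c τ} \ {τ}) ({τ} \ {pieceTop c τ}) := by
  classical
  obtain ⟨K, Z, σ, hprod, hσ, hcol, h00, h10, hlast⟩ := exists_piece_mat h3 c hc hτ hm
  set P := pieceTop c τ
  refine ⟨1, _, 1, K, by simp, rfl, ?_⟩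
  rw [cj_one, hprod]
  have hlow : ∀ i j : Fin (m + 2), i < j → Z i j = 0 := by
    intro i j hij
    have : (i : ℕ) ≠ (j : ℕ) + 1 := by rw [Fin.lt_def] at hij; omega
    rw [hcol i j (fun e => absurd (e ▸ hij) (by simp)), if_neg hij.ne, if_neg this]
  let L := Z.submatrix Fin.succ Fin.succ
  have hL : Linked (fun _ : Fin (m + 1) => τ) L := by
    refine ⟨fun i j hij => hlow _ _ (by simpa using hij), fun i => ?_, fun i j hij => ?_⟩
    · simp [L, hcol _ _ (Fin.succ_ne_zero i)]
    · have hne : i ≠ j := fun e => by rw [e] at hij; omega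
      simp [L, hcol _ _ (Fin.succ_ne_zero j), hne, hij]
      exact hσ _ (Fin.succ_ne_zero j) (by simp; omega)
  have hLc : Cyclic L := hL.cyclic fun _ _ _ _ _ _ => rfl
  have hZhd : Z = hd P 0 (fun i => Z i.succ 0) L := by
    ext i j
    induction i using Fin.cases with
    | zero =>
      induction j using Fin.cases with
      | zero => simp [h00]
      | succ j => simp [hlow _ _ (Fin.succ_pos j)]
    | succ i => induction j using Fin.cases <;> simp [L]
  have hcyc : Cyclic Z := by
    rw [hZhd]
    refine cyclic_hd hLc _ _ fun l hl0 hl => ?_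
    by_cases hP : P = τ
    · have he : (Pi.single 0 1 : Fin (m + 1) → F) ᵥ* L = P • Pi.single 0 1 := by
        funext j
        induction j using Fin.cases with
        | zero => simpa [hP] using hL.2.1 0
        | succ j => simpa using hL.1 0 j.succ (Fin.succ_pos j)
      obtain ⟨t, rfl⟩ := cyclic_left_eigen hLc he hl (by simp)
      have ht : t ≠ 0 := fun h0 => hl0 (by rw [h0, zero_smul])
      rw [smul_dotProduct, single_dotProduct, one_mul, smul_eq_mul]
      exact mul_ne_zero ht (by simpa using h10 hP)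
    · exfalso
      refine hL.det_sub_ne_zero (x := P) (fun _ e => hP e.symm) (Matrix.exists_vecMul_eq_zero_iff.1
        ⟨l, hl0, by rw [vecMul_sub, vecMul_smul, vecMul_one, hl, sub_self]⟩)
  have hchar : Z.charpoly = rpoly (pieceSpec c τ) := by
    rw [Matrix.charpoly, Matrix.det_of_isLowerTriangular]
    · rw [Fin.prod_univ_succ, Finset.prod_eq_pow_card (b := X - C τ) fun i _ => by
        rw [charmatrix_apply_eq, hcol _ _ (Fin.succ_ne_zero i), if_pos rfl]]
      rw [charmatrix_apply_eq, h00, rpoly, pieceSpec, Multiset.map_cons, Multiset.prod_cons,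
        Multiset.map_replicate, Multiset.prod_replicate, Finset.card_univ, Fintype.card_fin]
    · intro i j hij
      simp only [OrderDual.toDual_lt_toDual] at hij
      rw [charmatrix_apply_ne _ _ _ hij.ne, hlow i j hij, map_zero, neg_zero]
  refine ⟨⟨hchar, fun x l l' hl0 h1 h2 => cyclic_left_eigen hcyc h1 h2 hl0⟩, ?_, ?_⟩
  · rintro x ⟨v, hv0, hv, μ, hμ⟩
    rw [hprod] at hv
    have hrow0 : (Z *ᵥ v) 0 = P * v 0 := by
      simp only [mulVec, dotProduct]
      rw [Finset.sum_eq_single 0]
      · rw [h00]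
      · intro j _ hj; rw [hlow 0 j (Fin.pos_of_ne_zero hj), zero_mul]
      · simp
    have hrow : ∀ j : Fin (m + 1), (Z *ᵥ v) j.succ = Z j.succ 0 * v 0 +
        (τ * v j.succ + if (j : ℕ) = 0 then 0 else σ ⟨(j : ℕ), by omega⟩ * v ⟨(j : ℕ), by omega⟩) := by
      intro j
      simp only [mulVec, dotProduct, Fin.sum_univ_succ (f := fun k => Z j.succ k * v k)]
      congr 1
      have hk : ∀ k : Fin (m + 1), Z j.succ k.succ * v k.succ = (if j = k then τ * v k.succ else 0) +
          if (j : ℕ) = (k : ℕ) + 1 then σ k.succ * v k.succ else 0 := by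
        intro k
        rw [hcol _ _ (Fin.succ_ne_zero k)]
        by_cases h1 : j = k
        · subst h1; simp
        · by_cases h2 : (j : ℕ) = (k : ℕ) + 1 <;> simp [h1, h2]
      simp only [hk, Finset.sum_add_distrib, Finset.sum_ite_eq, Finset.mem_univ, if_true]
      congr 1
      split_ifs with h0
      · exact Finset.sum_eq_zero fun k _ => if_neg (by omega)
      · rw [Finset.sum_eq_single ⟨(j : ℕ) - 1, by omega⟩]
        · rw [if_pos (by simp; omega)]
          have : (⟨(j : ℕ) - 1, by omega⟩ : Fin (m + 1)).succ = (⟨(j : ℕ), by omega⟩ : Fin (m + 2)) :=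
            Fin.ext (by simp; omega)
          rw [this]
        · intro k _ hk
          exact if_neg fun h' => hk (Fin.ext (by simp; omega))
        · simp
    by_contra hx
    simp only [Set.mem_diff, Set.mem_singleton_iff, not_and, not_not] at hx
    have e0 := congrFun hv 0
    rw [hrow0, Pi.smul_apply, smul_eq_mul] at e0
    have hxτ : v 0 ≠ 0 → x = τ := fun h => hx (mul_right_cancel₀ h e0).symm
    have hv00 : v 0 = 0 := by
      by_contra h0
      have hxt := hxτ h0
      have hP : P = τ := (mul_right_cancel₀ h0 e0).trans hxt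
      have e1 := congrFun hv (Fin.succ 0)
      rw [hrow, hxt] at e1
      simp at e1
      exact e1.elim (h10 hP) h0
    by_cases hxt : x = τ
    · have hmid : ∀ j : Fin (m + 2), (j : ℕ) + 1 < m + 2 → v j = 0 := by
        intro j hj
        by_cases hj0 : j = 0
        · rw [hj0, hv00]
        · let k : Fin (m + 1) := ⟨(j : ℕ), by omega⟩
          have e1 := congrFun hv k.succ
          rw [hrow, hxt, hv00] at e1
          have hk0 : (k : ℕ) ≠ 0 := fun e => hj0 (Fin.ext e)
          simp [hk0] at e1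
          rcases e1 with e1 | e1
          · exact absurd e1 (hσ j hj0 hj)
          · exact e1
      have hveq : v = v (Fin.last (m + 1)) • Pi.single (Fin.last (m + 1)) 1 := by
        funext j
        by_cases hj : j = Fin.last (m + 1)
        · simp [hj]
        · simp [hj, hmid j (by have := Fin.val_lt_last hj; omega)]
      have hne : v (Fin.last (m + 1)) ≠ 0 := fun h0 => hv0 (by rw [hveq, h0, zero_smul])
      rw [hveq, mulVec_smul, hlast] at hμ
      have := congrFun hμ ⟨m, by omega⟩
      simp [Fin.ext_iff, hne, hτ] at this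
    · refine hv0 (funext fun j => ?_)
      have main : ∀ k : ℕ, ∀ j : Fin (m + 2), (j : ℕ) = k → v j = 0 := by
        intro k
        induction k with
        | zero => intro j hj; rw [show j = 0 from Fin.ext hj, hv00]
        | succ k ih =>
          intro j hj
          obtain ⟨j', rfl⟩ : ∃ j' : Fin (m + 1), j = j'.succ :=
            ⟨⟨k, by omega⟩, Fin.ext (by simp [hj])⟩
          have e1 := congrFun hv j'.succ
          rw [hrow, hv00, ih ⟨(j' : ℕ), by omega⟩ (by simpa using hj)] at e1
          simp at e1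
          exact e1.resolve_left (Ne.symm hxt)
      exact main j j rfl
  · rintro x ⟨l, hl0, hl, μ, hμ⟩
    rw [hprod] at hl
    by_contra hx
    simp only [Set.mem_diff, Set.mem_singleton_iff, not_and, not_not] at hx
    -- all coordinates after the first vanish
    have hcolj : ∀ j : Fin (m + 2), j ≠ 0 → (l ᵥ* Z) j =
        τ * l j + if h : (j : ℕ) + 1 < m + 2 then σ j * l ⟨(j : ℕ) + 1, h⟩ else 0 := by
      intro j hj
      have hk : ∀ i : Fin (m + 2), l i * Z i j = (if i = j then τ * l i else 0) +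
          if (i : ℕ) = (j : ℕ) + 1 then σ j * l i else 0 := by
        intro i
        rw [hcol i j hj]
        by_cases h1 : i = j
        · subst h1; simp [mul_comm]
        · by_cases h2 : (i : ℕ) = (j : ℕ) + 1 <;> simp [h1, h2, mul_comm]
      simp only [vecMul, dotProduct, hk, Finset.sum_add_distrib, Finset.sum_ite_eq', Finset.mem_univ,
        if_true]
      congr 1
      split_ifs with h
      · rw [Finset.sum_eq_single ⟨(j : ℕ) + 1, h⟩]
        · simp
        · intro k _ hk'
          exact if_neg fun h' => hk' (Fin.ext h')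
        · simp
      · exact Finset.sum_eq_zero fun k _ => if_neg (by omega)
    have hrest : ∀ i : Fin (m + 1), l i.succ = 0 := by
      by_cases hxt : x = τ
      · have hP := hx hxt
        have htwo : ∀ i : Fin (m + 1), (i : ℕ) ≠ 0 → l i.succ = 0 := by
          intro i hi
          let j : Fin (m + 2) := ⟨(i : ℕ), by omega⟩
          have e1 := congrFun hl j
          rw [hcolj j (fun e => hi (congrArg Fin.val e)), dif_pos (show (j : ℕ) + 1 < m + 2 by have := i.2; simp [j]; omega),
            Pi.smul_apply, hxt] at e1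
          simp [j] at e1
          rcases e1 with e1 | e1
          · exact absurd e1 (hσ j (fun e => hi (congrArg Fin.val e)) (by have := i.2; simp [j]; omega))
          · exact e1
        intro i
        by_cases hi : (i : ℕ) = 0
        · have e1 := congrFun hl 0
          simp only [vecMul, dotProduct] at e1
          rw [Fin.sum_univ_succ, Fin.sum_univ_succ] at e1
          rw [Finset.sum_eq_zero (fun k _ => by rw [htwo k.succ (by simp), zero_mul]), h00] at e1
          rw [show i = 0 from Fin.ext hi]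
          have hPτ : P = τ := hP.symm.trans hxt
          rw [Pi.smul_apply, smul_eq_mul, hxt, hPτ, add_zero] at e1
          have : l 1 * Z 1 0 = 0 := by
            simp at e1
            linear_combination e1
          simpa using (mul_eq_zero.1 this).resolve_right (h10 hPτ)
        · exact htwo i hi
      · have main : ∀ k : ℕ, ∀ j : Fin (m + 2), j ≠ 0 → (j : ℕ) + k = m + 1 → l j = 0 := by
          intro k
          induction k with
          | zero =>
            intro j hj0 hj
            have e1 := congrFun hl j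
            rw [hcolj j hj0, dif_neg (by omega), add_zero] at e1
            simp at e1
            exact e1.resolve_left (Ne.symm hxt)
          | succ k ih =>
            intro j hj0 hj
            have e1 := congrFun hl j
            rw [hcolj j hj0, dif_pos (by omega), ih ⟨(j : ℕ) + 1, by omega⟩ (fun e => by have := congrArg Fin.val e; simp at this)
              (by simp; omega)] at e1
            simp at e1
            exact e1.resolve_left (Ne.symm hxt)
        intro i
        exact main (m - i) i.succ (Fin.succ_ne_zero i) (by simp; omega)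
    have hl00 : l 0 ≠ 0 := fun h0 => hl0 (funext fun i => by
      induction i using Fin.cases with
      | zero => exact h0
      | succ i => exact hrest i)
    have e1 := congrFun hμ (Fin.last (m + 1))
    simp [vecMul, dotProduct, Fin.sum_univ_succ, hrest, comp, ← Fin.succ_last, hl00] at e1
    have hc0 : c 0 ≠ 0 := fun h => hc (Matrix.det_eq_zero_of_row_eq_zero 0 fun j => by
      by_cases hj : (j : ℕ) + 1 < m + 2 <;> simp [comp, hj, h])
    exact hc0 e1

end CfsgLib.LevCover
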