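import Cfsg.Agent.Lib.LevCover.Stagger

/-!
# A companion piece with three values
-/

set_option autoImplicit false

namespace CfsgLib.LevCover

open Matrix Polynomial

variable {F : Type*} [Field F] {m : ℕ}

/-- The prescribed columns of the second factor. -/
def zBase (ζ : Fin (m + 2) → F) (σ : Fin (m + 2) → F) : Matrix (Fin (m + 2)) (Fin (m + 2)) F :=
  Matrix.of fun i j => if (i : ℕ) + 1 = (j : ℕ) then ζ j else
    if i = j ∧ j ≠ 0 ∧ (j : ℕ) + 1 < m + 2 then σ j else 0

theorem zBase_mulVec {ζ : Fin (m + 2) → F} {σ : Fin (m + 2) → F} {v : Fin (m + 2) → F} {k : ℕ}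
    (hk : k + 1 < m + 2) (hv : ∀ i : Fin (m + 2), (i : ℕ) < k + 1 → v i = 0) :
    (∀ i : Fin (m + 2), (i : ℕ) < k → (zBase ζ σ *ᵥ v) i = 0) ∧
      (zBase ζ σ *ᵥ v) ⟨k, by omega⟩ = ζ ⟨k + 1, hk⟩ * v ⟨k + 1, hk⟩ := by
  refine ⟨fun i hi => ?_, ?_⟩
  · simp only [mulVec, dotProduct]
    refine Finset.sum_eq_zero fun j _ => ?_
    by_cases hj : (j : ℕ) < k + 1
    · rw [hv j hj, mul_zero]
    · simp [zBase, show (i : ℕ) + 1 ≠ (j : ℕ) by omega, show i ≠ j from fun e => by rw [e] at hi; omega]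
  · simp only [mulVec, dotProduct]
    rw [Finset.sum_eq_single ⟨k + 1, hk⟩]
    · simp [zBase]
    · intro j _ hj
      by_cases hj' : (j : ℕ) < k + 1
      · rw [hv j hj', mul_zero]
      · have : (j : ℕ) ≠ k + 1 := fun e => hj (Fin.ext e)
        have hne : (⟨k, by omega⟩ : Fin (m + 2)) ≠ j := fun e => by
          have := congrArg Fin.val e
          simp at this
          omega
        simp [zBase, show k + 1 ≠ (j : ℕ) by omega, hne]
    · simp

theorem zBase_krylov (ζ σ : Fin (m + 2) → F) (hζ : ∀ i, ζ i ≠ 0) : ∀ j : ℕ, j < m + 2 →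
    (∀ i : Fin (m + 2), (i : ℕ) + j + 1 < m + 2 →
      ((zBase ζ σ ^ j) *ᵥ Pi.single (Fin.last (m + 1)) 1) i = 0) ∧
    ((zBase ζ σ ^ j) *ᵥ Pi.single (Fin.last (m + 1)) 1) ⟨m + 1 - j, by omega⟩ ≠ 0 := by
  intro j
  induction j with
  | zero =>
    intro _
    refine ⟨fun i hi => ?_, ?_⟩
    · rw [pow_zero, one_mulVec, Pi.single_apply, if_neg]
      intro e; rw [e] at hi; simp at hi
    · rw [pow_zero, one_mulVec, Pi.single_apply, if_pos (Fin.ext (by simp))]
      exact one_ne_zero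
  | succ j ih =>
    intro hj
    obtain ⟨h1, h2⟩ := ih (by omega)
    obtain ⟨e1, e2⟩ := zBase_mulVec (ζ := ζ) (σ := σ)
      (v := (zBase ζ σ ^ j) *ᵥ Pi.single (Fin.last (m + 1)) 1) (k := m - j) (by omega)
      (fun i hi => h1 i (by omega))
    rw [pow_succ', ← mulVec_mulVec]
    refine ⟨fun i hi => e1 i (by omega), ?_⟩
    have ha : (⟨m + 1 - (j + 1), by omega⟩ : Fin (m + 2)) = ⟨m - j, by omega⟩ := Fin.ext (by simp)
    have hb : (⟨m - j + 1, by omega⟩ : Fin (m + 2)) = ⟨m + 1 - j, by omega⟩ := Fin.ext (by simp; omega)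
    rw [ha, e2, hb]
    exact mul_ne_zero (hζ _) h2

/-- A functional killing the first `k` iterates vanishes on the last `k` coordinates. -/
theorem zBase_tri {ζ : Fin (m + 2) → F} (hζ : ∀ i, ζ i ≠ 0) (σ : Fin (m + 2) → F) {l : Fin (m + 2) → F} {k : ℕ}
    (hk : k ≤ m + 2)
    (h : ∀ j : Fin (m + 2), (j : ℕ) < k →
      l ⬝ᵥ ((zBase ζ σ ^ (j : ℕ)) *ᵥ Pi.single (Fin.last (m + 1)) 1) = 0) :
    ∀ i : Fin (m + 2), m + 2 ≤ (i : ℕ) + k → l i = 0 := by
  have main : ∀ j : ℕ, ∀ hj : j < k, l ⟨m + 1 - j, by omega⟩ = 0 := by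
    intro j
    induction j using Nat.strong_induction_on with
    | _ j ih =>
      intro hj
      obtain ⟨h1, h2⟩ := zBase_krylov ζ σ hζ j (by omega)
      have e := h ⟨j, by omega⟩ hj
      rw [dotProduct, Finset.sum_eq_single ⟨m + 1 - j, by omega⟩] at e
      · exact (mul_eq_zero.1 e).resolve_right h2
      · intro i _ hi
        rcases Nat.lt_or_ge ((i : ℕ) + j) (m + 1) with h' | h'
        · rw [h1 i (by omega), mul_zero]
        · have hne : (i : ℕ) ≠ m + 1 - j := fun e => hi (Fin.ext e)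
          have := ih (m + 1 - i) (by omega) (by omega)
          rw [show (⟨m + 1 - (m + 1 - (i : ℕ)), by omega⟩ : Fin (m + 2)) = i from
            Fin.ext (by simp; omega)] at this
          rw [this, zero_mul]
      · simp
  intro i hi
  have := main (m + 1 - i) (by omega)
  rwa [show (⟨m + 1 - (m + 1 - (i : ℕ)), by omega⟩ : Fin (m + 2)) = i from
    Fin.ext (by simp; omega)] at this

/-- The raw piece. -/
theorem exists_zpiece_mat (h3 : ∃ a : F, a ≠ 0 ∧ a ≠ 1) (c : Fin (m + 2) → F)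
    (hc : (comp c).det ≠ 0) (hm : 1 ≤ m) {ζ : Fin (m + 2) → F} (hζ : ∀ i, ζ i ≠ 0)
    (hprod : ∏ i, ζ i = (comp c).det ^ 2) :
    ∃ (K : GL (Fin (m + 2)) F) (Z : Matrix (Fin (m + 2)) (Fin (m + 2)) F)
      (σ : Fin (m + 2) → F),
      comp c * cj K (comp c) = Z ∧ (∀ j : Fin (m + 2), j ≠ 0 → (j : ℕ) + 1 < m + 2 → σ j ≠ 0) ∧
      (∀ i j : Fin (m + 2), j ≠ 0 → Z i j = if i = j then ζ j else
        if (i : ℕ) = (j : ℕ) + 1 then σ j else 0) ∧
      Z 0 0 = ζ 0 ∧ Z 1 0 ≠ 0 ∧
      cj K (comp c) *ᵥ Pi.single (Fin.last (m + 1)) 1 =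
        ζ (Fin.last (m + 1)) • Pi.single ⟨m, by omega⟩ 1 := by
  have hc0 : c 0 ≠ 0 := fun h => hc (Matrix.det_eq_zero_of_row_eq_zero 0 fun j => by
    by_cases hj : (j : ℕ) + 1 < m + 2 <;> simp [comp, hj, h])
  obtain ⟨s, hs0, hs⟩ := exists_two_ne_zero h3
    (c (Fin.last (m + 1)) - ((m : F) - 1) + c 1 * ζ 0 / c 0)
  let σ : Fin (m + 2) → F := fun j => if (j : ℕ) = 1 then s else 1
  set M₀ := zBase ζ σ with hM₀
  set v₀ : Fin (m + 2) → F := Pi.single (Fin.last (m + 1)) 1 with hv₀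
  have hK : (krylov M₀ v₀).det ≠ 0 := by
    intro h
    obtain ⟨l, hl0, hl⟩ := Matrix.exists_vecMul_eq_zero_iff.2 h
    exact hl0 (funext fun i => zBase_tri hζ σ le_rfl (fun j _ => congrFun hl j) i (by omega))
  let K := mkGL (krylov M₀ v₀) hK
  set M := cj K (comp c) with hM
  have hMcol : ∀ i j : Fin (m + 2), j ≠ 0 → M i j = M₀ i j := by
    intro i j hj
    refine sub_eq_zero.1 (zBase_tri hζ σ (l := fun j => M i j - M₀ i j) (k := m + 1) (by omega)
      (fun k hk => ?_) j (by have : (j : ℕ) ≠ 0 := fun e => hj (Fin.ext e); omega))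
    have e : M * krylov M₀ v₀ = krylov M₀ v₀ * comp c := ((cj_eq_iff K _ M).1 hM.symm).symm
    have e' := congrFun (congrFun e i) k
    have hr : (krylov M₀ v₀ * comp c) i k = ((M₀ ^ ((k : ℕ) + 1)) *ᵥ v₀) i := by
      rw [Matrix.mul_apply, Finset.sum_eq_single ⟨(k : ℕ) + 1, by omega⟩]
      · simp [krylov, comp, show (k : ℕ) ≤ m by omega]
      · intro b _ hb
        simp [comp, show (k : ℕ) ≤ m by omega,
          show (b : ℕ) ≠ (k : ℕ) + 1 from fun e => hb (Fin.ext e)]
      · simp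
    rw [hr, pow_succ', ← mulVec_mulVec] at e'
    simp only [Matrix.mul_apply, krylov, Matrix.of_apply] at e'
    simp only [dotProduct, sub_mul, Finset.sum_sub_distrib, sub_eq_zero]
    exact e'
  have hlast : M *ᵥ v₀ = ζ (Fin.last (m + 1)) • Pi.single ⟨m, by omega⟩ 1 := by
    funext i
    rw [hv₀, mulVec_single_one, col_apply, hMcol i _ (by simp [Fin.ext_iff]), hM₀]
    by_cases h : (i : ℕ) = m
    · rw [Pi.smul_apply, Pi.single_apply, if_pos (Fin.ext h)]
      simp [zBase, h]
    · rw [Pi.smul_apply, Pi.single_apply, if_neg fun e => h (congrArg Fin.val e)]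
      simp [zBase, h]
  set Z := comp c * M with hZ
  have hZcol : ∀ i j : Fin (m + 2), j ≠ 0 → Z i j = if i = j then ζ j else
      if (i : ℕ) = (j : ℕ) + 1 then σ j else 0 := by
    intro i j hj
    have hj' : (j : ℕ) ≠ 0 := fun e => hj (Fin.ext e)
    obtain ⟨j', hj''⟩ : ∃ j' : Fin (m + 2), (j' : ℕ) + 1 = j :=
      ⟨⟨(j : ℕ) - 1, by omega⟩, by simp; omega⟩
    have hp : (j' : ℕ) + 1 < m + 2 := by omega
    rw [hZ, Matrix.mul_apply, Fintype.sum_eq_add j' j (fun e => by rw [e] at hj''; omega)]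
    · rw [hMcol j' j hj, hMcol j j hj]
      by_cases hlt : (j : ℕ) + 1 < m + 2
      · simp [hM₀, zBase, comp, hp, hlt, hj'', hj, show (j' : ℕ) ≤ m by omega,
          show (j : ℕ) ≤ m by omega]
        by_cases h1 : i = j
        · simp [h1]
        · simp [h1, show (i : ℕ) ≠ (j : ℕ) from fun e => h1 (Fin.ext e)]
      · simp [hM₀, zBase, comp, hp, hlt, hj'', show (j' : ℕ) ≤ m by omega,
          show ¬ (j : ℕ) ≤ m by omega]
        by_cases h1 : i = j
        · simp [h1]
        · simp [h1, show (i : ℕ) ≠ (j : ℕ) from fun e => h1 (Fin.ext e),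
            show (i : ℕ) ≠ (j : ℕ) + 1 by omega]
    · rintro k ⟨h1, h2⟩
      rw [hMcol k j hj]
      simp [hM₀, zBase, h2, show (k : ℕ) + 1 ≠ (j : ℕ) from fun e => h1 (Fin.ext (by omega))]
  have hdetM : M.det = (comp c).det := cj_det K _
  have hlow : ∀ i j : Fin (m + 2), i < j → Z i j = 0 := by
    intro i j hij
    have : (i : ℕ) ≠ (j : ℕ) + 1 := by rw [Fin.lt_def] at hij; omega
    rw [hZcol i j (fun e => absurd (e ▸ hij) (by simp)), if_neg hij.ne, if_neg this]
  have hdZ : Z.det = Z 0 0 * ∏ i : Fin (m + 1), ζ i.succ := by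
    rw [Matrix.det_of_isLowerTriangular Z (fun i j hij => hlow i j hij), Fin.prod_univ_succ]
    congr 1
    exact Finset.prod_congr rfl fun i _ => by rw [hZcol _ _ (Fin.succ_ne_zero i), if_pos rfl]
  have h00 : Z 0 0 = ζ 0 := by
    have e : ζ 0 * ∏ i : Fin (m + 1), ζ i.succ = Z 0 0 * ∏ i : Fin (m + 1), ζ i.succ := by
      rw [← hdZ, ← Fin.prod_univ_succ (f := ζ), hprod, hZ, det_mul, hdetM, sq]
    exact (mul_right_cancel₀ (Finset.prod_ne_zero_iff.2 fun i _ => hζ _) e).symm
  have hcm : ∀ i, Z i 0 = (comp c *ᵥ (M *ᵥ Pi.single 0 1)) i := fun i => by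
    rw [mulVec_mulVec, ← hZ, mulVec_single_one, col_apply]
  refine ⟨K, Z, σ, rfl, fun j _ _ => ?_, hZcol, h00, ?_, hlast⟩
  · simp only [σ]; split_ifs <;> simp [hs0]
  have e0 := hcm 0
  rw [h00, comp_row_zero, mulVec_single_one, col_apply] at e0
  rw [hcm 1, comp_row_one, mulVec_single_one, col_apply, col_apply]
  have htr : M.trace = c (Fin.last (m + 1)) := by
    rw [hM, cj, Matrix.trace_mul_comm, ← mul_assoc, ← Units.val_mul, inv_mul_cancel, Units.val_one,
      one_mul, trace_comp]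
  have hsum : M.trace = M 0 0 + s + ((m : F) - 1) := by
    rw [Matrix.trace, Fin.sum_univ_succ, diag_apply]
    suffices h : ∑ i : Fin (m + 1), M.diag i.succ = s + ((m : F) - 1) by rw [h]; ring
    have hterm : ∀ i : Fin (m + 1), M i.succ i.succ =
        if (i : ℕ) < m then (if (i : ℕ) = 0 then s else 1) else 0 := fun i => by
      rw [hMcol _ _ (Fin.succ_ne_zero i), hM₀]
      simp [zBase, σ]
    simp only [diag_apply, hterm]
    rw [Fin.sum_univ_eq_sum_range (fun i => if i < m then (if i = 0 then s else (1 : F)) else 0),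
      Finset.sum_range_succ, if_neg (lt_irrefl m), add_zero,
      Finset.sum_congr rfl (fun i hi => if_pos (Finset.mem_range.1 hi))]
    obtain ⟨k, rfl⟩ : ∃ k, m = k + 1 := ⟨m - 1, by omega⟩
    rw [Finset.sum_range_succ']
    simp
    ring
  intro h
  apply hs
  have e1 : M (Fin.last (m + 1)) 0 = ζ 0 / c 0 := by
    rw [eq_div_iff hc0, e0]; ring
  rw [htr] at hsum
  rw [e1] at h
  linear_combination -hsum - h


/-- A piece with the values `b`, `a`, `u`, …, `u`. -/
theorem goodEx_zpiece (h3 : ∃ x : F, x ≠ 0 ∧ x ≠ 1) {m : ℕ} (c : Fin (m + 3) → F) {a u : F}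
    (ha : a ≠ 0) (hu : u ≠ 0) (hau : a ≠ u) {b : F}
    (hb : b * (a * u ^ (m + 1)) = (comp c).charpoly.coeff 0 ^ 2) (hb0 : b ≠ 0) (hbu : b ≠ u) :
    ∃ R : Set F, GoodEx (comp c) (b ::ₘ a ::ₘ Multiset.replicate (m + 1) u) R Set.univ ∧ u ∉ R := by
  classical
  have hdet : (comp c).det ≠ 0 := fun h => by
    have := det_comp_sq c
    rw [h, ← hb] at this
    simp [hb0, ha, hu] at this
  let ζ : Fin (m + 3) → F := fun i => if (i : ℕ) = 0 then b else if (i : ℕ) = 1 then a else u
  have hζ : ∀ i, ζ i ≠ 0 := fun i => by simp only [ζ]; split_ifs <;> assumption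
  have hζ1 : ∀ i : Fin (m + 1), ζ i.succ.succ = u := fun i => by simp [ζ]
  have hprod : ∏ i, ζ i = (comp c).det ^ 2 := by
    rw [Fin.prod_univ_succ, Fin.prod_univ_succ, det_comp_sq, ← hb]
    rw [Finset.prod_eq_pow_card (b := u) fun i _ => hζ1 i]
    simp [ζ]
  obtain ⟨K, Z, σ, hpr, hσ, hcol, h00, h10, hlast⟩ :=
    exists_zpiece_mat (m := m + 1) h3 c hdet (by omega) hζ hprod
  have hz0 : ζ 0 = b := by simp [ζ]
  have hlow : ∀ i j : Fin (m + 3), i < j → Z i j = 0 := by
    intro i j hij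
    have : (i : ℕ) ≠ (j : ℕ) + 1 := by rw [Fin.lt_def] at hij; omega
    rw [hcol i j (fun e => absurd (e ▸ hij) (by simp)), if_neg hij.ne, if_neg this]
  let L := Z.submatrix Fin.succ Fin.succ
  have hL : Linked (fun i : Fin (m + 2) => ζ i.succ) L := by
    refine ⟨fun i j hij => hlow _ _ (by simpa using hij), fun i => ?_, fun i j hij => ?_⟩
    · simp [L, hcol _ _ (Fin.succ_ne_zero i)]
    · have hne : i ≠ j := fun e => by rw [e] at hij; omega
      simp [L, hcol _ _ (Fin.succ_ne_zero j), hne, hij]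
      exact hσ _ (Fin.succ_ne_zero j) (by simp; omega)
  have hLc : Cyclic L := hL.cyclic fun i j k h1 h2 e => by
    by_cases hj : (j : ℕ) = 0
    · rw [show i = j from Fin.ext (by rw [Fin.le_def] at h1; omega)]
    · refine Eq.trans ?_ e.symm
      have hk : (k : ℕ) ≠ 0 := by rw [Fin.le_def] at h2; omega
      simp [ζ, hj, hk]
  have hZhd : Z = hd b 0 (fun i => Z i.succ 0) L := by
    ext i j
    induction i using Fin.cases with
    | zero =>
      induction j using Fin.cases with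
      | zero => simp [h00, hz0]
      | succ j => simp [hlow _ _ (Fin.succ_pos j)]
    | succ i => induction j using Fin.cases <;> simp [L]
  have hcyc : Cyclic Z := by
    rw [hZhd]
    refine cyclic_hd hLc _ _ fun l hl0 hl => ?_
    by_cases hba : b = a
    · have he : (Pi.single 0 1 : Fin (m + 2) → F) ᵥ* L = b • Pi.single 0 1 := by
        funext j
        induction j using Fin.cases with
        | zero => simpa [hba, ζ] using hL.2.1 0
        | succ j => simpa using hL.1 0 j.succ (Fin.succ_pos j)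
      obtain ⟨t, rfl⟩ := cyclic_left_eigen hLc he hl (by simp)
      have ht : t ≠ 0 := fun h0 => hl0 (by rw [h0, zero_smul])
      rw [smul_dotProduct, single_dotProduct, one_mul, smul_eq_mul]
      exact mul_ne_zero ht (by simpa using h10)
    · exfalso
      refine hL.det_sub_ne_zero (x := b) (fun i e => ?_) (Matrix.exists_vecMul_eq_zero_iff.1
        ⟨l, hl0, by rw [vecMul_sub, vecMul_smul, vecMul_one, hl, sub_self]⟩)
      simp only [ζ, Fin.val_succ] at e
      split_ifs at e <;> first | omega | exact hba e.symm | exact hbu e.symm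
  refine ⟨{x | HasR (cj (1 : GL (Fin (m + 3)) F) (comp c)) (cj K (comp c)) x},
    ⟨1, _, 1, K, by simp, rfl, ?_, fun x hx => hx, fun x _ => Set.mem_univ x⟩, ?_⟩
  · rw [cj_one, hpr]
    refine ⟨?_, fun x l l' hl0 h1 h2 => cyclic_left_eigen hcyc h1 h2 hl0⟩
    rw [Matrix.charpoly, Matrix.det_of_isLowerTriangular]
    · rw [Fin.prod_univ_succ, Fin.prod_univ_succ, Finset.prod_eq_pow_card (b := X - C u) fun i _ => by
        rw [charmatrix_apply_eq, hcol _ _ (Fin.succ_ne_zero _), if_pos rfl, hζ1]]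
      rw [charmatrix_apply_eq, charmatrix_apply_eq, h00, hcol _ _ (Fin.succ_ne_zero _), if_pos rfl,
        rpoly, Multiset.map_cons, Multiset.prod_cons, Multiset.map_cons, Multiset.prod_cons,
        Multiset.map_replicate, Multiset.prod_replicate, Finset.card_univ, Fintype.card_fin]
      simp [ζ]
    · intro i j hij
      simp only [OrderDual.toDual_lt_toDual] at hij
      rw [charmatrix_apply_ne _ _ _ hij.ne, hlow i j hij, map_zero, neg_zero]
  · rintro ⟨v, hv0, hv, μ, hμ⟩
    rw [cj_one, hpr] at hv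
    have hrow : ∀ j : Fin (m + 2), (Z *ᵥ v) j.succ = Z j.succ 0 * v 0 +
        (ζ j.succ * v j.succ + if (j : ℕ) = 0 then 0 else σ ⟨(j : ℕ), by omega⟩ * v ⟨(j : ℕ), by omega⟩) := by
      intro j
      simp only [mulVec, dotProduct, Fin.sum_univ_succ (f := fun k => Z j.succ k * v k)]
      congr 1
      have hk : ∀ k : Fin (m + 2), Z j.succ k.succ * v k.succ = (if j = k then ζ j.succ * v k.succ else 0) +
          if (j : ℕ) = (k : ℕ) + 1 then σ k.succ * v k.succ else 0 := by
        intro k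
        rw [hcol _ _ (Fin.succ_ne_zero k)]
        by_cases h1 : j = k
        · subst h1; simp
        · by_cases h2 : (j : ℕ) = (k : ℕ) + 1 <;> simp [h1, h2]
      simp only [hk, Finset.sum_add_distrib, Finset.sum_ite_eq, Finset.mem_univ, if_true]
      congr 1
      split_ifs with h0
      · exact Finset.sum_eq_zero fun k _ => if_neg (by omega)
      · rw [Finset.sum_eq_single ⟨(j : ℕ) - 1, by omega⟩]
        · rw [if_pos (by simp; omega)]
          have : (⟨(j : ℕ) - 1, by omega⟩ : Fin (m + 2)).succ = (⟨(j : ℕ), by omega⟩ : Fin (m + 3)) :=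
            Fin.ext (by simp; omega)
          rw [this]
        · intro k _ hk
          exact if_neg fun h' => hk (Fin.ext (by simp; omega))
        · simp
    have hv00 : v 0 = 0 := by
      have e0 := congrFun hv 0
      have hr0 : (Z *ᵥ v) 0 = b * v 0 := by
        simp only [mulVec, dotProduct]
        rw [Finset.sum_eq_single 0]
        · rw [h00, hz0]
        · intro j _ hj; rw [hlow 0 j (Fin.pos_of_ne_zero hj), zero_mul]
        · simp
      rw [hr0, Pi.smul_apply, smul_eq_mul] at e0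
      by_contra h0
      exact hbu (mul_right_cancel₀ h0 e0)
    have hv1 : v (Fin.succ 0) = 0 := by
      have e1 := congrFun hv (Fin.succ 0)
      rw [hrow, hv00] at e1
      simp [ζ, hau] at e1
      simpa using e1
    have hmid : ∀ j : Fin (m + 3), (j : ℕ) + 1 < m + 3 → v j = 0 := by
      intro j hj
      by_cases hj0 : j = 0
      · rw [hj0, hv00]
      by_cases hj1 : (j : ℕ) = 1
      · rw [show j = Fin.succ 0 from Fin.ext (by simp [hj1]), hv1]
      let k : Fin (m + 2) := ⟨(j : ℕ), by omega⟩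
      have e1 := congrFun hv k.succ
      rw [hrow, hv00] at e1
      have hk0 : (k : ℕ) ≠ 0 := fun e => hj0 (Fin.ext e)
      have hku : ζ k.succ = u := by simp [ζ, hk0]
      rw [hku, if_neg hk0, mul_zero, zero_add, Pi.smul_apply, smul_eq_mul, add_eq_left] at e1
      exact (mul_eq_zero.1 e1).resolve_left (hσ j hj0 hj)
    have hveq : v = v (Fin.last (m + 2)) • Pi.single (Fin.last (m + 2)) 1 := by
      funext j
      by_cases hj : j = Fin.last (m + 2)
      · simp [hj]
      · simp [hj, hmid j (by have := Fin.val_lt_last hj; omega)]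
    have hne : v (Fin.last (m + 2)) ≠ 0 := fun h0 => hv0 (by rw [hveq, h0, zero_smul])
    rw [hveq, mulVec_smul, hlast] at hμ
    have := congrFun hμ ⟨m + 1, by omega⟩
    have hne' : (⟨m + 1, by omega⟩ : Fin (m + 3)) ≠ Fin.last (m + 2) := fun e => by
      have := congrArg Fin.val e
      simp at this
    simp [hne, hne', ζ, hu] at this

end CfsgLib.LevCover
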