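import Cfsg.Agent.Lib.LevCover.Schur
import Cfsg.Agent.Lib.KnownB.Sourour.Step

/-!
# The choice of the leading vector and form in one peeling step
-/

set_option autoImplicit false

namespace CfsgLib.LevCover

open Matrix Module CfsgLib.KnownB.Sourour

variable {F : Type*} [Field F] {n : ℕ}

local notation "V" => Fin (n + 1) → F

/-- Coordinates adapted to a vector and a form. -/
theorem exists_coord (A : Matrix (Fin (n + 1)) (Fin (n + 1)) F) {a : F} (x : V) (φ : Dual F V)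
    (hx : φ x = 1) (hy : φ (sh A a x) = 0) (hy0 : sh A a x ≠ 0) :
    ∃ (g : GL (Fin (n + 1)) F) (r c : Fin n → F) (A₁ : Matrix (Fin n) (Fin n) F),
      cj g A = hd a r c A₁ ∧ c ≠ 0 ∧
        (g : Matrix (Fin (n + 1)) (Fin (n + 1)) F) *ᵥ x = Pi.single 0 1 ∧
        (∀ v, ((g : Matrix (Fin (n + 1)) (Fin (n + 1)) F) *ᵥ v) 0 = φ v) ∧
        ((∃ z, φ (sh A a z) ≠ 0) → r ≠ 0) := by
  obtain ⟨g₀, hg₀⟩ := exists_gl_col (0 : Fin (n + 1)) (v := x) (fun h => by simp [h] at hx)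
  let φv : V := fun i => φ ((g₀ : Matrix (Fin (n + 1)) (Fin (n + 1)) F) *ᵥ Pi.single i 1)
  have hφv : ∀ v, φ ((g₀ : Matrix (Fin (n + 1)) (Fin (n + 1)) F) *ᵥ v) = φv ⬝ᵥ v := by
    intro v
    have h := LinearMap.congr_fun (show φ ∘ₗ Matrix.toLin' (g₀ : Matrix (Fin (n + 1)) (Fin (n + 1)) F)
        = ∑ i, φv i • LinearMap.proj i from (Pi.basisFun F (Fin (n + 1))).ext fun i => by
          simp [φv, Pi.single_apply, Finset.sum_apply]) v
    simpa [dotProduct] using h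
  have h0 : φv 0 = 1 := by simp only [φv, hg₀, hx]
  let U : Matrix (Fin (n + 1)) (Fin (n + 1)) F := hd 1 (fun j => φv j.succ) 0 1
  have hU : U.det ≠ 0 := by
    simp only [U, hd, Matrix.det_reindexAlgEquiv, det_blk_upper, det_one, mul_one, ne_eq,
      one_ne_zero, not_false_eq_true]
  have hUv : ∀ v, (U *ᵥ v) 0 = φv ⬝ᵥ v := fun v => by
    simp [U, mulVec, dotProduct, Fin.sum_univ_succ, h0]
  refine ⟨mkGL U hU * g₀⁻¹, ?_⟩
  set g : GL (Fin (n + 1)) F := mkGL U hU * g₀⁻¹ with hg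
  have hgφ : ∀ v, ((g : Matrix (Fin (n + 1)) (Fin (n + 1)) F) *ᵥ v) 0 = φ v := by
    intro v
    rw [hg, Units.val_mul, ← mulVec_mulVec, coe_mkGL, hUv, ← hφv, mulVec_inv_cancel]
  have hgx : (g : Matrix (Fin (n + 1)) (Fin (n + 1)) F) *ᵥ x = Pi.single 0 1 := by
    rw [hg, Units.val_mul, ← mulVec_mulVec, ← hg₀, inv_mulVec_cancel, coe_mkGL]
    funext i
    induction i using Fin.cases <;> simp [U]
  have hgy : sh (cj g A) a (Pi.single 0 1) =
      (g : Matrix (Fin (n + 1)) (Fin (n + 1)) F) *ᵥ sh A a x := by rw [← hgx, sh_cj]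
  obtain ⟨a', r, c, A₁, hform⟩ := exists_hd (cj g A)
  have hcol : sh (cj g A) a (Pi.single 0 1) = Fin.cons (a' - a) c := by
    rw [hform, ← cons_single, sh_apply, hd_mulVec]
    funext i
    induction i using Fin.cases <;> simp
  have ha : a' = a := by
    have := congrFun hgy 0
    rw [hcol, hgφ, hy, Fin.cons_zero] at this
    exact sub_eq_zero.1 this
  subst ha
  refine ⟨r, c, A₁, hform, fun hc => hy0 ?_, hgx, hgφ, fun ⟨z, hz⟩ hr => hz ?_⟩
  · have : (g : Matrix (Fin (n + 1)) (Fin (n + 1)) F) *ᵥ sh A a' x = 0 := by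
      rw [← hgy, hcol, hc, sub_self]
      funext i
      induction i using Fin.cases <;> simp
    rw [← inv_mulVec_cancel g (sh A a' x), this, mulVec_zero]
  · rw [← hgφ, ← sh_cj, hform]
    obtain ⟨t, w, hw⟩ : ∃ t w, (g : Matrix (Fin (n + 1)) (Fin (n + 1)) F) *ᵥ z = Fin.cons t w :=
      ⟨_, _, (Fin.cons_self_tail _).symm⟩
    rw [hw, sh_apply, hd_mulVec, hr]
    simp

/-- Kernels for distinct scalars are independent. -/
theorem sum_finrank_ker_le (A : Matrix (Fin (n + 1)) (Fin (n + 1)) F) (D : Finset F) :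
    ∑ ν ∈ D, finrank F (LinearMap.ker (sh A ν)) ≤ n + 1 := by
  classical
  have hE : ∀ ν, LinearMap.ker (sh A ν) = Module.End.eigenspace (Matrix.toLin' A) ν := by
    intro ν
    ext v
    rw [LinearMap.mem_ker, Module.End.mem_eigenspace_iff, sh_apply, sub_eq_zero, Matrix.toLin'_apply]
  rw [Finset.sum_congr rfl fun ν _ => by rw [hE ν]]
  have hind := Module.End.eigenspaces_iSupIndep (Matrix.toLin' A)
  have key : finrank F ↥(D.sup (Module.End.eigenspace (Matrix.toLin' A))) =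
      ∑ ν ∈ D, finrank F (Module.End.eigenspace (Matrix.toLin' A) ν) := by
    induction D using Finset.induction_on with
    | empty => simp
    | insert ν D hν ih =>
      rw [Finset.sup_insert, Finset.sum_insert hν, ← ih]
      have hdisj : Disjoint (Module.End.eigenspace (Matrix.toLin' A) ν)
          (D.sup (Module.End.eigenspace (Matrix.toLin' A))) := by
        rw [Finset.sup_eq_iSup]
        exact hind.disjoint_biSup (y := (D : Set F)) (by simpa using hν)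
      have h := Submodule.finrank_sup_add_finrank_inf_eq (Module.End.eigenspace (Matrix.toLin' A) ν)
        (D.sup (Module.End.eigenspace (Matrix.toLin' A)))
      rw [hdisj.eq_bot, finrank_bot, add_zero] at h
      exact h
  rw [← key]
  exact (Submodule.finrank_le _).trans (le_of_eq (by simp))

theorem rk_add_ker (A : Matrix (Fin (n + 1)) (Fin (n + 1)) F) (ν : F) :
    rk A ν + finrank F (LinearMap.ker (sh A ν)) = n + 1 := by
  rw [rk, (sh A ν).finrank_range_add_finrank_ker]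
  simp

theorem ker_le_range (A : Matrix (Fin (n + 1)) (Fin (n + 1)) F) {μ ν : F} (h : μ ≠ ν) :
    LinearMap.ker (sh A μ) ≤ LinearMap.range (sh A ν) := by
  intro u hu
  refine ⟨(μ - ν)⁻¹ • u, ?_⟩
  rw [LinearMap.mem_ker, sh_apply, sub_eq_zero] at hu
  rw [map_smul, sh_apply, hu, ← sub_smul, smul_smul, inv_mul_cancel₀ (sub_ne_zero.2 h), one_smul]

theorem sh_sub (A : Matrix (Fin (n + 1)) (Fin (n + 1)) F) (μ ν : F) (x : V) :
    sh A ν x = sh A μ x + (μ - ν) • x := by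
  rw [sh_apply, sh_apply, sub_smul]
  abel

/-- The conditions at one scalar sparing the complement. -/
def Spared (A : Matrix (Fin (n + 1)) (Fin (n + 1)) F) (x : V) (φ : Dual F V) (ν : F) : Prop :=
  4 ≤ rk A ν ∨
    (x ∉ LinearMap.range (sh A ν) ∧ ∃ u, sh A ν u = 0 ∧ φ u ≠ 0) ∨
    (3 ≤ rk A ν ∧ (x ∉ LinearMap.range (sh A ν) ∨ ∃ u, sh A ν u = 0 ∧ φ u ≠ 0))

theorem Spared.rk_schur {A : Matrix (Fin (n + 1)) (Fin (n + 1)) F} {x : V} {φ : Dual F V} {ν a : F}
    (h : Spared A x φ ν) (hν : ν ≠ 0) (h2 : 2 ≤ rk A ν) (ha : a ≠ 0) {g : GL (Fin (n + 1)) F}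
    {r c : Fin n → F} {A₁ : Matrix (Fin n) (Fin n) F} (hform : cj g A = hd a r c A₁) (hc : c ≠ 0)
    (hgx : (g : Matrix (Fin (n + 1)) (Fin (n + 1)) F) *ᵥ x = Pi.single 0 1)
    (hgφ : ∀ v, ((g : Matrix (Fin (n + 1)) (Fin (n + 1)) F) *ᵥ v) 0 = φ v) :
    2 ≤ rk (A₁ - a⁻¹ • vecMulVec c r) ν := by
  by_contra hlt
  have hle : rk (A₁ - a⁻¹ • vecMulVec c r) ν ≤ 1 := by omega
  have hrk : rk (hd a r c A₁) ν = rk A ν := by rw [← hform, rk_cj]
  have hx' : x ∉ LinearMap.range (sh A ν) →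
      (Pi.single 0 1 : V) ∉ LinearMap.range (sh (hd a r c A₁) ν) := by
    rintro hx ⟨v, hv⟩
    refine hx ⟨((g⁻¹ : GL (Fin (n + 1)) F) : Matrix (Fin (n + 1)) (Fin (n + 1)) F) *ᵥ v, ?_⟩
    rw [← inv_mulVec_cancel g (sh A ν _), ← sh_cj, mulVec_inv_cancel, hform, hv, ← hgx,
      inv_mulVec_cancel]
  have hk' : (∃ u, sh A ν u = 0 ∧ φ u ≠ 0) → ∃ k, sh (hd a r c A₁) ν k = 0 ∧ k 0 ≠ 0 := by
    rintro ⟨u, hu, hφ⟩
    exact ⟨_, by rw [← hform, sh_cj, hu, mulVec_zero], by rwa [hgφ]⟩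
  have h3 := rk_le_three (c := c) ha rfl hle
  rcases h with h | ⟨hx, hu⟩ | ⟨h, hx | hu⟩
  · omega
  · obtain ⟨k, hk, hk0⟩ := hk' hu
    have := rk_le_one_of_both ha rfl hν hc hle hk hk0 (hx' hx)
    omega
  · have := rk_le_two_of_notMem (c := c) ha rfl hν hle (hx' hx)
    omega
  · obtain ⟨k, hk, hk0⟩ := hk' hu
    have := rk_le_two_of_ker ha rfl hν hc hle hk hk0
    omega

/-- The form of a vector. -/
def dual (γ : V) : Dual F V where
  toFun v := γ ⬝ᵥ v
  map_add' u v := dotProduct_add _ _ _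
  map_smul' t v := by simp

theorem ker_dual_ne_top {γ : V} (hγ : γ ≠ 0) : LinearMap.ker (dual γ) ≠ ⊤ := by
  intro h
  refine hγ (funext fun i => ?_)
  have : dual γ (Pi.single i 1) = 0 := LinearMap.mem_ker.1 (h ▸ Submodule.mem_top)
  simpa [dual] using this

theorem comap_line_ne_top (A : Matrix (Fin (n + 1)) (Fin (n + 1)) F) {a : F} (h : 2 ≤ rk A a)
    (b : V) : (F ∙ b).comap (sh A a) ≠ ⊤ := by
  intro htop
  have hle : LinearMap.range (sh A a) ≤ F ∙ b := by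
    rintro _ ⟨u, rfl⟩
    exact (htop.symm ▸ Submodule.mem_top : u ∈ (F ∙ b).comap (sh A a))
  have h1 := Submodule.finrank_mono hle
  have h2 : finrank F (F ∙ b) ≤ 1 := (finrank_span_le_card ({b} : Set V)).trans (by simp)
  rw [rk] at h
  omega

theorem range_ne_top_of_rk (A : Matrix (Fin (n + 1)) (Fin (n + 1)) F) {ν : F} (h : rk A ν ≤ n) :
    LinearMap.range (sh A ν) ≠ ⊤ := by
  intro htop
  rw [rk, htop, finrank_top] at h
  simp at h

theorem ker_ne_top_of_rk (A : Matrix (Fin (n + 1)) (Fin (n + 1)) F) {ν : F} (h : 1 ≤ rk A ν) :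
    LinearMap.ker (sh A ν) ≠ ⊤ := by
  intro htop
  have := rk_add_ker A ν
  rw [htop, finrank_top] at this
  simp at this
  omega

theorem exists_avoid (h4 : 4 ≤ ENat.card F) (A : Matrix (Fin (n + 1)) (Fin (n + 1)) F)
    (hA : ¬ IsScal A) {a : F}
    (ha2 : 2 ≤ rk A a) {b γ : V} (hb : b ≠ 0) (hγ : γ ≠ 0) (D : Finset F) (hD : D.card ≤ 2)
    (hDr : ∀ ν ∈ D, rk A ν ≤ n ∧ 1 ≤ rk A ν) :
    ∃ x, γ ⬝ᵥ x ≠ 0 ∧ (∀ μ : F, A *ᵥ x ≠ μ • x) ∧ b ∉ F ∙ sh A a x ∧
      ∀ ν ∈ D, x ∉ LinearMap.range (sh A ν) := by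
  classical
  have hW := comap_line_ne_top A ha2 b
  have hbline : ∀ x, x ∉ (F ∙ b).comap (sh A a) → b ∉ F ∙ sh A a x := fun x hx hm => by
    obtain ⟨t, ht⟩ := Submodule.mem_span_singleton.1 hm
    refine hx (Submodule.mem_comap.2 (Submodule.mem_span_singleton.2 ⟨t⁻¹, ?_⟩))
    rw [← ht, smul_smul, inv_mul_cancel₀ (fun h0 => hb (by rw [← ht, h0, zero_smul])), one_smul]
  -- outside an image the only possible eigenvalue is that scalar
  have hone : ∀ ν x, x ∉ LinearMap.range (sh A ν) → x ∉ LinearMap.ker (sh A ν) →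
      ∀ μ : F, A *ᵥ x ≠ μ • x := by
    intro ν x h1 h2 μ hμ
    have hk : x ∈ LinearMap.ker (sh A μ) := by rw [LinearMap.mem_ker, sh_apply, hμ, sub_self]
    by_cases e : μ = ν
    · exact h2 (e ▸ hk)
    · exact h1 (ker_le_range A e hk)
  have htwo : ∀ ν ν' x, ν ≠ ν' → x ∉ LinearMap.range (sh A ν) → x ∉ LinearMap.range (sh A ν') →
      ∀ μ : F, A *ᵥ x ≠ μ • x := fun ν ν' x hne h1 h2 =>
    hone ν x h1 fun hk => h2 (ker_le_range A hne hk)
  have hγk : ∀ x, x ∉ LinearMap.ker (dual γ) → γ ⬝ᵥ x ≠ 0 := fun x hx h => hx h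
  obtain h0 | h1 | h2 : D.card = 0 ∨ D.card = 1 ∨ D.card = 2 := by omega
  · rw [Finset.card_eq_zero] at h0
    subst h0
    by_cases hinj : LinearMap.ker (sh A a) = ⊥
    · have hsurj := LinearMap.range_eq_top.1 (range_eq_top_of_ker _ hinj)
      obtain ⟨w, hw⟩ := hsurj b
      obtain ⟨x, hcx, hxw, hxe⟩ := exists_noneigen h4 (Matrix.toLin' A) (fun ⟨s, hs⟩ =>
        hA ⟨s, Matrix.toLin'.injective (by rw [hs, map_smul, Matrix.toLin'_one]; rfl)⟩)
        (dual γ) (fun h => ker_dual_ne_top hγ (by rw [h, LinearMap.ker_zero])) w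
      refine ⟨x, hcx, fun μ hμ => hxe μ hμ, hbline x fun hm => hxw ?_, by simp⟩
      rw [Submodule.mem_comap] at hm
      obtain ⟨t, ht⟩ := Submodule.mem_span_singleton.1 hm
      exact Submodule.mem_span_singleton.2 ⟨t, LinearMap.ker_eq_bot.1 hinj (by rw [map_smul, hw, ht])⟩
    · have hr : rk A a ≤ n := by
        have := rk_add_ker A a
        have : finrank F (LinearMap.ker (sh A a)) ≠ 0 := fun h => hinj (Submodule.finrank_eq_zero.1 h)
        omega
      obtain ⟨x, h1, h2, h3, h4'⟩ := avoid_four h4 _ _ _ _ (ker_dual_ne_top hγ) hW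
        (range_ne_top_of_rk A hr) (ker_ne_top_of_rk A (le_trans one_le_two ha2))
      exact ⟨x, hγk x h1, hone a x h3 h4', hbline x h2, by simp⟩
  · obtain ⟨ν, rfl⟩ := Finset.card_eq_one.1 h1
    obtain ⟨hr, hr1⟩ := hDr ν (Finset.mem_singleton_self ν)
    obtain ⟨x, h1, h2, h3, h4'⟩ := avoid_four h4 _ _ _ _ (ker_dual_ne_top hγ) hW
      (range_ne_top_of_rk A hr) (ker_ne_top_of_rk A hr1)
    exact ⟨x, hγk x h1, hone ν x h3 h4', hbline x h2, by simpa using h3⟩
  · obtain ⟨ν, ν', hne, rfl⟩ := Finset.card_eq_two.1 h2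
    obtain ⟨x, h1, h2, h3, h4'⟩ := avoid_four h4 _ _ _ _ (ker_dual_ne_top hγ) hW
      (range_ne_top_of_rk A (hDr ν (by simp)).1) (range_ne_top_of_rk A (hDr ν' (by simp)).1)
    exact ⟨x, hγk x h1, htwo ν ν' x hne h3 h4', hbline x h2, fun μ hμ => by
      rcases Finset.mem_insert.1 hμ with rfl | hμ
      · exact h3
      · rw [Finset.mem_singleton] at hμ; exact hμ ▸ h4'⟩

/-- One peeling step in dimension at least four. -/
theorem exists_pivot_big [Fintype F] (h4 : 4 ≤ ENat.card F) (hn : 3 ≤ n)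
    (A : Matrix (Fin (n + 1)) (Fin (n + 1)) F) (hA : ¬ IsScal A) (hdet : A.det ≠ 0) {a : F}
    (ha : a ≠ 0) (ha2 : 2 ≤ rk A a) (S : Finset F) (hS : S.card ≤ n)
    (hS' : ∀ ν ∈ S, ν ≠ 0 ∧ 2 ≤ rk A ν) {b γ : V} (hb : b ≠ 0) (hγ : γ ≠ 0) :
    ∃ (g : GL (Fin (n + 1)) F) (r c : Fin n → F) (A₁ : Matrix (Fin n) (Fin n) F),
      cj g A = hd a r c A₁ ∧ c ≠ 0 ∧ r ≠ 0 ∧
      ((g : Matrix (Fin (n + 1)) (Fin (n + 1)) F) *ᵥ b) 0 ≠ 0 ∧
      (γ ᵥ* ((g⁻¹ : GL (Fin (n + 1)) F) : Matrix (Fin (n + 1)) (Fin (n + 1)) F)) 0 ≠ 0 ∧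
      ¬ IsScal (A₁ - a⁻¹ • vecMulVec c r) ∧
      ∀ ν ∈ S, 2 ≤ rk (A₁ - a⁻¹ • vecMulVec c r) ν := by
  classical
  set D := S.filter (fun ν => rk A ν ≤ 3) with hD
  set E := (Finset.univ : Finset F).filter (fun ν => rk A ν ≤ 2) with hE
  have hE0 : ∀ ν ∈ E, ν ≠ 0 := by
    intro ν hν h0
    subst h0
    have h : rk A 0 = n + 1 := by
      have hbot : LinearMap.ker (sh A 0) = ⊥ := by
        rw [eq_bot_iff]
        intro v hv
        rw [LinearMap.mem_ker, sh_apply, zero_smul, sub_zero] at hv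
        rw [Submodule.mem_bot]
        by_contra hv0
        exact hdet (Matrix.exists_mulVec_eq_zero_iff.1 ⟨v, hv0, hv⟩)
      have := rk_add_ker A 0
      rw [hbot, finrank_bot] at this
      omega
    rw [hE, Finset.mem_filter] at hν
    omega
  have hmem : ∀ ν ∈ D ∪ E, rk A ν ≤ 3 := by
    intro ν hν
    simp only [hD, hE, Finset.mem_union, Finset.mem_filter] at hν
    omega
  have hcount : (D ∪ E).card * (n + 1 - 3) + E.card ≤ n + 1 := by
    refine le_trans ?_ (sum_finrank_ker_le A (D ∪ E))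
    have : ∑ ν ∈ D ∪ E, ((n + 1 - 3) + if ν ∈ E then 1 else 0) ≤
        ∑ ν ∈ D ∪ E, finrank F (LinearMap.ker (sh A ν)) := by
      refine Finset.sum_le_sum fun ν hν => ?_
      have := rk_add_ker A ν
      have := hmem ν hν
      by_cases h : ν ∈ E
      · rw [if_pos h]
        simp only [hE, Finset.mem_filter] at h
        omega
      · rw [if_neg h]
        omega
    refine le_trans (le_of_eq ?_) this
    rw [Finset.sum_add_distrib, Finset.sum_const, smul_eq_mul, Finset.sum_boole,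
      Finset.filter_mem_eq_inter, Finset.inter_eq_right.2 Finset.subset_union_right]
    simp
  -- the sizes
  have hU : (D ∪ E).card + E.card ≤ 4 ∧ ((D ∪ E).card ≤ 2 ∨ n = 3) := by
    obtain ⟨m, hm⟩ : ∃ m, n + 1 - 3 = m := ⟨_, rfl⟩
    rw [hm] at hcount
    have hEU : E.card ≤ (D ∪ E).card := Finset.card_le_card Finset.subset_union_right
    rcases Nat.lt_or_ge (D ∪ E).card 3 with h | h
    · refine ⟨?_, Or.inl (by omega)⟩
      rcases Nat.lt_or_ge (D ∪ E).card 2 with h' | h'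
      · omega
      · have : (D ∪ E).card = 2 := by omega
        omega
    · have h3 : 3 * m + E.card ≤ n + 1 := le_trans (by nlinarith) hcount
      have hn3 : n = 3 := by omega
      refine ⟨?_, Or.inr hn3⟩
      have : m = 1 := by omega
      subst this
      omega
  have hDE : D.card ≤ 2 ∨ (D.card = 3 ∧ E ⊆ D ∧ E.card ≤ 1 ∧ n = 3) := by
    rcases Nat.lt_or_ge D.card 3 with h | h
    · exact Or.inl (by omega)
    refine Or.inr ?_
    have hn3 : n = 3 := hU.2.resolve_left (by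
      have := Finset.card_le_card (Finset.subset_union_left (s₁ := D) (s₂ := E)); omega)
    have hD3 : D.card = 3 := le_antisymm ((Finset.card_filter_le _ _).trans (hn3 ▸ hS)) h
    have hsub : D.card ≤ (D ∪ E).card := Finset.card_le_card Finset.subset_union_left
    refine ⟨hD3, ?_, by omega, hn3⟩
    intro ν hν
    by_contra hνD
    have : D.card < (D ∪ E).card := Finset.card_lt_card
      (Finset.ssubset_iff_of_subset Finset.subset_union_left |>.2 ⟨ν, Finset.mem_union_right _ hν, hνD⟩)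
    have : 0 < E.card := Finset.card_pos.2 ⟨ν, hν⟩
    omega
  have hEcard : E.card ≤ 2 := by
    have := Finset.card_le_card (Finset.subset_union_right (s₁ := D) (s₂ := E))
    omega
  -- the vectors on which the form must not vanish
  obtain ⟨X, hX, hXr, hsel⟩ : ∃ X : Finset F, X.card ≤ 2 ∧ (∀ ν ∈ X, rk A ν ≤ n ∧ 1 ≤ rk A ν) ∧
      ((D ⊆ X) ∨ (E.card ≤ 1 ∧ E ⊆ X ∧ ∃ ν₁ ν₃, X ⊆ D ∧ ν₁ ∈ X ∧ ν₁ ≠ a ∧ ν₃ ≠ a ∧ ν₁ ≠ ν₃ ∧
        3 ≤ rk A ν₃ ∧ rk A ν₃ ≤ n ∧ ∀ ν ∈ D, ν ∈ X ∨ ν = ν₃)) := by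
    have hDn : ∀ ν ∈ D, rk A ν ≤ n ∧ 1 ≤ rk A ν := fun ν hν => by
      simp only [hD, Finset.mem_filter] at hν
      have := (hS' ν hν.1).2
      omega
    rcases hDE with h | ⟨h3, hsub, hE1, hn3⟩
    · exact ⟨D, h, hDn, Or.inl subset_rfl⟩
    obtain ⟨ν₃, hν₃, hν₃'⟩ := Finset.exists_mem_notMem_of_card_lt_card (s := E ∪ {a}) (t := D) (by
      have := Finset.card_union_le E {a}
      rw [Finset.card_singleton] at this
      omega)
    simp only [Finset.mem_union, Finset.mem_singleton, not_or] at hν₃'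
    have hX2 : (D.erase ν₃).card = 2 := by rw [Finset.card_erase_of_mem hν₃]; omega
    obtain ⟨ν₁, hν₁, hν₁a⟩ := Finset.exists_mem_ne (s := D.erase ν₃) (by omega) a
    refine ⟨D.erase ν₃, hX2.le, fun ν hν => hDn ν (Finset.mem_of_mem_erase hν), Or.inr ⟨hE1, ?_, ν₁,
      ν₃, Finset.erase_subset _ _, hν₁, hν₁a, hν₃'.2, Finset.ne_of_mem_erase hν₁, ?_, ?_, fun ν hν => ?_⟩⟩
    · exact fun ν hν => Finset.mem_erase.2 ⟨fun e => hν₃'.1 (e ▸ hν), hsub hν⟩
    · have h := hν₃'.1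
      simp only [hE, Finset.mem_filter, Finset.mem_univ, true_and] at h
      omega
    · exact (hDn ν₃ hν₃).1
    · by_cases e : ν = ν₃
      · exact Or.inr e
      · exact Or.inl (Finset.mem_erase.2 ⟨e, hν⟩)
  obtain ⟨x, hxγ, hxe, hbl, hxD⟩ := exists_avoid h4 A hA ha2 hb hγ X hX hXr
  have hy0 : sh A a x ≠ 0 := fun h => hxe a (by rwa [sh_apply, sub_eq_zero] at h)
  have hxy : x ∉ F ∙ sh A a x := fun hm => by
    obtain ⟨t, ht⟩ := Submodule.mem_span_singleton.1 hm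
    have ht0 : t ≠ 0 := fun h0 => hxe 0 (by
      have hx0 : x = 0 := by rw [← ht, h0, zero_smul]
      rw [hx0, mulVec_zero, smul_zero])
    refine hxe (a + t⁻¹) ?_
    have e : sh A a x = t⁻¹ • x := by
      conv_rhs => arg 2; rw [← ht]
      rw [smul_smul, inv_mul_cancel₀ ht0, one_smul]
    rw [sh_apply, sub_eq_iff_eq_add] at e
    rw [e, add_smul]; abel
  have hker2 : ∀ ν ∈ E, ∃ u, sh A ν u = 0 ∧ u ∉ F ∙ sh A a x := fun ν hν => by
    simp only [hE, Finset.mem_filter] at hν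
    obtain ⟨u, hu, hu'⟩ := exists_notMem_line (p := LinearMap.ker (sh A ν))
      (by have := rk_add_ker A ν; omega) (sh A a x)
    exact ⟨u, hu, hu'⟩
  choose! u hu huy using hker2
  obtain ⟨z', ⟨z, rfl⟩, hzy⟩ := exists_notMem_line (p := LinearMap.range (sh A a)) ha2 (sh A a x)
  -- the form
  obtain ⟨φ, hφx, hφy, hφb, hφE, hφz, hφ3⟩ : ∃ φ : Dual F V, φ x = 1 ∧ φ (sh A a x) = 0 ∧
      φ b ≠ 0 ∧ (∀ ν ∈ E, φ (u ν) ≠ 0) ∧ (∃ z, φ (sh A a z) ≠ 0) ∧
      (∀ ν ∈ D, ν ∈ X ∨ ∃ w, sh A ν w = 0 ∧ φ w ≠ 0) := by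
    have hcov : ∀ μ, μ ≠ a → ∀ w, sh A μ w = 0 → ∀ φ : Dual F V, φ w ≠ 0 → ∃ z, φ (sh A a z) ≠ 0 :=
      fun μ hμ w hw φ hφ => by
        obtain ⟨z, hz⟩ := ker_le_range A hμ (LinearMap.mem_ker.2 hw)
        exact ⟨z, by rwa [hz]⟩
    rcases hsel with hsub | ⟨hE1, hEX, ν₁, ν₃, hXD, hν₁, hν₁a, hν₃a, hν₁₃, hν₃r, hν₃n, hcov3⟩
    · obtain h0 | h1 | h2 : E.card = 0 ∨ E.card = 1 ∨ E.card = 2 := by omega
      · rw [Finset.card_eq_zero] at h0
        obtain ⟨φ, e1, e2, e3, e4, -⟩ := exists_phi h4 x (sh A a x) b _ b hxy hbl hzy hbl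
        exact ⟨φ, e1, e2, e3, by simp [h0], ⟨z, e4⟩, fun ν hν => Or.inl (hsub hν)⟩
      · obtain ⟨ν, hν⟩ := Finset.card_eq_one.1 h1
        obtain ⟨φ, e1, e2, e3, e4, e5⟩ := exists_phi h4 x (sh A a x) b _ (u ν) hxy hbl hzy
          (huy ν (by simp [hν]))
        exact ⟨φ, e1, e2, e3, by simpa [hν] using e5, ⟨z, e4⟩, fun μ hμ => Or.inl (hsub hμ)⟩
      · obtain ⟨ν, ν', hne, hν⟩ := Finset.card_eq_two.1 h2
        obtain ⟨φ, e1, e2, e3, e4, e5⟩ := exists_phi h4 x (sh A a x) b (u ν) (u ν') hxy hbl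
          (huy ν (by simp [hν])) (huy ν' (by simp [hν]))
        refine ⟨φ, e1, e2, e3, by simp [hν, e4, e5], ?_, fun μ hμ => Or.inl (hsub hμ)⟩
        by_cases e : ν = a
        · exact hcov ν' (fun h => hne (e.trans h.symm)) _ (hu ν' (by simp [hν])) φ e5
        · exact hcov ν e _ (hu ν (by simp [hν])) φ e4
    · obtain ⟨u₃, hu₃, hu₃0⟩ := Submodule.exists_mem_ne_zero_of_ne_bot
        (p := LinearMap.ker (sh A ν₃)) (fun h => by
          have := rk_add_ker A ν₃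
          rw [h, finrank_bot] at this
          omega)
      have hu₃y : u₃ ∉ F ∙ sh A a x := fun hm => by
        obtain ⟨t, ht⟩ := Submodule.mem_span_singleton.1 hm
        have ht0 : t ≠ 0 := fun h0 => hu₃0 (by rw [← ht, h0, zero_smul])
        have hyk : sh A a x ∈ LinearMap.ker (sh A ν₃) := by
          rw [← ht] at hu₃
          exact (Submodule.smul_mem_iff _ ht0).1 hu₃
        -- `x` would lie in the image for the selected scalar
        have hk : sh A ν₃ x ∈ LinearMap.ker (sh A a) := by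
          rw [LinearMap.mem_ker, sh_sub A a ν₃ x, map_add, map_smul]
          rw [LinearMap.mem_ker, sh_sub A a ν₃ (sh A a x)] at hyk
          exact hyk
        refine hxD ν₁ hν₁ ?_
        have h1 := ker_le_range A hν₁a.symm hk
        have h2 := ker_le_range A hν₁₃.symm hyk
        rw [sh_sub A a ν₃ x] at h1
        have h3 := sub_mem h1 h2
        rw [add_sub_cancel_left, Submodule.smul_mem_iff _ (sub_ne_zero.2 hν₃a.symm)] at h3
        exact h3
      rcases Finset.eq_empty_or_nonempty E with h0 | ⟨ν, hν⟩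
      · obtain ⟨φ, e1, e2, e3, e4, -⟩ := exists_phi h4 x (sh A a x) b u₃ b hxy hbl hu₃y hbl
        exact ⟨φ, e1, e2, e3, by simp [h0], hcov ν₃ hν₃a u₃ hu₃ φ e4,
          fun μ hμ => (hcov3 μ hμ).imp_right fun e => ⟨u₃, by rwa [e], e4⟩⟩
      · obtain ⟨φ, e1, e2, e3, e4, e5⟩ := exists_phi h4 x (sh A a x) b u₃ (u ν) hxy hbl hu₃y
          (huy ν hν)
        exact ⟨φ, e1, e2, e3, fun μ hμ => by rwa [Finset.card_le_one.1 hE1 μ hμ ν hν],
          hcov ν₃ hν₃a u₃ hu₃ φ e4, fun μ hμ => (hcov3 μ hμ).imp_right fun e => ⟨u₃, by rwa [e], e4⟩⟩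
  obtain ⟨g, r, c, A₁, hform, hc, hgx, hgφ, hr⟩ := exists_coord A x φ hφx hφy hy0
  refine ⟨g, r, c, A₁, hform, hc, hr hφz, by rwa [hgφ], ?_, ?_, fun ν hν => ?_⟩
  · have h : γ ᵥ* ((g⁻¹ : GL (Fin (n + 1)) F) : Matrix (Fin (n + 1)) (Fin (n + 1)) F) ⬝ᵥ Pi.single 0 1 =
        γ ⬝ᵥ x := by rw [← dotProduct_mulVec, ← hgx, inv_mulVec_cancel]
    rw [dotProduct_single, mul_one] at h
    rwa [h]
  · rintro ⟨l, hl⟩
    have hrange : LinearMap.range (sh (hd a r c A₁) l) ≤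
        Submodule.span F {Fin.cons (a - l) c, Fin.cons a c} := by
      refine (range_le ha rfl l).trans (sup_le le_rfl ?_)
      have : sh (A₁ - a⁻¹ • vecMulVec c r) l = 0 := by
        rw [sh, hl, map_smul, Matrix.toLin'_one]
        exact sub_self _
      rw [this, LinearMap.range_zero, Submodule.map_bot]
      exact bot_le
    have hlE : l ∈ E := by
      simp only [hE, Finset.mem_filter, Finset.mem_univ, true_and]
      rw [← rk_cj g, hform]
      exact (Submodule.finrank_mono hrange).trans (span_pair_finrank _ _)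
    -- a kernel vector leaving the hyperplane contradicts `c ≠ 0`
    have hk : sh (hd a r c A₁) l ((g : Matrix (Fin (n + 1)) (Fin (n + 1)) F) *ᵥ u l) = 0 := by
      rw [← hform, sh_cj, hu l hlE, mulVec_zero]
    obtain ⟨t, w, hw⟩ : ∃ t w, (g : Matrix (Fin (n + 1)) (Fin (n + 1)) F) *ᵥ u l = Fin.cons t w :=
      ⟨_, _, (Fin.cons_self_tail _).symm⟩
    have ht : t ≠ 0 := by
      have := hφE l hlE
      rwa [← hgφ, hw, Fin.cons_zero] at this
    rw [hw, sh_apply, hd_mulVec] at hk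
    have hA₁ : A₁ = l • 1 + a⁻¹ • vecMulVec c r := by rw [← hl]; abel
    have e0 := congrFun hk 0
    simp only [Pi.sub_apply, Pi.smul_apply, Fin.cons_zero, smul_eq_mul, Pi.zero_apply] at e0
    refine hc (funext fun i => ?_)
    have e := congrFun hk i.succ
    simp [hA₁, add_mulVec, smul_mulVec, vecMulVec_mulVec] at e
    have : c i * (l * t) = 0 := by
      field_simp at e
      linear_combination e - (c i) * e0
    simpa [hE0 l hlE, ht] using this
  · refine Spared.rk_schur ?_ (hS' ν hν).1 (hS' ν hν).2 ha hform hc hgx hgφ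
    by_cases hνD : ν ∈ D
    · rcases hφ3 ν hνD with hX' | hw
      · by_cases hνE : ν ∈ E
        · exact Or.inr (Or.inl ⟨hxD ν hX', u ν, hu ν hνE, hφE ν hνE⟩)
        · simp only [hE, Finset.mem_filter, Finset.mem_univ, true_and] at hνE
          exact Or.inr (Or.inr ⟨by omega, Or.inl (hxD ν hX')⟩)
      · by_cases hνE : ν ∈ E
        · -- rank two scalars are always selected
          rcases hsel with hsub | ⟨_, hEX, _⟩
          · exact Or.inr (Or.inl ⟨hxD ν (hsub hνD), u ν, hu ν hνE, hφE ν hνE⟩)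
          · exact Or.inr (Or.inl ⟨hxD ν (hEX hνE), u ν, hu ν hνE, hφE ν hνE⟩)
        · simp only [hE, Finset.mem_filter, Finset.mem_univ, true_and] at hνE
          exact Or.inr (Or.inr ⟨by omega, Or.inr hw⟩)
    · simp only [hD, Finset.mem_filter, not_and] at hνD
      have := hνD hν
      exact Or.inl (by omega)

end CfsgLib.LevCover
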