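import Cfsg.Agent.Lib.LevCover.Pivot

/-!
# One peeling step in dimensions two and three
-/

set_option autoImplicit false

namespace CfsgLib.LevCover

open Matrix Module CfsgLib.KnownB.Sourour

variable {F : Type*} [Field F] {n : ℕ}

/-- The outcome of a step. -/
def StepOut (A : Matrix (Fin (n + 1)) (Fin (n + 1)) F) (a : F) (b γ : Fin (n + 1) → F)
    (P : Matrix (Fin n) (Fin n) F → Prop) : Prop :=
  ∃ (g : GL (Fin (n + 1)) F) (r c : Fin n → F) (A₁ : Matrix (Fin n) (Fin n) F),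
    cj g A = hd a r c A₁ ∧ c ≠ 0 ∧ r ≠ 0 ∧
    ((g : Matrix (Fin (n + 1)) (Fin (n + 1)) F) *ᵥ b) 0 ≠ 0 ∧
    (γ ᵥ* ((g⁻¹ : GL (Fin (n + 1)) F) : Matrix (Fin (n + 1)) (Fin (n + 1)) F)) 0 ≠ 0 ∧
    P (A₁ - a⁻¹ • vecMulVec c r)

theorem row_ne {g : GL (Fin (n + 1)) F} {x γ : Fin (n + 1) → F}
    (hgx : (g : Matrix (Fin (n + 1)) (Fin (n + 1)) F) *ᵥ x = Pi.single 0 1) (h : γ ⬝ᵥ x ≠ 0) :
    (γ ᵥ* ((g⁻¹ : GL (Fin (n + 1)) F) : Matrix (Fin (n + 1)) (Fin (n + 1)) F)) 0 ≠ 0 := by
  have e : γ ᵥ* ((g⁻¹ : GL (Fin (n + 1)) F) : Matrix (Fin (n + 1)) (Fin (n + 1)) F) ⬝ᵥ Pi.single 0 1 =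
      γ ⬝ᵥ x := by rw [← dotProduct_mulVec, ← hgx, inv_mulVec_cancel]
  rw [dotProduct_single, mul_one] at e
  rwa [e]

theorem noneigen_facts {A : Matrix (Fin (n + 1)) (Fin (n + 1)) F} {a : F} {x : Fin (n + 1) → F}
    (hxe : ∀ μ : F, A *ᵥ x ≠ μ • x) : sh A a x ≠ 0 ∧ x ∉ F ∙ sh A a x := by
  refine ⟨fun h => hxe a (by rwa [sh_apply, sub_eq_zero] at h), fun hm => ?_⟩
  obtain ⟨t, ht⟩ := Submodule.mem_span_singleton.1 hm
  have ht0 : t ≠ 0 := fun h0 => hxe 0 (by
    have hx0 : x = 0 := by rw [← ht, h0, zero_smul]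
    rw [hx0, mulVec_zero, smul_zero])
  refine hxe (a + t⁻¹) ?_
  have e : sh A a x = t⁻¹ • x := by
    conv_rhs => arg 2; rw [← ht]
    rw [smul_smul, inv_mul_cancel₀ ht0, one_smul]
  rw [sh_apply, sub_eq_iff_eq_add] at e
  rw [e, add_smul]; abel

theorem det_sub_ne_zero_iff {A : Matrix (Fin n) (Fin n) F} {ν : F} :
    (A - ν • 1).det ≠ 0 ↔ LinearMap.ker (sh A ν) = ⊥ := by
  constructor
  · intro h
    rw [eq_bot_iff]
    intro v hv
    rw [Submodule.mem_bot]
    by_contra hv0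
    refine h (Matrix.exists_mulVec_eq_zero_iff.1 ⟨v, hv0, ?_⟩)
    rw [LinearMap.mem_ker, sh_apply] at hv
    rw [sub_mulVec, smul_mulVec, one_mulVec, hv]
  · intro h h0
    obtain ⟨v, hv0, hv⟩ := Matrix.exists_mulVec_eq_zero_iff.2 h0
    rw [sub_mulVec, smul_mulVec, one_mulVec, ← sh_apply, ← LinearMap.mem_ker, h, Submodule.mem_bot] at hv
    exact hv0 hv

/-- The step in dimension two. -/
theorem exists_pivot_two (h4 : 4 ≤ ENat.card F) (A : Matrix (Fin 2) (Fin 2) F) (hA : ¬ IsScal A)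
    {a : F} (hdet : (A - a • 1).det ≠ 0) {b γ : Fin 2 → F} (hb : b ≠ 0) (hγ : γ ≠ 0) :
    StepOut A a b γ (fun _ => True) := by
  have hinj := det_sub_ne_zero_iff.1 hdet
  have hsurj := LinearMap.range_eq_top.1 (range_eq_top_of_ker _ hinj)
  obtain ⟨w, hw⟩ := hsurj b
  obtain ⟨x, hcx, hxw, hxe⟩ := exists_noneigen h4 (Matrix.toLin' A) (fun ⟨s, hs⟩ =>
    hA ⟨s, Matrix.toLin'.injective (by rw [hs, map_smul, Matrix.toLin'_one]; rfl)⟩)
    (dual γ) (fun h => ker_dual_ne_top hγ (by rw [h, LinearMap.ker_zero])) w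
  obtain ⟨hy0, hxy⟩ := noneigen_facts (a := a) (fun μ hμ => hxe μ hμ)
  have hby : b ∉ F ∙ sh A a x := fun hm => by
    obtain ⟨t, ht⟩ := Submodule.mem_span_singleton.1 hm
    rw [← map_smul, ← hw] at ht
    have e := LinearMap.ker_eq_bot.1 hinj ht
    have ht0 : t ≠ 0 := fun h0 => hb (by rw [← hw, ← e, h0, zero_smul, map_zero])
    exact hxw (Submodule.mem_span_singleton.2 ⟨t⁻¹, by rw [← e, smul_smul, inv_mul_cancel₀ ht0, one_smul]⟩)
  obtain ⟨φ, e1, e2, e3, -, -⟩ := exists_phi h4 x (sh A a x) b b b hxy hby hby hby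
  obtain ⟨z, hz⟩ := hsurj x
  obtain ⟨g, r, c, A₁, hform, hc, hgx, hgφ, hr⟩ := exists_coord A x φ e1 e2 hy0
  exact ⟨g, r, c, A₁, hform, hc, hr ⟨z, by rw [hz, e1]; exact one_ne_zero⟩, by rwa [hgφ],
    row_ne hgx hcx, trivial⟩

/-- A quadratic relation in dimension three leaves a scalar at distance of rank one. -/
theorem quadratic_three {A : Matrix (Fin 3) (Fin 3) F} (hA : ¬ IsScal A) {s k : F} (hk : k ≠ 0)
    (h : ∀ v, A *ᵥ (A *ᵥ v) = s • (A *ᵥ v) - k • v) {μ : F} (hμ : A.det = k * μ) : rk A μ ≤ 1 := by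
  obtain ⟨v, hv0, hv⟩ := exists_noneig hA
  have hli2 : LinearIndependent F ![v, A *ᵥ v] := by
    rw [LinearIndependent.pair_iff' hv0]
    exact fun t ht => hv t ht.symm
  obtain ⟨w, hw⟩ : ∃ w, w ∉ Submodule.span F (Set.range ![v, A *ᵥ v]) := by
    by_contra h'
    push Not at h'
    have := finrank_range_le_card (R := F) ![v, A *ᵥ v]
    rw [Set.finrank, show Submodule.span F (Set.range ![v, A *ᵥ v]) = ⊤ from
      eq_top_iff.2 fun x _ => h' x, finrank_top] at this
    simp at this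
  have hli : LinearIndependent F ![v, A *ᵥ v, w] := by
    have : LinearIndependent F (Fin.snoc ![v, A *ᵥ v] w) := linearIndependent_finSnoc.2 ⟨hli2, hw⟩
    convert this using 1
    ext i
    fin_cases i <;> rfl
  let B := basisOfLinearIndependentOfCardEqFinrank hli (by simp)
  have hB : ⇑B = ![v, A *ᵥ v, w] := coe_basisOfLinearIndependentOfCardEqFinrank hli _
  obtain ⟨α, β, m, hAw⟩ : ∃ α β m : F, A *ᵥ w = α • v + β • (A *ᵥ v) + m • w :=
    ⟨B.repr (A *ᵥ w) 0, B.repr (A *ᵥ w) 1, B.repr (A *ᵥ w) 2, by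
      conv_lhs => rw [← B.sum_repr (A *ᵥ w), Fin.sum_univ_three]
      rw [hB]; simp⟩
  -- the quadratic relation at `w`
  have hww := h w
  rw [hAw, mulVec_add, mulVec_add, mulVec_smul, mulVec_smul, mulVec_smul, h v, hAw] at hww
  have hco : (m * α - β * k - s * α) • v + (α + β * s + m * β - s * β) • (A *ᵥ v) +
      (m * m - s * m + k) • w = 0 := by linear_combination (norm := module) hww
  have hz := Fintype.linearIndependent_iff.1 hli
    ![m * α - β * k - s * α, α + β * s + m * β - s * β, m * m - s * m + k] (by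
      simpa [Fin.sum_univ_three] using hco)
  have z0 := hz 0
  have z1 := hz 1
  have z2 := hz 2
  simp only [Matrix.cons_val_zero, Matrix.cons_val_one, Matrix.cons_val] at z0 z1 z2
  -- the determinant
  have hdm : A.det = k * m := by
    rw [← LinearMap.det_toLin' A, ← LinearMap.det_toMatrix B, Matrix.det_fin_three]
    have c0 : B.repr (A *ᵥ B 0) = Finsupp.single 1 1 := by
      rw [show A *ᵥ B 0 = B 1 by rw [hB]; rfl, B.repr_self]
    have c1 : ∀ i, B.repr (A *ᵥ B 1) i = ![-k, s, 0] i := fun i => by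
      rw [show A *ᵥ B 1 = s • B 1 - k • B 0 by rw [hB]; exact h v, map_sub, map_smul, map_smul,
        B.repr_self, B.repr_self]
      fin_cases i <;> simp
    have c2 : ∀ i, B.repr (A *ᵥ B 2) i = ![α, β, m] i := fun i => by
      rw [show A *ᵥ B 2 = α • B 0 + β • B 1 + m • B 2 by rw [hB]; exact hAw, map_add, map_add,
        map_smul, map_smul, map_smul, B.repr_self, B.repr_self, B.repr_self]
      fin_cases i <;> simp
    simp [LinearMap.toMatrix_apply, c0, c1, c2]
  have hmμ : m = μ := mul_left_cancel₀ hk (hdm.symm.trans hμ)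
  subst hmμ
  have hle : LinearMap.range (sh A m) ≤ F ∙ (sh A m v) := by
    rintro _ ⟨u, rfl⟩
    rw [← B.sum_repr u, Fin.sum_univ_three, hB, map_add, map_add, map_smul, map_smul, map_smul]
    simp only [Matrix.cons_val_zero, Matrix.cons_val_one, Matrix.cons_val]
    refine add_mem (add_mem (Submodule.smul_mem _ _ (Submodule.mem_span_singleton_self _))
      (Submodule.smul_mem _ _ ?_)) (Submodule.smul_mem _ _ ?_)
    · refine Submodule.mem_span_singleton.2 ⟨s - m, ?_⟩
      rw [sh_apply, sh_apply, h v]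
      linear_combination (norm := module) z2 • v
    · refine Submodule.mem_span_singleton.2 ⟨β, ?_⟩
      rw [sh_apply, sh_apply, hAw]
      have hα : α = -(m * β) := by linear_combination z1
      rw [hα]
      module
  rw [rk]
  exact (Submodule.finrank_mono hle).trans ((finrank_span_le_card _).trans (by simp))

set_option maxHeartbeats 1000000 in
theorem exists_lead (h4 : 4 ≤ ENat.card F) (A : Matrix (Fin 3) (Fin 3) F) (hA : ¬ IsScal A)
    {a a₂ a₃ : F} (ha : a ≠ 0) (ha₂ : a₂ ≠ 0) (ha₃ : a₃ ≠ 0) (hdet : A.det = a * (a₂ * a₃))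
    (hra : 2 ≤ rk A a) (hr₂ : 2 ≤ rk A a₂) (hr₃ : 2 ≤ rk A a₃)
    {b γ : Fin 3 → F} (hb : b ≠ 0) (hγ : γ ≠ 0) :
    ∃ x, γ ⬝ᵥ x ≠ 0 ∧ (∀ μ : F, A *ᵥ x ≠ μ • x) ∧ b ∉ F ∙ sh A a x ∧ ∃ p, p ∉ F ∙ sh A a x ∧
      (∀ v (t : F), sh A a₂ v = t • (A *ᵥ x) → ∃ s : F, v = s • p) ∧
      (LinearMap.ker (sh A a) = ⊥ ∨ x ∉ LinearMap.range (sh A a) ∨ (a ≠ a₂ ∧ sh A a₂ p = 0)) := by
  have hWtop := comap_line_ne_top A hra b
  have hbline : ∀ x, x ∉ (F ∙ b).comap (sh A a) → b ∉ F ∙ sh A a x := fun x hx hm => by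
    obtain ⟨t, ht⟩ := Submodule.mem_span_singleton.1 hm
    refine hx (Submodule.mem_comap.2 (Submodule.mem_span_singleton.2 ⟨t⁻¹, ?_⟩))
    rw [← ht, smul_smul, inv_mul_cancel₀ (fun h0 => hb (by rw [← ht, h0, zero_smul])), one_smul]
  have hsum : ∀ μ, rk A μ + finrank F (LinearMap.ker (sh A μ)) = 3 := fun μ => rk_add_ker A μ
  have hAd : A.det ≠ 0 := by rw [hdet]; exact mul_ne_zero ha (mul_ne_zero ha₂ ha₃)
  have hA0 : ∀ v, A *ᵥ v = 0 → v = 0 := fun v hv => by
    by_contra hv0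
    exact hAd (Matrix.exists_mulVec_eq_zero_iff.1 ⟨v, hv0, hv⟩)
  have hcomm : ∀ v, sh A a (sh A a₂ v) = sh A a₂ (sh A a v) := fun v => by
    simp only [sh_apply, mulVec_sub, mulVec_smul]
    module
  by_cases h2 : LinearMap.ker (sh A a₂) = ⊥
  · have hsurj := LinearMap.range_eq_top.1 (range_eq_top_of_ker _ h2)
    have hpre : ∀ x p, sh A a₂ p = A *ᵥ x → ∀ v t, sh A a₂ v = t • (A *ᵥ x) →
        ∃ s : F, v = s • p := fun x p hp v t hv =>
      ⟨t, LinearMap.ker_eq_bot.1 h2 (by rw [map_smul, hp, hv])⟩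
    by_cases h1 : LinearMap.ker (sh A a) = ⊥
    · have hsurj1 := LinearMap.range_eq_top.1 (range_eq_top_of_ker _ h1)
      let Q : Module.End F (Fin 3 → F) := Matrix.toLin' A⁻¹ ∘ₗ sh A a₂ ∘ₗ sh A a
      have hQ : ∀ v, A *ᵥ (Q v) = sh A a₂ (sh A a v) := fun v => by
        simp only [Q, LinearMap.comp_apply, Matrix.toLin'_apply]
        rw [mulVec_mulVec, Matrix.mul_nonsing_inv _ hAd.isUnit, one_mulVec]
      obtain ⟨w, hw⟩ := hsurj1 b
      obtain ⟨x, hcx, hxw, hxQ⟩ := exists_noneigen h4 Q (fun ⟨t, ht⟩ => by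
        refine absurd (quadratic_three hA (mul_ne_zero ha ha₂) (s := a + a₂ + t) (μ := a₃) (fun v => ?_)
          (by rw [hdet]; ring)) (by omega)
        have e := hQ v
        rw [ht, LinearMap.smul_apply, Module.End.one_apply, mulVec_smul, sh_apply, sh_apply,
          mulVec_sub, mulVec_smul] at e
        linear_combination (norm := module) -e)
        (dual γ) (fun h => ker_dual_ne_top hγ (by rw [h, LinearMap.ker_zero])) w
      have hxe : ∀ μ : F, A *ᵥ x ≠ μ • x := fun μ hμ => by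
        have hμ0 : μ ≠ 0 := fun h0 => hxw (by
          rw [hA0 x (by rw [hμ, h0, zero_smul])]; exact zero_mem _)
        refine hxQ ((μ - a₂) * (μ - a) / μ) ?_
        refine sub_eq_zero.1 (hA0 _ ?_)
        have e : ∀ ν, sh A ν x = (μ - ν) • x := fun ν => by rw [sh_apply, hμ, sub_smul]
        rw [mulVec_sub, hQ, mulVec_smul, hμ, e a, map_smul, e a₂, smul_smul, smul_smul,
          div_mul_cancel₀ _ hμ0, mul_comm, sub_self]
      obtain ⟨p, hp⟩ := hsurj (A *ᵥ x)
      refine ⟨x, hcx, hxe, hbline x fun hm => hxw ?_, p, fun hm => ?_, hpre x p hp, Or.inl h1⟩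
      · rw [Submodule.mem_comap] at hm
        obtain ⟨t, ht⟩ := Submodule.mem_span_singleton.1 hm
        exact Submodule.mem_span_singleton.2 ⟨t, LinearMap.ker_eq_bot.1 h1 (by rw [map_smul, hw, ht])⟩
      · obtain ⟨t, ht⟩ := Submodule.mem_span_singleton.1 hm
        rw [← ht, map_smul, ← hQ, ← mulVec_smul] at hp
        have e := sub_eq_zero.1 (hA0 _ (by rw [mulVec_sub, hp, sub_self]) : t • Q x - x = 0)
        have ht0 : t ≠ 0 := fun h0 => hxw (by rw [← e, h0, zero_smul]; exact zero_mem _)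
        exact hxQ t⁻¹ (by conv_rhs => rw [← e, smul_smul, inv_mul_cancel₀ ht0, one_smul])
    · have hr : rk A a ≤ 2 := by
        have := hsum a
        have : finrank F (LinearMap.ker (sh A a)) ≠ 0 := fun h => h1 (Submodule.finrank_eq_zero.1 h)
        omega
      obtain ⟨x, e1, e2, e3, e4⟩ := avoid_four h4 _ _ _ _ (ker_dual_ne_top hγ) hWtop
        (range_ne_top_of_rk A hr) (ker_ne_top_of_rk A (ν := a) (le_trans one_le_two hra))
      have hxe : ∀ μ : F, A *ᵥ x ≠ μ • x := fun μ hμ => by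
        have hk : x ∈ LinearMap.ker (sh A μ) := by rw [LinearMap.mem_ker, sh_apply, hμ, sub_self]
        by_cases e : μ = a
        · exact e4 (e ▸ hk)
        · exact e3 (ker_le_range A e hk)
      obtain ⟨p, hp⟩ := hsurj (A *ᵥ x)
      refine ⟨x, fun h => e1 h, hxe, hbline x e2, p, fun hm => ?_, hpre x p hp, Or.inr (Or.inl e3)⟩
      obtain ⟨t, ht⟩ := Submodule.mem_span_singleton.1 hm
      rw [← ht, map_smul, ← hcomm, ← map_smul] at hp
      have hAx : A *ᵥ x = sh A a x + a • x := by rw [sh_apply]; abel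
      have hin : A *ᵥ x ∈ LinearMap.range (sh A a) := ⟨_, hp⟩
      rw [hAx] at hin
      have h := sub_mem hin (LinearMap.mem_range_self (sh A a) x)
      rw [add_sub_cancel_left, Submodule.smul_mem_iff _ ha] at h
      exact e3 h
  · have hk1 : finrank F (LinearMap.ker (sh A a₂)) = 1 := by
      have := hsum a₂
      have : finrank F (LinearMap.ker (sh A a₂)) ≠ 0 := fun h => h2 (Submodule.finrank_eq_zero.1 h)
      omega
    have hKtop : LinearMap.ker (sh A a₂ ∘ₗ sh A a) ≠ ⊤ := by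
      intro htop
      have hle : LinearMap.range (sh A a) ≤ LinearMap.ker (sh A a₂) := by
        rintro _ ⟨v, rfl⟩
        exact (htop.symm ▸ Submodule.mem_top : v ∈ LinearMap.ker (sh A a₂ ∘ₗ sh A a))
      have := Submodule.finrank_mono hle
      simp only [rk] at hra
      omega
    obtain ⟨x, e1, e2, e3, e4⟩ := avoid_four h4 _ _ _ _ (ker_dual_ne_top hγ) hWtop
      (range_ne_top_of_rk A (ν := a₂) (by have := hsum a₂; omega)) hKtop
    have hxe : ∀ μ : F, A *ᵥ x ≠ μ • x := fun μ hμ => by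
      have hk : x ∈ LinearMap.ker (sh A μ) := by rw [LinearMap.mem_ker, sh_apply, hμ, sub_self]
      by_cases e : μ = a₂
      · subst e
        refine e4 ?_
        rw [LinearMap.mem_ker, LinearMap.comp_apply, ← hcomm, LinearMap.mem_ker.1 hk, map_zero]
      · exact e3 (ker_le_range A e hk)
    obtain ⟨k, hk, hk0⟩ := Submodule.exists_mem_ne_zero_of_ne_bot h2
    have hline : LinearMap.ker (sh A a₂) = F ∙ k :=
      (Submodule.eq_of_le_of_finrank_le ((Submodule.span_singleton_le_iff_mem _ _).2 hk)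
        (by rw [hk1, finrank_span_singleton hk0])).symm
    refine ⟨x, fun h => e1 h, hxe, hbline x e2, k, fun hm => ?_, fun v t hv => ?_, ?_⟩
    · obtain ⟨t, ht⟩ := Submodule.mem_span_singleton.1 hm
      have ht0 : t ≠ 0 := fun h0 => hk0 (by rw [← ht, h0, zero_smul])
      rw [← ht] at hk
      have hy := LinearMap.mem_ker.1 ((Submodule.smul_mem_iff _ ht0).1 hk)
      exact e4 (LinearMap.mem_ker.2 (by rw [LinearMap.comp_apply]; exact hy))
    · have ht : t = 0 := by
        by_contra ht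
        have hin : A *ᵥ x ∈ LinearMap.range (sh A a₂) :=
          (Submodule.smul_mem_iff _ ht).1 ⟨v, hv⟩
        rw [show A *ᵥ x = sh A a₂ x + a₂ • x by rw [sh_apply]; abel] at hin
        have h := sub_mem hin (LinearMap.mem_range_self (sh A a₂) x)
        rw [add_sub_cancel_left, Submodule.smul_mem_iff _ ha₂] at h
        exact e3 h
      rw [ht, zero_smul, ← LinearMap.mem_ker, hline] at hv
      obtain ⟨s, hs⟩ := Submodule.mem_span_singleton.1 hv
      exact ⟨s, hs.symm⟩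
    · by_cases e : a = a₂
      · exact Or.inr (Or.inl (e ▸ e3))
      · exact Or.inr (Or.inr ⟨e, LinearMap.mem_ker.1 hk⟩)

theorem schur_facts (A : Matrix (Fin 3) (Fin 3) F) {a a₂ a₃ : F} (ha : a ≠ 0) (ha₂ : a₂ ≠ 0)
    (ha₃ : a₃ ≠ 0) (hdet : A.det = a * (a₂ * a₃)) {x p : Fin 3 → F}
    (hp : ∀ v (t : F), sh A a₂ v = t • (A *ᵥ x) → ∃ s : F, v = s • p)
    (φ : Dual F (Fin 3 → F)) (g : GL (Fin 3) F) (r c : Fin 2 → F) (A₁ : Matrix (Fin 2) (Fin 2) F)
    (hform : cj g A = hd a r c A₁) (hc : c ≠ 0)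
    (hgx : (g : Matrix (Fin 3) (Fin 3) F) *ᵥ x = Pi.single 0 1)
    (hgφ : ∀ v, ((g : Matrix (Fin 3) (Fin 3) F) *ᵥ v) 0 = φ v) :
    (A₁ - a⁻¹ • vecMulVec c r).det = a₂ * a₃ ∧
    (φ p ≠ 0 → ((A₁ - a⁻¹ • vecMulVec c r) - a₂ • 1).det ≠ 0) ∧
    (∀ l, sh A l (sh A a x) = 0 →
      ((A₁ - a⁻¹ • vecMulVec c r) - l • 1).det = 0) ∧
    ∀ l, A₁ - a⁻¹ • vecMulVec c r = l • 1 →
      l ^ 2 = a₂ * a₃ ∧ (∀ v, φ v = 0 → sh A l v ∈ F ∙ (A *ᵥ x)) ∧
      LinearMap.range (sh A l) ≤ Submodule.span F {x, sh A a x} ∧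
      (∀ u, sh A l u = 0 → φ u = 0) := by
  set B := A₁ - a⁻¹ • vecMulVec c r with hB
  have hdB : B.det = a₂ * a₃ := by
    refine mul_left_cancel₀ ha ?_
    rw [← det_hd a ha, ← hform, cj_det, hdet]
  have hgi : ∀ v, ∃ w, v = (g : Matrix (Fin 3) (Fin 3) F) *ᵥ w ∧
      φ w = v 0 := fun v => ⟨((g⁻¹ : GL (Fin 3) F) : Matrix (Fin 3) (Fin 3) F) *ᵥ v,
    (mulVec_inv_cancel g v).symm, by rw [← hgφ, mulVec_inv_cancel]⟩
  have hgA : (g : Matrix (Fin 3) (Fin 3) F) *ᵥ (A *ᵥ x) = Fin.cons a c := by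
    rw [mulVec_mulVec, (cj_eq_iff g A (cj g A)).1 rfl, ← mulVec_mulVec, hgx, hform, ← cons_single,
      hd_mulVec]
    funext i
    induction i using Fin.cases <;> simp
  have hginj : Function.Injective ((g : Matrix (Fin 3) (Fin 3) F) *ᵥ ·) := fun u v h => by
    rw [← inv_mulVec_cancel g u, ← inv_mulVec_cancel g v]
    exact congrArg _ h
  refine ⟨hdB, fun hφp => ?_, fun l hl => ?_, fun l hl => ?_⟩
  · intro h0
    obtain ⟨v, hv0, hv⟩ := Matrix.exists_mulVec_eq_zero_iff.2 h0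
    rw [sub_mulVec, smul_mulVec, one_mulVec, sub_eq_zero] at hv
    obtain ⟨w, hw, hφw⟩ := hgi (Fin.cons 0 v)
    have e := eigen_lift (r := r) (c := c) (A₁ := A₁) ha rfl hv
    rw [← hform, hw, sh_cj, ← hgA, ← mulVec_smul] at e
    obtain ⟨s, rfl⟩ := hp w _ (hginj e)
    rw [map_smul, Fin.cons_zero, smul_eq_mul, mul_eq_zero, or_iff_left hφp] at hφw
    rw [hφw, zero_smul, mulVec_zero] at hw
    exact hv0 (funext fun i => by simpa using congrFun hw i.succ)
  · have hgy : (g : Matrix (Fin 3) (Fin 3) F) *ᵥ sh A a x = Fin.cons 0 c := by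
      rw [sh_apply, mulVec_sub, hgA, mulVec_smul, hgx]
      funext i
      induction i using Fin.cases <;> simp
    have e : sh (hd a r c A₁) l (Fin.cons 0 c) = 0 := by
      rw [← hgy, ← hform, sh_cj, hl, mulVec_zero]
    rw [sh_apply, hd_mulVec] at e
    refine Matrix.exists_mulVec_eq_zero_iff.1 ⟨c, hc, funext fun i => ?_⟩
    have e0 := congrFun e 0
    have e1 := congrFun e i.succ
    simp at e0 e1
    fin_cases i <;>
      simp [hB, sub_mulVec, smul_mulVec, vecMulVec_mulVec, op_smul_eq_smul, dotProduct, mulVec,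
        vecMulVec_apply, Fin.sum_univ_two] at e0 e1 ⊢
    · linear_combination e1 - (a⁻¹ * c 0) * e0
    · linear_combination e1 - (a⁻¹ * c 1) * e0
  · refine ⟨?_, fun v hv => ?_, ?_, fun u hu => ?_⟩
    · rw [← hdB, hl]; simp [sq]
    · obtain ⟨w, hw⟩ : ∃ w, (g : Matrix (Fin 3) (Fin 3) F) *ᵥ v = Fin.cons 0 w :=
        ⟨Fin.tail ((g : Matrix (Fin 3) (Fin 3) F) *ᵥ v), by
          rw [← hv, ← hgφ, Fin.cons_self_tail]⟩
      have e := eigen_lift (r := r) (c := c) (A₁ := A₁) ha rfl (ν := l) (v := w)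
        (by rw [show A₁ - a⁻¹ • vecMulVec c r = l • 1 from hl, smul_mulVec, one_mulVec])
      rw [← hform, ← hw, sh_cj, ← hgA, ← mulVec_smul] at e
      exact Submodule.mem_span_singleton.2 ⟨_, (hginj e).symm⟩
    · rintro _ ⟨v, rfl⟩
      have hz : sh B l = 0 := by
        rw [sh, hl, map_smul, Matrix.toLin'_one]
        exact sub_self _
      have hin := range_le (c := c) ha rfl l (LinearMap.mem_range_self (sh (hd a r c A₁) l)
        ((g : Matrix (Fin 3) (Fin 3) F) *ᵥ v))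
      rw [hz, LinearMap.range_zero, Submodule.map_bot, sup_bot_eq, ← hform, sh_cj,
        Submodule.mem_span_pair] at hin
      obtain ⟨s, t, hst⟩ := hin
      have e0 : (Fin.cons (a - l) c : Fin 3 → F) =
          (g : Matrix (Fin 3) (Fin 3) F) *ᵥ (A *ᵥ x - l • x) := by
        rw [mulVec_sub, hgA, mulVec_smul, hgx]
        funext i
        induction i using Fin.cases <;> simp
      rw [e0, ← hgA, ← mulVec_smul, ← mulVec_smul, ← mulVec_add] at hst
      rw [← hginj hst]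
      have hAx : A *ᵥ x = sh A a x + a • x := by rw [sh_apply]; abel
      rw [hAx]
      refine add_mem (Submodule.smul_mem _ _ (sub_mem ?_ (Submodule.smul_mem _ _
        (Submodule.subset_span (Set.mem_insert _ _))))) (Submodule.smul_mem _ _ ?_) <;>
        exact add_mem (Submodule.subset_span (Set.mem_insert_of_mem _ rfl))
          (Submodule.smul_mem _ _ (Submodule.subset_span (Set.mem_insert _ _)))
    · by_contra hφu
      have hk : sh (hd a r c A₁) l ((g : Matrix (Fin 3) (Fin 3) F) *ᵥ u) = 0 := by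
        rw [← hform, sh_cj, hu, mulVec_zero]
      have hl0 : l ≠ 0 := fun h0 => by
        rw [hl, h0, zero_smul, Matrix.det_zero] at hdB
        exact mul_ne_zero ha₂ ha₃ hdB.symm
      have hz : rk B l = 0 := by
        have : sh B l = 0 := by
          rw [sh, hl, map_smul, Matrix.toLin'_one]
          exact sub_self _
        simp [rk, this]
      obtain ⟨t, w, hw⟩ : ∃ t w, (g : Matrix (Fin 3) (Fin 3) F) *ᵥ u = Fin.cons t w :=
        ⟨_, _, (Fin.cons_self_tail _).symm⟩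
      have ht : t ≠ 0 := by rwa [← hgφ, hw, Fin.cons_zero] at hφu
      rw [hw, sh_apply, hd_mulVec] at hk
      have hA₁ : A₁ = l • 1 + a⁻¹ • vecMulVec c r := by rw [← hl, hB]; abel
      have e0 := congrFun hk 0
      simp only [Pi.sub_apply, Pi.smul_apply, Fin.cons_zero, smul_eq_mul, Pi.zero_apply] at e0
      refine hc (funext fun i => ?_)
      have e := congrFun hk i.succ
      simp [hA₁, add_mulVec, smul_mulVec, vecMulVec_mulVec, dotProduct, Fin.sum_univ_two] at e
      simp [dotProduct, Fin.sum_univ_two] at e0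
      have : c i * (l * t) = 0 := by
        field_simp at e
        linear_combination e - (c i) * e0
      simpa [hl0, ht] using this
/-- The step in dimension three. -/
theorem exists_pivot_three (h4 : 4 ≤ ENat.card F) (A : Matrix (Fin 3) (Fin 3) F) (hA : ¬ IsScal A)
    {a a₂ a₃ : F} (ha : a ≠ 0) (ha₂ : a₂ ≠ 0) (ha₃ : a₃ ≠ 0) (hdet : A.det = a * (a₂ * a₃))
    (hra : 2 ≤ rk A a) (hr₂ : 2 ≤ rk A a₂) (hr₃ : 2 ≤ rk A a₃)
    {b γ : Fin 3 → F} (hb : b ≠ 0) (hγ : γ ≠ 0) :
    StepOut A a b γ (fun B => ¬ IsScal B ∧ (B - a₂ • 1).det ≠ 0) := by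
  obtain ⟨x, hcx, hxe, hbl, p, hpy, hp, hxa⟩ :=
    exists_lead h4 A hA ha ha₂ ha₃ hdet hra hr₂ hr₃ hb hγ
  obtain ⟨hy0, hxy⟩ := noneigen_facts (a := a) hxe
  obtain ⟨z', ⟨z, rfl⟩, hzy⟩ := exists_notMem_line (p := LinearMap.range (sh A a)) hra (sh A a x)
  have hsum : ∀ μ, rk A μ + finrank F (LinearMap.ker (sh A μ)) = 3 := fun μ => rk_add_ker A μ
  have samel : ∀ l l' : F, LinearMap.range (sh A l) ≤ Submodule.span F {x, sh A a x} →
      LinearMap.range (sh A l') ≤ Submodule.span F {x, sh A a x} → l = l' := by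
    intro l l' h h'
    by_contra hne
    have htop : (⊤ : Submodule F (Fin 3 → F)) ≤ Submodule.span F {x, sh A a x} := fun v _ => by
      have e : v = (l' - l)⁻¹ • (sh A l v - sh A l' v) := by
        rw [sh_sub A l' l v, add_sub_cancel_left, smul_smul, inv_mul_cancel₀ (sub_ne_zero.2 (Ne.symm hne)),
          one_smul]
      rw [e]
      exact Submodule.smul_mem _ _ (sub_mem (h ⟨v, rfl⟩) (h' ⟨v, rfl⟩))
    have h1 := Submodule.finrank_mono htop
    have h2 := span_pair_finrank (F := F) (n := 2) x (sh A a x)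
    have h3 : finrank F (⊤ : Submodule F (Fin 3 → F)) = 3 := by simp
    rw [h3] at h1
    exact absurd (h1.trans h2) (by omega)
  obtain ⟨φ, f1, f2, f3, f4, f5⟩ := exists_phi h4 x (sh A a x) b p _ hxy hbl hpy hzy
  obtain ⟨g, r, c, A₁, hform, hc, hgx, hgφ, hr⟩ := exists_coord A x φ f1 f2 hy0
  obtain ⟨hdB, hdet₂, -, hscal⟩ := schur_facts A ha ha₂ ha₃ hdet hp φ g r c A₁ hform hc hgx hgφ
  by_cases hB : IsScal (A₁ - a⁻¹ • vecMulVec c r)
  swap
  · exact ⟨g, r, c, A₁, hform, hc, hr ⟨z, f5⟩, by rwa [hgφ], row_ne hgx hcx, hB, hdet₂ f4⟩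
  -- a scalar complement: change the form
  obtain ⟨l, hl⟩ := hB
  obtain ⟨hl2, hline, hrange, hkerl⟩ := hscal l hl
  have hla₂ : l ≠ a₂ := fun e => hdet₂ f4 (by
    rw [hl, e, sub_self, Matrix.det_zero])
  have hrl : rk A l ≤ 2 := (Submodule.finrank_mono hrange).trans (span_pair_finrank _ _)
  by_cases hu : ∃ u, sh A l u = 0 ∧ u ∉ F ∙ sh A a x
  · obtain ⟨u, hu, huy⟩ := hu
    obtain ⟨φ', g1, g2, g3, g4, g5⟩ := exists_phi h4 x (sh A a x) b p u hxy hbl hpy huy
    obtain ⟨g', r', c', A₁', hform', hc', hgx', hgφ', hr'⟩ := exists_coord A x φ' g1 g2 hy0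
    obtain ⟨-, hdet', -, hscal'⟩ := schur_facts A ha ha₂ ha₃ hdet hp φ' g' r' c' A₁' hform' hc' hgx' hgφ'
    refine ⟨g', r', c', A₁', hform', hc', hr' ?_, by rwa [hgφ'], row_ne hgx' hcx, ?_, hdet' g4⟩
    · by_cases e : l = a
      · subst e
        rcases hxa with h | h | ⟨h, hk⟩
        · exfalso
          have := hsum l
          rw [h, finrank_bot] at this
          omega
        · exfalso
          refine h ?_
          have heq : LinearMap.range (sh A l) = Submodule.span F {x, sh A l x} :=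
            Submodule.eq_of_le_of_finrank_le hrange ((span_pair_finrank _ _).trans hra)
          rw [heq]
          exact Submodule.subset_span (Set.mem_insert _ _)
        · obtain ⟨z', hz'⟩ := ker_le_range A h.symm (LinearMap.mem_ker.2 hk)
          exact ⟨z', by rw [hz']; exact g4⟩
      · obtain ⟨z', hz'⟩ := ker_le_range A e (LinearMap.mem_ker.2 hu)
        exact ⟨z', by rw [hz']; exact g5⟩
    · rintro ⟨l', hl'⟩
      obtain ⟨-, -, hrange', hk'⟩ := hscal' l' hl'
      have e := samel l l' hrange hrange'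
      subst e
      exact g5 (hk' u hu)
  · push Not at hu
    have hk0 : LinearMap.ker (sh A l) ≠ ⊥ := fun h => by
      have := hsum l
      rw [h, finrank_bot] at this
      omega
    obtain ⟨u, hu1, hu0⟩ := Submodule.exists_mem_ne_zero_of_ne_bot hk0
    have hyl : sh A l (sh A a x) = 0 := by
      obtain ⟨t, ht⟩ := Submodule.mem_span_singleton.1 (hu u (LinearMap.mem_ker.1 hu1))
      have ht0 : t ≠ 0 := fun h0 => hu0 (by rw [← ht, h0, zero_smul])
      rw [← ht] at hu1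
      exact LinearMap.mem_ker.1 ((Submodule.smul_mem_iff _ ht0).1 hu1)
    have hrk2 : rk A l = 2 := by
      have h1 := Submodule.finrank_mono (show LinearMap.ker (sh A l) ≤ F ∙ sh A a x from
        fun v hv => hu v (LinearMap.mem_ker.1 hv))
      rw [finrank_span_singleton hy0] at h1
      have := hsum l
      omega
    obtain ⟨w, hw, hwy⟩ := exists_notMem_line (p := LinearMap.ker φ)
      (by have := finrank_ker_form f1; simp at this; omega) (sh A a x)
    obtain ⟨φ', g1, g2, g3, g4, g5⟩ := exists_phi h4 x (sh A a x) b _ w hxy hbl hzy hwy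
    obtain ⟨g', r', c', A₁', hform', hc', hgx', hgφ', hr'⟩ := exists_coord A x φ' g1 g2 hy0
    obtain ⟨hdB', -, heig', hscal'⟩ := schur_facts A ha ha₂ ha₃ hdet hp φ' g' r' c' A₁' hform' hc' hgx' hgφ'
    refine ⟨g', r', c', A₁', hform', hc', hr' ⟨z, g4⟩, by rwa [hgφ'], row_ne hgx' hcx, ?_, ?_⟩
    · rintro ⟨l', hl'⟩
      obtain ⟨-, hline', hrange', -⟩ := hscal' l' hl'
      have e := samel l l' hrange hrange'
      subst e
      -- two forms with scalar complement: rank one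
      have hle : LinearMap.range (sh A l) ≤ F ∙ (A *ᵥ x) := by
        rintro _ ⟨v, rfl⟩
        have e : v = (φ' v / φ' w) • w + (v - (φ' v / φ' w) • w) := by abel
        rw [e, map_add, map_smul]
        refine add_mem (Submodule.smul_mem _ _ (hline w (LinearMap.mem_ker.1 hw))) (hline' _ ?_)
        rw [map_sub, map_smul, smul_eq_mul, div_mul_cancel₀ _ g5, sub_self]
      have h1 := Submodule.finrank_mono hle
      have h2 : finrank F (F ∙ (A *ᵥ x)) ≤ 1 :=
        (finrank_span_le_card ({A *ᵥ x} : Set (Fin 3 → F))).trans (by simp)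
      simp only [rk] at hrk2
      omega
    · intro h0
      have h1 := heig' l hyl
      simp only [Matrix.det_fin_two, Matrix.sub_apply, Matrix.smul_apply, Matrix.one_apply_eq,
        smul_eq_mul, mul_one, Matrix.one_apply_ne, mul_zero, sub_zero, ne_eq, Fin.reduceEq,
        not_false_eq_true] at h0 h1 hdB'
      have e : (l - a₂) * (l * a₂ - a₂ * a₃) = 0 := by
        linear_combination a₂ * h1 - l * h0 + (l - a₂) * hdB'
      rcases mul_eq_zero.1 e with e | e
      · exact hla₂ (sub_eq_zero.1 e)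
      · have e3 : l = a₃ := mul_right_cancel₀ ha₂ (by linear_combination e)
        exact hla₂ (mul_left_cancel₀ ha₃ (by subst e3; linear_combination hl2))

end CfsgLib.LevCover
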