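import Cfsg.Agent.Lib.LevCover.Three
import Cfsg.Agent.Lib.LevCover.Lower

/-!
# The covering number of the projective special linear group
-/

set_option autoImplicit false

namespace CfsgLib.LevCover

open Matrix

variable {F : Type*} [Field F] {n : ℕ}

/-- Every element, up to a scalar. -/
theorem sl_cover [Fintype F] (h4 : 4 ≤ Fintype.card F) (hn : 3 ≤ n) {Y A : Matrix (Fin n) (Fin n) F}
    (hY : ¬ IsScal Y) (hYd : Y.det = 1) (hAd : A.det = 1) :
    ∃ c : F, SProd Y n (c • A) := by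
  classical
  by_cases hA : IsScal A
  · obtain ⟨a, rfl⟩ := hA
    have ha : a ≠ 0 := fun h => by
      haveI : Nonempty (Fin n) := ⟨⟨0, by omega⟩⟩
      rw [h, zero_smul, Matrix.det_zero] at hAd
      exact zero_ne_one hAd
    suffices h : ∃ c : F, SProd Y n (c • (1 : Matrix (Fin n) (Fin n) F)) by
      obtain ⟨c, hc⟩ := h
      exact ⟨c * a⁻¹, by rwa [smul_smul, inv_mul_cancel_right₀ ha]⟩
    rcases Nat.lt_or_ge n 5 with h5 | h5
    · rcases (show n = 3 ∨ n = 4 by omega) with rfl | rfl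
      · exact ⟨1, by rw [one_smul]; exact cover_one_three h4 hY hYd⟩
      · obtain ⟨c, -, hc⟩ := cover_one_four h4 hY hYd
        exact ⟨c, hc⟩
    · exact ⟨1, by rw [one_smul]; exact cover_one h4 h5 hY hYd⟩
  · refine ⟨1, ?_⟩
    rw [one_smul]
    rcases Nat.lt_or_ge n 4 with h | h
    · obtain rfl : n = 3 := by omega
      exact cover_three h4 hY hYd hA hAd
    · exact cover_nonscalar h4 h hY hYd hA hAd

theorem coe_sl_list_prod {k : ℕ} (h : Fin k → Matrix.SpecialLinearGroup (Fin n) F) :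
    (((List.ofFn h).prod : Matrix.SpecialLinearGroup (Fin n) F) : Matrix (Fin n) (Fin n) F) =
      (List.ofFn fun i => (h i : Matrix (Fin n) (Fin n) F)).prod := by
  induction k with
  | zero => simp
  | succ k ih => simp [List.ofFn_succ, ih]

theorem coe_sl_conj (h X : Matrix.SpecialLinearGroup (Fin n) F) :
    ((h * X * h⁻¹ : Matrix.SpecialLinearGroup (Fin n) F) : Matrix (Fin n) (Fin n) F) =
      cj (Matrix.SpecialLinearGroup.toGL h) (X : Matrix (Fin n) (Fin n) F) := by
  simp only [cj, Matrix.SpecialLinearGroup.coe_mul]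
  rw [← map_inv]
  rfl

theorem psl_mk_eq {a b : Matrix.SpecialLinearGroup (Fin n) F} :
    (QuotientGroup.mk a : ProjectiveSpecialLinearGroup (Fin n) F) = QuotientGroup.mk b ↔
      ∃ r : F, r ≠ 0 ∧ (b : Matrix (Fin n) (Fin n) F) = r • (a : Matrix (Fin n) (Fin n) F) := by
  rw [QuotientGroup.eq, Matrix.SpecialLinearGroup.mem_center_iff]
  constructor
  · rintro ⟨r, hr, he⟩
    have hr0 : r ≠ 0 ∨ n = 0 := by
      by_cases h0 : n = 0
      · exact Or.inr h0
      · refine Or.inl fun e => ?_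
        rw [e, zero_pow (by simpa using h0)] at hr
        exact zero_ne_one hr
    have hb : b = a * (a⁻¹ * b) := (mul_inv_cancel_left a b).symm
    rcases hr0 with hr0 | h0
    · refine ⟨r, hr0, ?_⟩
      rw [hb, Matrix.SpecialLinearGroup.coe_mul, ← he, Matrix.scalar_apply, ← Matrix.smul_one_eq_diagonal,
        Matrix.mul_smul, mul_one]
    · subst h0
      exact ⟨1, one_ne_zero, Subsingleton.elim _ _⟩
  · rintro ⟨r, hr0, he⟩
    have h1 : r ^ Fintype.card (Fin n) = 1 := by
      have := congrArg Matrix.det he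
      rw [det_smul, Matrix.SpecialLinearGroup.det_coe, Matrix.SpecialLinearGroup.det_coe, mul_one] at this
      exact this.symm
    refine ⟨r, h1, ?_⟩
    rw [Matrix.SpecialLinearGroup.coe_mul, he, Matrix.mul_smul, ← Matrix.SpecialLinearGroup.coe_mul, inv_mul_cancel,
      Matrix.SpecialLinearGroup.coe_one, Matrix.scalar_apply, Matrix.smul_one_eq_diagonal]

theorem psl_cover [Fintype F] (h4 : 4 ≤ Fintype.card F) (hn : 3 ≤ n)
    (x : ProjectiveSpecialLinearGroup (Fin n) F) (hx : x ≠ 1)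
    (g : ProjectiveSpecialLinearGroup (Fin n) F) :
    ∃ f : Fin n → ProjectiveSpecialLinearGroup (Fin n) F,
      g = (List.ofFn fun i => f i * x * (f i)⁻¹).prod := by
  obtain ⟨Y, rfl⟩ := QuotientGroup.mk_surjective x
  obtain ⟨A, rfl⟩ := QuotientGroup.mk_surjective g
  have hY : ¬ IsScal (Y : Matrix (Fin n) (Fin n) F) := by
    rintro ⟨r, hr⟩
    refine hx ((psl_mk_eq (a := (1 : Matrix.SpecialLinearGroup (Fin n) F))).2 ⟨r, fun h0 => ?_, ?_⟩).symm
    · haveI : Nonempty (Fin n) := ⟨⟨0, by omega⟩⟩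
      have := Y.det_coe
      rw [hr, h0, zero_smul, Matrix.det_zero] at this
      exact zero_ne_one this
    · rw [hr, Matrix.SpecialLinearGroup.coe_one]
  obtain ⟨c, γ, hγ, hprod⟩ := sl_cover h4 hn hY Y.det_coe (A := (A : Matrix (Fin n) (Fin n) F)) A.det_coe
  let h : Fin n → Matrix.SpecialLinearGroup (Fin n) F := fun i => ⟨(γ i : Matrix (Fin n) (Fin n) F), hγ i⟩
  refine ⟨fun i => QuotientGroup.mk (h i), ?_⟩
  have hq : (List.ofFn fun i => (QuotientGroup.mk (h i) : ProjectiveSpecialLinearGroup (Fin n) F) *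
      QuotientGroup.mk Y * (QuotientGroup.mk (h i))⁻¹).prod =
      QuotientGroup.mk' _ (List.ofFn fun i => h i * Y * (h i)⁻¹).prod := by
    rw [map_list_prod, List.map_ofFn]
    rfl
  rw [hq]
  refine psl_mk_eq.2 ⟨c, fun h0 => ?_, ?_⟩
  · haveI : Nonempty (Fin n) := ⟨⟨0, by omega⟩⟩
    have e := congrArg Matrix.det hprod
    rw [h0, zero_smul, Matrix.det_zero, GProd.det (k := n) ⟨γ, rfl⟩, Y.det_coe, one_pow] at e
    exact zero_ne_one e
  · rw [coe_sl_list_prod, hprod]
    congr 1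
    congr 1
    funext i
    rw [coe_sl_conj]
    congr 1
    exact Units.ext rfl

theorem psl_lower [Fintype F] (hn : 3 ≤ n) :
    ∃ x : ProjectiveSpecialLinearGroup (Fin n) F, x ≠ 1 ∧ ∃ g : ProjectiveSpecialLinearGroup (Fin n) F,
      ∀ f : Fin (n - 1) → ProjectiveSpecialLinearGroup (Fin n) F,
        g ≠ (List.ofFn fun i => f i * x * (f i)⁻¹).prod := by
  classical
  let i0 : Fin n := ⟨0, by omega⟩
  let i1 : Fin n := ⟨1, by omega⟩
  let u : Fin n → F := Pi.single i0 1
  let w : Fin n → F := Pi.single i1 1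
  have hne : i1 ≠ i0 := by simp [i0, i1, Fin.ext_iff]
  have hT : ((1 : Matrix (Fin n) (Fin n) F) + vecMulVec u w).det = 1 := by
    rw [det_one_add_vvec]; simp [u, w, hne.symm]
  obtain ⟨G, hG, hGe⟩ := exists_no_eigen (F := F) (show 2 ≤ n by omega)
  refine ⟨QuotientGroup.mk ⟨_, hT⟩, fun h => ?_, QuotientGroup.mk ⟨G, hG⟩, fun f hf => ?_⟩
  · obtain ⟨r, -, hr⟩ := (psl_mk_eq (b := (1 : Matrix.SpecialLinearGroup (Fin n) F))).1 h
    have h01 := congrFun (congrFun hr i0) i1
    have h00 := congrFun (congrFun hr i0) i0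
    simp [u, w, vecMulVec_apply, hne, hne.symm] at h01 h00
    rw [← h00] at h01
    simp at h01
  choose h hh using fun i => QuotientGroup.mk_surjective (f i)
  have hq : (List.ofFn fun i => f i * QuotientGroup.mk ⟨_, hT⟩ * (f i)⁻¹).prod =
      QuotientGroup.mk' _ (List.ofFn fun i => h i * ⟨_, hT⟩ * (h i)⁻¹).prod := by
    rw [map_list_prod, List.map_ofFn]
    simp only [← hh]
    rfl
  rw [hq] at hf
  obtain ⟨r, hr0, hr⟩ := psl_mk_eq.1 hf
  rw [coe_sl_list_prod] at hr
  have hl : (fun i => ((h i * ⟨_, hT⟩ * (h i)⁻¹ : Matrix.SpecialLinearGroup (Fin n) F) :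
      Matrix (Fin n) (Fin n) F)) =
      fun i => cj (Matrix.SpecialLinearGroup.toGL (h i)) (1 + vecMulVec u w) :=
    funext fun i => coe_sl_conj _ _
  rw [hl] at hr
  obtain ⟨v, hv0, hv⟩ := fix_of_short (show n - 1 < n by omega) u w
    fun i => Matrix.SpecialLinearGroup.toGL (h i)
  rw [hr, smul_mulVec] at hv
  refine hv0 (hGe r⁻¹ v ?_)
  conv_rhs => rw [← hv]
  rw [smul_smul, inv_mul_cancel₀ hr0, one_smul]

end CfsgLib.LevCover
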