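import Cfsg.Agent.Lib.LevCover.Triangle

/-!
# Products of `n` reflections

A reflection differs from the identity by a matrix of rank one. Every non-scalar matrix of
determinant `δ ^ n` is a product of `n` reflections of determinant `δ`.
-/

set_option autoImplicit false

namespace CfsgLib.LevCover

open Matrix

variable {F : Type*} [Field F]

/-- A non-identity matrix fixing a hyperplane. -/
def IsRefl {n : ℕ} (δ : F) (R : Matrix (Fin n) (Fin n) F) : Prop :=
  R.det = δ ∧ R ≠ 1 ∧ ∃ u w : Fin n → F, R = 1 + vecMulVec u w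

theorem refl_normal {n : ℕ} {δ : F} {R : Matrix (Fin (n + 1)) (Fin (n + 1)) F}
    (h : IsRefl δ R) :
    (δ ≠ 1 ∧ Sim R (hd δ 0 0 1)) ∨
      (δ = 1 ∧ ∃ h0 : 0 < n, Sim R (hd 1 (Pi.single ⟨0, h0⟩ 1) 0 1)) := by
  obtain ⟨hdet, hne, u, w, rfl⟩ := h
  have hu : u ≠ 0 := fun h => hne (by simp [h])
  obtain ⟨P, hP⟩ := exists_gl_col (0 : Fin (n + 1)) hu
  set v : Fin (n + 1) → F := w ᵥ* (P : Matrix (Fin (n + 1)) (Fin (n + 1)) F) with hv
  set R' := cj P⁻¹ (1 + vecMulVec u w) with hR'
  have hPu : ((P⁻¹ : GL (Fin (n + 1)) F) : Matrix (Fin (n + 1)) (Fin (n + 1)) F) *ᵥ u =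
      Pi.single 0 1 := by
    rw [← hP, mulVec_mulVec, ← Units.val_mul, inv_mul_cancel, Units.val_one, one_mulVec]
  have hform : R' = hd (1 + v 0) (fun j => v j.succ) 0 1 := by
    have : R' = 1 + vecMulVec (Pi.single 0 1) v := by
      rw [hR', cj, inv_inv, mul_add, add_mul, mul_one, mul_vecMulVec, hPu, vecMulVec_mul,
        ← Units.val_mul, inv_mul_cancel, Units.val_one, ← hv]
    rw [this]
    ext i j
    induction i using Fin.cases with
    | zero => induction j using Fin.cases <;> simp [vecMulVec_apply, (Fin.succ_ne_zero _).symm]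
    | succ i => induction j using Fin.cases <;> simp [vecMulVec_apply, Matrix.one_apply]
  have hsim : Sim (1 + vecMulVec u w) R' := ⟨P⁻¹, rfl⟩
  have hδ : 1 + v 0 = δ := by
    rw [← hdet, hsim.det_eq, hform, hd, Matrix.det_reindexAlgEquiv, det_blk_upper, det_one, mul_one]
  rw [hδ] at hform
  rw [hform] at hsim
  by_cases h1 : δ = 1
  · refine Or.inr ⟨h1, ?_⟩
    subst h1
    have hr : (fun j : Fin n => v j.succ) ≠ 0 := by
      intro h
      obtain ⟨g, hg⟩ := hsim
      have e : hd (1 : F) (fun j : Fin n => v j.succ) 0 (1 : Matrix (Fin n) (Fin n) F) = 1 := by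
        rw [h]
        ext i j
        induction i using Fin.cases with
        | zero => induction j using Fin.cases <;> simp [(Fin.succ_ne_zero _).symm]
        | succ i => induction j using Fin.cases <;> simp [Matrix.one_apply]
      rw [e] at hg
      exact hne (cj_injective g (hg.trans (by simp [cj])))
    obtain ⟨j, hj⟩ := Function.ne_iff.1 hr
    have h0 : 0 < n := lt_of_le_of_lt (Nat.zero_le _) j.2
    refine ⟨h0, ?_⟩
    obtain ⟨Q, hQ⟩ := exists_gl_col (⟨0, h0⟩ : Fin n) hr
    set T : GL (Fin n) F := mkGL (Q : Matrix (Fin n) (Fin n) F)ᵀ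
      (by rw [det_transpose]; exact gl_det_ne_zero Q)
    refine hsim.trans ?_
    have h2 := sim_hd_inner T 1 (fun j => v j.succ) 0 1
    have h3 : (fun j => v j.succ) ᵥ* ((T⁻¹ : GL (Fin n) F) : Matrix (Fin n) (Fin n) F) =
        Pi.single ⟨0, h0⟩ 1 := by
      rw [← hQ, show (Q : Matrix (Fin n) (Fin n) F) *ᵥ Pi.single ⟨0, h0⟩ 1 =
        Pi.single ⟨0, h0⟩ 1 ᵥ* (T : Matrix (Fin n) (Fin n) F) by rw [coe_mkGL, vecMul_transpose],
        vecMul_vecMul, ← Units.val_mul, mul_inv_cancel, Units.val_one, vecMul_one]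
    rw [h3, mulVec_zero, show cj T (1 : Matrix (Fin n) (Fin n) F) = 1 by simp [cj]] at h2
    exact h2
  · refine Or.inl ⟨h1, hsim.trans ?_⟩
    have h2 := sim_hd_upper ((δ - 1)⁻¹ • fun j => v j.succ) δ (fun j => v j.succ) 0 1
    have hδ1 : δ - 1 ≠ 0 := sub_ne_zero.2 h1
    convert h2 using 2
    · simp
    · ext j
      simp
      field_simp
      ring
    · simp

theorem IsRefl.sim {n : ℕ} {δ : F} {R R' : Matrix (Fin n) (Fin n) F} (h : IsRefl δ R)
    (h' : IsRefl δ R') : Sim R R' := by
  cases n with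
  | zero => exact absurd (Subsingleton.elim R 1) h.2.1
  | succ n =>
    rcases refl_normal h with ⟨h1, s⟩ | ⟨h1, h0, s⟩ <;>
      rcases refl_normal h' with ⟨h1', s'⟩ | ⟨h1', h0', s'⟩
    · exact s.trans s'.symm
    · exact absurd h1' h1
    · exact absurd h1 h1'
    · exact s.trans s'.symm

variable {n : ℕ}

/-- `M` above row `k`, the identity below. -/
def topPart (M : Matrix (Fin n) (Fin n) F) (k : ℕ) : Matrix (Fin n) (Fin n) F :=
  Matrix.of fun i j => if (i : ℕ) < k then M i j else (1 : Matrix (Fin n) (Fin n) F) i j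

theorem topPart_mul {L U : Matrix (Fin n) (Fin n) F} (hL : ∀ i j, i < j → L i j = 0) (k : ℕ) :
    topPart (L * U) k = topPart L k * topPart U k := by
  ext i l
  simp only [topPart, Matrix.of_apply, Matrix.mul_apply]
  by_cases hi : (i : ℕ) < k
  · simp only [hi, if_true]
    refine Finset.sum_congr rfl fun j _ => ?_
    by_cases hj : (j : ℕ) < k
    · simp [hj]
    · rw [hL i j (by exact Fin.lt_def.2 (by omega)), zero_mul, zero_mul]
  · simp only [hi, if_false, Matrix.one_apply, ite_mul, one_mul, zero_mul, Finset.sum_ite_eq,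
      Finset.mem_univ, if_true]

theorem det_topPart_lower {L : Matrix (Fin n) (Fin n) F} (hL : ∀ i j, i < j → L i j = 0) (k : ℕ) :
    (topPart L k).det = ∏ i : Fin n, if (i : ℕ) < k then L i i else 1 := by
  rw [Matrix.det_of_isLowerTriangular]
  · simp [topPart]
  · intro i j h
    simp only [OrderDual.toDual_lt_toDual] at h
    simp only [topPart, Matrix.of_apply]
    split_ifs
    · exact hL i j h
    · exact Matrix.one_apply_ne h.ne

theorem det_topPart_upper {U : Matrix (Fin n) (Fin n) F} (hU : ∀ i j, j < i → U i j = 0) (k : ℕ) :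
    (topPart U k).det = ∏ i : Fin n, if (i : ℕ) < k then U i i else 1 := by
  rw [Matrix.det_of_isUpperTriangular]
  · simp [topPart]
  · intro i j h
    simp only [topPart, Matrix.of_apply]
    split_ifs
    · exact hU i j h
    · exact Matrix.one_apply_ne h.ne'

/-- A product of `n` reflections or identities of determinant `δ`. -/
theorem exists_refl_list {δ : F} (hδ : δ ≠ 0) {L U : Matrix (Fin n) (Fin n) F}
    (hL : ∀ i j, i < j → L i j = 0) (hLd : ∀ i, L i i = 1)
    (hU : ∀ i j, j < i → U i j = 0) (hUd : ∀ i, U i i = δ) :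
    ∃ Rs : List (Matrix (Fin n) (Fin n) F), Rs.length = n ∧ Rs.prod = L * U ∧
      ∀ R ∈ Rs, R.det = δ ∧ ∃ u w : Fin n → F, R = 1 + vecMulVec u w := by
  set M := L * U with hM
  have hd' : ∀ k, k ≤ n → (topPart M k).det = δ ^ k := by
    intro k hk
    rw [hM, topPart_mul hL, det_mul, det_topPart_lower hL, det_topPart_upper hU]
    simp only [hLd, hUd, ite_self, Finset.prod_const_one, one_mul, Finset.prod_ite,
      Finset.prod_const, Finset.prod_const_one, mul_one]
    congr 1
    rw [show (Finset.univ.filter fun i : Fin n => (i : ℕ) < k) =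
      Finset.univ.map ⟨Fin.castLE hk, Fin.castLE_injective hk⟩ by
        ext i; simp only [Finset.mem_filter, Finset.mem_univ, true_and, Finset.mem_map,
          Function.Embedding.coeFn_mk]
        exact ⟨fun h => ⟨⟨i, h⟩, rfl⟩, fun ⟨a, ha⟩ => ha ▸ a.2⟩,
      Finset.card_map, Finset.card_fin]
  suffices key : ∀ k, k ≤ n → ∃ Rs : List (Matrix (Fin n) (Fin n) F), Rs.length = k ∧
      Rs.prod = topPart M k ∧ ∀ R ∈ Rs, R.det = δ ∧ ∃ u w : Fin n → F, R = 1 + vecMulVec u w by
    obtain ⟨Rs, h1, h2, h3⟩ := key n le_rfl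
    exact ⟨Rs, h1, h2.trans (by ext i j; simp [topPart]), h3⟩
  intro k
  induction k with
  | zero =>
    intro _
    exact ⟨[], rfl, by ext i j; simp [topPart, Matrix.one_apply], by simp⟩
  | succ k ih =>
    intro hk
    obtain ⟨Rs, h1, h2, h3⟩ := ih (by omega)
    set P := topPart M k with hP
    have hPu : IsUnit P.det := by rw [hd' k (by omega)]; exact (pow_ne_zero _ hδ).isUnit
    refine ⟨(topPart M (k + 1) * P⁻¹) :: Rs, by simp [h1], ?_, ?_⟩
    · rw [List.prod_cons, h2, Matrix.nonsing_inv_mul_cancel_right _ _ hPu]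
    · intro R hR
      rcases List.mem_cons.1 hR with rfl | hR
      · refine ⟨?_, Pi.single ⟨k, by omega⟩ 1,
          (fun j => M ⟨k, by omega⟩ j - (1 : Matrix (Fin n) (Fin n) F) ⟨k, by omega⟩ j) ᵥ* P⁻¹, ?_⟩
        · rw [det_mul, det_nonsing_inv, hd' _ hk, hd' k (by omega), Ring.inverse_eq_inv',
            pow_succ]
          field_simp
        · have hdiff : topPart M (k + 1) = P + vecMulVec (Pi.single ⟨k, by omega⟩ 1)
              (fun j => M ⟨k, by omega⟩ j - (1 : Matrix (Fin n) (Fin n) F) ⟨k, by omega⟩ j) := by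
            ext i j
            simp only [hP, topPart, Matrix.add_apply, vecMulVec_apply, Matrix.of_apply]
            by_cases hik : (i : ℕ) = k
            · rw [show i = (⟨k, by omega⟩ : Fin n) from Fin.ext hik]
              simp
            · rw [Pi.single_eq_of_ne (fun h => hik (congrArg Fin.val h))]
              by_cases hlt : (i : ℕ) < k
              · simp [hlt, show (i : ℕ) < k + 1 by omega]
              · simp [hlt, show ¬ (i : ℕ) < k + 1 by omega]
          rw [hdiff, add_mul, Matrix.mul_nonsing_inv _ hPu, vecMulVec_mul]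
      · exact h3 R hR

theorem det_one_add_vvec (u w : Fin n → F) :
    ((1 : Matrix (Fin n) (Fin n) F) + vecMulVec u w).det = 1 + w ⬝ᵥ u := by
  rw [Matrix.vecMulVec_eq Unit, Matrix.det_one_add_replicateCol_mul_replicateRow]

/-- A transvection is a product of any positive number of transvections. -/
theorem transvection_split {h3 : F} (h3' : h3 ≠ 0 ∧ h3 ≠ 1) {R : Matrix (Fin n) (Fin n) F}
    (hR : IsRefl 1 R) :
    ∀ m : ℕ, ∃ Rs : List (Matrix (Fin n) (Fin n) F), Rs.length = m + 1 ∧ Rs.prod = R ∧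
      ∀ S ∈ Rs, IsRefl 1 S := by
  obtain ⟨hdet, hne, u, w, hRuw⟩ := hR
  subst hRuw
  have hwu : w ⬝ᵥ u = 0 := by
    rw [det_one_add_vvec] at hdet
    simpa using hdet
  have hne' : vecMulVec u w ≠ 0 := fun h => hne (by rw [h, add_zero])
  have mk : ∀ t : F, t ≠ 0 → IsRefl 1 (1 + vecMulVec u (t • w)) := fun t ht =>
    ⟨by rw [det_one_add_vvec, smul_dotProduct, hwu, smul_zero, add_zero], fun h => by
      rw [add_eq_left, vecMulVec_smul, smul_eq_zero] at h
      exact h.elim ht hne', u, _, rfl⟩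
  suffices key : ∀ m : ℕ, ∀ t : F, t ≠ 0 → ∃ Rs : List (Matrix (Fin n) (Fin n) F),
      Rs.length = m + 1 ∧ Rs.prod = 1 + vecMulVec u (t • w) ∧ ∀ S ∈ Rs, IsRefl 1 S by
    intro m
    simpa using key m 1 one_ne_zero
  intro m
  induction m with
  | zero => intro t ht; exact ⟨[_], rfl, List.prod_singleton, fun S hS => (List.mem_singleton.1 hS) ▸ mk t ht⟩
  | succ m ih =>
    intro t ht
    obtain ⟨Rs, h1, h2, h3''⟩ := ih (t * (1 - h3)) (mul_ne_zero ht (sub_ne_zero.2 h3'.2.symm))
    refine ⟨(1 + vecMulVec u ((t * h3) • w)) :: Rs, by simp [h1], ?_,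
      fun S hS => (List.mem_cons.1 hS).elim (fun h => h ▸ mk _ (mul_ne_zero ht h3'.1)) (h3'' S)⟩
    rw [List.prod_cons, h2, mul_add, add_mul, add_mul, mul_one, one_mul, vecMulVec_mul_vecMulVec,
      smul_dotProduct, hwu, smul_zero, zero_smul]
    simp only [vecMulVec_zero, add_zero, mul_one, one_mul, add_assoc, ← vecMulVec_add, ← add_smul]
    rw [show t * h3 + t * (1 - h3) = t by ring]

/-- Lengthening a product of transvections. -/
theorem pad_transvections {h3 : F} (h3' : h3 ≠ 0 ∧ h3 ≠ 1)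
    (Rs : List (Matrix (Fin n) (Fin n) F)) (hne : Rs ≠ [])
    (hRs : ∀ S ∈ Rs, IsRefl 1 S) (m : ℕ) :
    ∃ Rs' : List (Matrix (Fin n) (Fin n) F), Rs'.length = Rs.length + m ∧ Rs'.prod = Rs.prod ∧
      ∀ S ∈ Rs', IsRefl 1 S := by
  obtain ⟨R, t, rfl⟩ := List.exists_cons_of_ne_nil hne
  obtain ⟨l, h1, h2, h3''⟩ := transvection_split h3' (hRs R (by simp)) m
  exact ⟨l ++ t, by simp [h1]; omega, by simp [h2],
    fun S hS => (List.mem_append.1 hS).elim (h3'' S) fun h => hRs S (by simp [h])⟩

theorem gprod_of_list {n : ℕ} {δ : F} {R : Matrix (Fin n) (Fin n) F} (hR : IsRefl δ R)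
    (Rs : List (Matrix (Fin n) (Fin n) F)) (h : ∀ S ∈ Rs, IsRefl δ S) :
    GProd R Rs.length Rs.prod := by
  choose g hg using fun i : Fin Rs.length => hR.sim (h _ (List.get_mem Rs i))
  refine ⟨g, ?_⟩
  simp only [hg, List.ofFn_get]

/-- Products of `n` reflections. -/
theorem refl_cover {n : ℕ} (h4 : ∃ h3 : F, h3 ≠ 0 ∧ h3 ≠ 1) (hn : 2 ≤ n) {δ : F} (hδ : δ ≠ 0)
    {R : Matrix (Fin n) (Fin n) F} (hR : IsRefl δ R) {A : Matrix (Fin n) (Fin n) F}
    (hdet : A.det = δ ^ n) (hA : ¬ IsScal A ∨ A = δ • 1) : GProd R n A := by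
  obtain ⟨h3, h3'⟩ := h4
  obtain ⟨L, U, hL, hLd, hU, hUd, hsim⟩ : ∃ L U : Matrix (Fin n) (Fin n) F,
      (∀ i j, i < j → L i j = 0) ∧ (∀ i, L i i = 1) ∧
        (∀ i j, j < i → U i j = 0) ∧ (∀ i, U i i = δ) ∧ Sim A (L * U) := by
    rcases hA with h | rfl
    · exact exists_lu n A (Or.inr h) (fun _ => 1) (fun _ => δ) (fun _ => one_ne_zero) (fun _ => hδ)
        (by simp [hdet])
    · exact ⟨1, δ • 1, fun i j h => Matrix.one_apply_ne h.ne, fun i => Matrix.one_apply_eq i,
        fun i j h => by simp [Matrix.one_apply_ne h.ne'], fun i => by simp, by rw [one_mul]; exact Sim.refl _⟩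
  obtain ⟨Rs, hlen, hprod, hRs⟩ := exists_refl_list hδ hL hLd hU hUd
  refine GProd.of_sim hsim.symm ?_
  by_cases h1 : δ = 1
  · subst h1
    classical
    set S := Rs.filter (fun X => decide (X ≠ 1)) with hS
    have hSr : ∀ X ∈ S, IsRefl 1 X := fun X hX => by
      simp only [hS, List.mem_filter, decide_eq_true_eq] at hX
      exact ⟨(hRs X hX.1).1, hX.2, (hRs X hX.1).2⟩
    have hSp : S.prod = L * U := by
      rw [← hprod, hS]
      clear hprod hlen hRs hSr hS S
      induction Rs with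
      | nil => rfl
      | cons x t ih =>
        have ih' : (t.filter fun X => !decide (X = 1)).prod = t.prod := by simpa using ih
        by_cases hx : x = 1 <;> simp [hx, ih']
    have hle : S.length ≤ n := le_trans (List.length_filter_le _ _) hlen.le
    by_cases hnil : S = []
    · rw [hnil, List.prod_nil] at hSp
      obtain ⟨l, hl1, hl2, hl3⟩ := transvection_split h3' hR (n - 2)
      have hR' : IsRefl 1 (R⁻¹) := by
        obtain ⟨hd1, hne, u, w, rfl⟩ := hR
        have hwu : w ⬝ᵥ u = 0 := by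
          rw [det_one_add_vvec] at hd1
          simpa using hd1
        have hinv : (1 + vecMulVec u w)⁻¹ = 1 + vecMulVec (-u) w := by
          refine Matrix.inv_eq_right_inv ?_
          rw [mul_add, add_mul, add_mul, one_mul, mul_one, one_mul, vecMulVec_mul_vecMulVec]
          simp [neg_vecMulVec, dotProduct_neg, hwu]
        rw [hinv]
        refine ⟨by rw [det_one_add_vvec]; simp [hwu], fun h => hne ?_, _, _, rfl⟩
        rw [add_eq_left, neg_vecMulVec, neg_eq_zero] at h
        rw [h, add_zero]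
      have := gprod_of_list hR (R⁻¹ :: l) (fun X hX => (List.mem_cons.1 hX).elim (fun h => h ▸ hR') (hl3 X))
      rw [List.prod_cons, hl2, Matrix.nonsing_inv_mul _ (by rw [hR.1]; exact isUnit_one), hSp] at this
      simpa [hl1, show n - 2 + 1 + 1 = n by omega] using this
    · obtain ⟨S', h1', h2', h3''⟩ := pad_transvections h3' S hnil hSr (n - S.length)
      have := gprod_of_list hR S' h3''
      rw [h2', hSp] at this
      simpa [h1', show S.length + (n - S.length) = n by omega] using this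
  · have hRs' : ∀ X ∈ Rs, IsRefl δ X := fun X hX =>
      ⟨(hRs X hX).1, fun h => h1 (by rw [← (hRs X hX).1, h, det_one]), (hRs X hX).2⟩
    have := gprod_of_list hR Rs hRs'
    rw [hprod, hlen] at this
    exact this

end CfsgLib.LevCover
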