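import Cfsg.Agent.Lib.LevCover.Cyclic

/-!
# The rank of the complement in one peeling step
-/

set_option autoImplicit false

namespace CfsgLib.LevCover

open Matrix Module

variable {F : Type*} [Field F]

/-- The map `A - ν`. -/
def sh {m : ℕ} (A : Matrix (Fin m) (Fin m) F) (ν : F) : Module.End F (Fin m → F) :=
  Matrix.toLin' A - ν • 1

theorem sh_apply {m : ℕ} (A : Matrix (Fin m) (Fin m) F) (ν : F) (v : Fin m → F) :
    sh A ν v = A *ᵥ v - ν • v := by
  simp [sh, Module.End.one_apply]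

/-- The rank of `A - ν`. -/
noncomputable def rk {m : ℕ} (A : Matrix (Fin m) (Fin m) F) (ν : F) : ℕ :=
  finrank F (LinearMap.range (sh A ν))

theorem sh_cj {m : ℕ} (g : GL (Fin m) F) (A : Matrix (Fin m) (Fin m) F) (ν : F) (v : Fin m → F) :
    sh (cj g A) ν ((g : Matrix (Fin m) (Fin m) F) *ᵥ v) =
      (g : Matrix (Fin m) (Fin m) F) *ᵥ (sh A ν v) := by
  rw [sh_apply, sh_apply, mulVec_sub, mulVec_smul, mulVec_mulVec, ← (cj_eq_iff g A _).1 rfl,
    mulVec_mulVec]

theorem mulVec_inv_cancel {m : ℕ} (g : GL (Fin m) F) (v : Fin m → F) :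
    (g : Matrix (Fin m) (Fin m) F) *ᵥ (((g⁻¹ : GL (Fin m) F) : Matrix (Fin m) (Fin m) F) *ᵥ v) = v := by
  rw [mulVec_mulVec, ← Units.val_mul, mul_inv_cancel, Units.val_one, one_mulVec]

theorem inv_mulVec_cancel {m : ℕ} (g : GL (Fin m) F) (v : Fin m → F) :
    ((g⁻¹ : GL (Fin m) F) : Matrix (Fin m) (Fin m) F) *ᵥ ((g : Matrix (Fin m) (Fin m) F) *ᵥ v) = v := by
  rw [mulVec_mulVec, ← Units.val_mul, inv_mul_cancel, Units.val_one, one_mulVec]

theorem rk_cj {m : ℕ} (g : GL (Fin m) F) (A : Matrix (Fin m) (Fin m) F) (ν : F) :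
    rk (cj g A) ν = rk A ν := by
  let e : (Fin m → F) ≃ₗ[F] (Fin m → F) := Matrix.toLin'OfInv
    (M := ((g⁻¹ : GL (Fin m) F) : Matrix (Fin m) (Fin m) F)) (M' := (g : Matrix (Fin m) (Fin m) F))
    (by rw [← Units.val_mul, inv_mul_cancel, Units.val_one])
    (by rw [← Units.val_mul, mul_inv_cancel, Units.val_one])
  have he : ∀ v, e v = (g : Matrix (Fin m) (Fin m) F) *ᵥ v := fun v => by
    simp [e, Matrix.toLin'OfInv]
  have : LinearMap.range (sh (cj g A) ν) = (LinearMap.range (sh A ν)).map e.toLinearMap := by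
    ext w
    simp only [LinearMap.mem_range, Submodule.mem_map, LinearEquiv.coe_coe, exists_exists_eq_and, he]
    constructor
    · rintro ⟨v, rfl⟩
      exact ⟨((g⁻¹ : GL (Fin m) F) : Matrix (Fin m) (Fin m) F) *ᵥ v, by
        rw [← sh_cj, mulVec_inv_cancel]⟩
    · rintro ⟨v, rfl⟩
      exact ⟨_, sh_cj g A ν v⟩
  rw [rk, rk, this, e.finrank_map_eq]

variable {n : ℕ}

theorem hd_mulVec (a : F) (r c : Fin n → F) (A : Matrix (Fin n) (Fin n) F) (t : F) (x : Fin n → F) :
    hd a r c A *ᵥ Fin.cons t x = Fin.cons (a * t + r ⬝ᵥ x) (t • c + A *ᵥ x) := by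
  funext i
  induction i using Fin.cases with
  | zero => simp [mulVec, dotProduct, Fin.sum_univ_succ]
  | succ i => simp [mulVec, dotProduct, Fin.sum_univ_succ, mul_comm]

theorem cons_single (n : ℕ) : (Fin.cons (1 : F) 0 : Fin (n + 1) → F) = Pi.single 0 1 := by
  funext i
  induction i using Fin.cases <;> simp

/-- Prepending a zero. -/
def tl (n : ℕ) : (Fin n → F) →ₗ[F] (Fin (n + 1) → F) where
  toFun v := Fin.cons 0 v
  map_add' u v := by funext i; induction i using Fin.cases <;> simp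
  map_smul' t v := by funext i; induction i using Fin.cases <;> simp

@[simp] theorem tl_apply (v : Fin n → F) : tl n v = Fin.cons 0 v := rfl

section

variable {a : F} {r c : Fin n → F} {A₁ B : Matrix (Fin n) (Fin n) F}

theorem range_le (ha : a ≠ 0) (hB : B = A₁ - a⁻¹ • vecMulVec c r) (ν : F) :
    LinearMap.range (sh (hd a r c A₁) ν) ≤
      Submodule.span F {Fin.cons (a - ν) c, Fin.cons a c} ⊔
        (LinearMap.range (sh B ν)).map (tl n) := by
  rintro w ⟨v, rfl⟩
  obtain ⟨t, x, rfl⟩ : ∃ t x, v = Fin.cons t x := ⟨v 0, Fin.tail v, (Fin.cons_self_tail v).symm⟩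
  have : sh (hd a r c A₁) ν (Fin.cons t x) =
      (t • (Fin.cons (a - ν) c : Fin (n + 1) → F) + (a⁻¹ * (r ⬝ᵥ x)) • Fin.cons a c) +
        tl n (sh B ν x) := by
    rw [sh_apply, hd_mulVec, hB, tl_apply, sh_apply]
    funext i
    induction i using Fin.cases with
    | zero => simp; field_simp; ring
    | succ i =>
      simp [sub_mulVec, smul_mulVec, vecMulVec_mulVec]
      ring
  rw [this]
  exact Submodule.add_mem_sup (Submodule.add_mem _
    (Submodule.smul_mem _ _ (Submodule.subset_span (Set.mem_insert _ _)))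
    (Submodule.smul_mem _ _ (Submodule.subset_span (Set.mem_insert_of_mem _ rfl))))
    (Submodule.mem_map_of_mem ⟨x, rfl⟩)

theorem span_pair_finrank (u v : Fin (n + 1) → F) :
    finrank F (Submodule.span F ({u, v} : Set (Fin (n + 1) → F))) ≤ 2 := by
  classical
  have h := finrank_span_finset_le_card (R := F) ({u, v} : Finset (Fin (n + 1) → F))
  rw [Finset.coe_insert, Finset.coe_singleton] at h
  exact h.trans Finset.card_le_two

theorem e0_mem_span (ν : F) (hν : ν ≠ 0) :
    (Pi.single 0 1 : Fin (n + 1) → F) ∈ Submodule.span F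
      ({Fin.cons (a - ν) c, Fin.cons a c} : Set (Fin (n + 1) → F)) := by
  rw [← cons_single]
  have : (Fin.cons (1 : F) 0 : Fin (n + 1) → F) =
      ν⁻¹ • (Fin.cons a c - Fin.cons (a - ν) c : Fin (n + 1) → F) := by
    funext i
    induction i using Fin.cases <;> simp [hν]
  rw [this]
  exact Submodule.smul_mem _ _ (sub_mem (Submodule.subset_span (Set.mem_insert_of_mem _ rfl))
    (Submodule.subset_span (Set.mem_insert _ _)))

/-- A small complement forces small rank. -/
theorem rk_le_three (ha : a ≠ 0) (hB : B = A₁ - a⁻¹ • vecMulVec c r) {ν : F}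
    (h : rk B ν ≤ 1) : rk (hd a r c A₁) ν ≤ 3 := by
  have h1 := Submodule.finrank_mono (range_le ha hB ν)
  have h2 := Submodule.finrank_add_le_finrank_add_finrank
    (Submodule.span F ({Fin.cons (a - ν) c, Fin.cons a c} : Set (Fin (n + 1) → F)))
    ((LinearMap.range (sh B ν)).map (tl n))
  have h3 := Submodule.finrank_map_le (tl n) (LinearMap.range (sh B ν))
  have h4 := span_pair_finrank (F := F) (Fin.cons (a - ν) c) (Fin.cons a c)
  simp only [rk] at h ⊢
  omega

theorem rk_le_two_of_notMem (ha : a ≠ 0) (hB : B = A₁ - a⁻¹ • vecMulVec c r) {ν : F} (hν : ν ≠ 0)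
    (h : rk B ν ≤ 1) (hx : (Pi.single 0 1 : Fin (n + 1) → F) ∉ LinearMap.range (sh (hd a r c A₁) ν)) :
    rk (hd a r c A₁) ν ≤ 2 := by
  have hlt : LinearMap.range (sh (hd a r c A₁) ν) <
      Submodule.span F {Fin.cons (a - ν) c, Fin.cons a c} ⊔
        (LinearMap.range (sh B ν)).map (tl n) :=
    lt_of_le_of_ne (range_le ha hB ν) fun e => hx (e ▸ Submodule.mem_sup_left (e0_mem_span ν hν))
  have h1 := Submodule.finrank_lt_finrank_of_lt hlt
  have h2 := Submodule.finrank_add_le_finrank_add_finrank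
    (Submodule.span F ({Fin.cons (a - ν) c, Fin.cons a c} : Set (Fin (n + 1) → F)))
    ((LinearMap.range (sh B ν)).map (tl n))
  have h3 := Submodule.finrank_map_le (tl n) (LinearMap.range (sh B ν))
  have h4 := span_pair_finrank (F := F) (Fin.cons (a - ν) c) (Fin.cons a c)
  simp only [rk] at h ⊢
  omega

theorem range_le_plane (ha : a ≠ 0) (hB : B = A₁ - a⁻¹ • vecMulVec c r) {ν : F} (hν : ν ≠ 0)
    (hc : c ≠ 0) (h : rk B ν ≤ 1) {k : Fin (n + 1) → F} (hk : sh (hd a r c A₁) ν k = 0)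
    (hk0 : k 0 ≠ 0) :
    LinearMap.range (sh (hd a r c A₁) ν) ≤
      Submodule.span F {Fin.cons (a - ν) c, Fin.cons a c} := by
  obtain ⟨t, x, rfl⟩ : ∃ t x, k = Fin.cons t x := ⟨k 0, Fin.tail k, (Fin.cons_self_tail k).symm⟩
  rw [Fin.cons_zero] at hk0
  have hcR : c ∈ LinearMap.range (sh B ν) := by
    rw [sh_apply, hd_mulVec] at hk
    have e0 := congrFun hk 0
    simp only [Pi.sub_apply, Pi.smul_apply, Fin.cons_zero, smul_eq_mul, Pi.zero_apply] at e0
    refine ⟨-(a / (ν * t)) • x, funext fun i => ?_⟩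
    have e := congrFun hk i.succ
    simp only [Pi.sub_apply, Pi.smul_apply, Fin.cons_succ, smul_eq_mul, Pi.zero_apply,
      Pi.add_apply] at e
    rw [sh_apply, hB]
    simp only [Pi.sub_apply, Pi.smul_apply, smul_eq_mul, mulVec_smul, sub_mulVec, smul_mulVec,
      vecMulVec_mulVec, Pi.smul_apply, op_smul_eq_mul]
    field_simp
    linear_combination (-a) * e + (c i) * e0
  have hR : LinearMap.range (sh B ν) = F ∙ c := by
    refine (Submodule.eq_of_le_of_finrank_le ((Submodule.span_singleton_le_iff_mem _ _).2 hcR) ?_).symm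
    rw [finrank_span_singleton hc]
    exact h
  refine (range_le ha hB ν).trans (sup_le le_rfl ?_)
  rw [hR, Submodule.map_span, Set.image_singleton, Submodule.span_singleton_le_iff_mem]
  have : (tl n c : Fin (n + 1) → F) = Fin.cons a c - a • (Pi.single 0 1 : Fin (n + 1) → F) := by
    funext i
    induction i using Fin.cases <;> simp
  rw [this]
  exact sub_mem (Submodule.subset_span (Set.mem_insert_of_mem _ rfl))
    (Submodule.smul_mem _ _ (e0_mem_span ν hν))

theorem rk_le_two_of_ker (ha : a ≠ 0) (hB : B = A₁ - a⁻¹ • vecMulVec c r) {ν : F} (hν : ν ≠ 0)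
    (hc : c ≠ 0) (h : rk B ν ≤ 1) {k : Fin (n + 1) → F} (hk : sh (hd a r c A₁) ν k = 0)
    (hk0 : k 0 ≠ 0) : rk (hd a r c A₁) ν ≤ 2 :=
  (Submodule.finrank_mono (range_le_plane ha hB hν hc h hk hk0)).trans (span_pair_finrank _ _)

theorem rk_le_one_of_both (ha : a ≠ 0) (hB : B = A₁ - a⁻¹ • vecMulVec c r) {ν : F} (hν : ν ≠ 0)
    (hc : c ≠ 0) (h : rk B ν ≤ 1) {k : Fin (n + 1) → F} (hk : sh (hd a r c A₁) ν k = 0)
    (hk0 : k 0 ≠ 0)
    (hx : (Pi.single 0 1 : Fin (n + 1) → F) ∉ LinearMap.range (sh (hd a r c A₁) ν)) :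
    rk (hd a r c A₁) ν ≤ 1 := by
  have hlt : LinearMap.range (sh (hd a r c A₁) ν) <
      Submodule.span F {Fin.cons (a - ν) c, Fin.cons a c} :=
    lt_of_le_of_ne (range_le_plane ha hB hν hc h hk hk0) fun e => hx (e ▸ e0_mem_span ν hν)
  have h1 := Submodule.finrank_lt_finrank_of_lt hlt
  have h4 := span_pair_finrank (F := F) (Fin.cons (a - ν) c) (Fin.cons a c)
  simp only [rk]
  omega

/-- An eigenvector of the complement. -/
theorem eigen_lift (ha : a ≠ 0) (hB : B = A₁ - a⁻¹ • vecMulVec c r) {ν : F} {v : Fin n → F}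
    (hv : B *ᵥ v = ν • v) :
    sh (hd a r c A₁) ν (Fin.cons 0 v) = (a⁻¹ * (r ⬝ᵥ v)) • Fin.cons a c := by
  rw [sh_apply, hd_mulVec]
  funext i
  induction i using Fin.cases with
  | zero => simp; field_simp
  | succ i =>
    have e := congrFun hv i
    rw [hB] at e
    simp [sub_mulVec, smul_mulVec, vecMulVec_mulVec] at e ⊢
    linear_combination e

end

end CfsgLib.LevCover
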