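import Cfsg.Agent.Lib.LevCover.Coset

/-!
# Standard blocks and one special block
-/

set_option autoImplicit false

namespace CfsgLib.LevCover

open Matrix Polynomial

variable {F : Type*} [Field F] {ι κ : Type*} [Fintype ι] [DecidableEq ι] [Fintype κ] [DecidableEq κ]

theorem Good.mono_spec {Y : Matrix ι ι F} {a b : F} {s : Multiset F} {R L L' : Set F}
    (hL : ∀ x, x ∈ L → x ∈ s → x ∈ L') : Good Y a b s R L → Good Y a b s R L' := by
  rintro ⟨g, h, h1, h2, h3, h4, h5⟩
  refine ⟨g, h, h1, h2, h3, h4, fun x hx => hL x (h5 x hx) ?_⟩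
  obtain ⟨l, hl0, hl, -⟩ := hx
  refine (det_sub_eq_zero_iff h3.1).1 (Matrix.exists_vecMul_eq_zero_iff.1 ⟨l, hl0, ?_⟩)
  rw [vecMul_sub, vecMul_smul, vecMul_one, hl, sub_self]

theorem deg_two_irreducible' {g : F[X]} (hm : g.Monic) (hd : g.natDegree = 2)
    (hr : ∀ x, g.eval x ≠ 0) : Irreducible g := by
  rw [Polynomial.Monic.irreducible_iff_roots_eq_zero_of_degree_le_three hm (by omega) (by omega)]
  exact Multiset.eq_zero_of_forall_notMem fun x hx => hr x ((Polynomial.mem_roots hm.ne_zero).1 hx)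

theorem h3_of_card [Fintype F] (h4 : 4 ≤ Fintype.card F) : ∃ a : F, a ≠ 0 ∧ a ≠ 1 := by
  obtain ⟨τ, h0, h1, -⟩ := exists_tau h4 1 1
  exact ⟨τ, h0, h1⟩

/-- Only standard blocks. -/
theorem Dec.std [Fintype F] (h4 : 4 ≤ Fintype.card F) {n : ℕ} {Y : Matrix (Fin n) (Fin n) F}
    {l : List F[X]} (h : Dec Y l) (hl : ∀ g ∈ l, g.coeff 0 ≠ 0) {u : F} (hu : u ≠ 0)
    (hgood : ∀ g ∈ l, 3 ≤ g.natDegree ∨ topF g u ≠ u) :
    ∃ (s : Multiset F) (R : Set F), GoodEx Y s R {u} ∧ u ∉ R ∧ (0 : F) ∉ s ∧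
      ∀ x ∈ s, x = u ∨ ∃ g ∈ l, x = topF g u := by
  have h3 := h3_of_card h4
  induction h with
  | one e c h =>
    have hg := List.mem_singleton_self (comp c).charpoly
    refine ⟨_, _, ((((goodEx_piece h3 c rfl (hl _ hg) hu (hgood _ hg)).mono subset_rfl
      Set.sdiff_subset).reindex e).of_sim h.symm), fun h => h.2 rfl, zero_notMem_specF (hl _ hg) hu,
      fun x hx => (mem_specF hx).elim (fun h => Or.inr ⟨_, hg, h⟩) Or.inl⟩
  | step e c h' ha h ih =>
    rename_i k m d Y Y' l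
    have hg : (comp c).charpoly ∈ (comp c).charpoly :: l := List.mem_cons_self ..
    obtain ⟨s, R, hG, hR, hs, hx'⟩ := ih (fun g hg => hl g (List.mem_cons_of_mem _ hg))
      (fun g hg => hgood g (List.mem_cons_of_mem _ hg))
    have h1 := hG.join (goodEx_piece h3 c rfl (hl _ hg) hu (hgood _ hg))
      (zero_notMem_specF (hl _ hg) hu) (fun x _ _ h1 h2 => hR (h2.1 ▸ h1)) 0
    refine ⟨_, _, ((h1.mono subset_rfl (Set.union_subset subset_rfl
      (Set.sdiff_subset.trans Set.sdiff_subset))).reindex e).of_sim h.symm,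
      fun h => h.elim hR (fun h => h.2 rfl), by simp [hs, zero_notMem_specF (hl _ hg) hu], fun x hx => ?_⟩
    rcases Multiset.mem_add.1 hx with hx | hx
    · exact (hx' x hx).imp_right fun ⟨g, hg, e⟩ => ⟨g, List.mem_cons_of_mem _ hg, e⟩
    · exact (mem_specF hx).elim (fun h => Or.inr ⟨_, hg, h⟩) Or.inl

theorem goodEx_empty' (Y : Matrix (Fin 0) (Fin 0) F) (R L : Set F) : GoodEx Y 0 R L := by
  refine ⟨1, 1, 1, 1, by simp, by simp, ⟨by simp [rpoly], fun _ l _ h => absurd (Subsingleton.elim l 0) h⟩,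
    ?_, ?_⟩ <;>
  · rintro x ⟨v, hv, -⟩
    exact absurd (Subsingleton.elim v 0) hv

/-- Standard blocks, or nothing. -/
theorem rest_std [Fintype F] (h4 : 4 ≤ Fintype.card F) {m : ℕ} {Y : Matrix (Fin m) (Fin m) F}
    {l : List F[X]} (h : (m = 0 ∧ l = []) ∨ Dec Y l) (hl : ∀ g ∈ l, g.coeff 0 ≠ 0) {u : F} (hu : u ≠ 0)
    (hgood : ∀ g ∈ l, 3 ≤ g.natDegree ∨ topF g u ≠ u) :
    ∃ (s : Multiset F) (R : Set F), GoodEx Y s R {u} ∧ u ∉ R ∧ (0 : F) ∉ s ∧
      ∀ x ∈ s, x = u ∨ ∃ g ∈ l, x = topF g u := by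
  rcases h with ⟨rfl, rfl⟩ | h
  · exact ⟨0, ∅, goodEx_empty' Y _ _, by simp, by simp, by simp⟩
  · exact h.std h4 hl hu hgood

/-- The first value of a special piece. -/
noncomputable def spF (g : F[X]) (u a : F) : F := g.coeff 0 ^ 2 / (a * u ^ (g.natDegree - 2))

theorem goodEx_special (h3 : ∃ x : F, x ≠ 0 ∧ x ≠ 1) {d : ℕ} (c : Fin (d + 2) → F) {g : F[X]}
    (hc : (comp c).charpoly = g) (hg0 : g.coeff 0 ≠ 0) {a u : F} (ha : a ≠ 0) (hu : u ≠ 0)
    (hau : a ≠ u) (hbu : spF g u a ≠ u) (hd : 3 ≤ g.natDegree ∨ spF g u a ≠ a) :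
    ∃ R : Set F, GoodEx (comp c) (spF g u a ::ₘ a ::ₘ Multiset.replicate (g.natDegree - 2) u) R
      Set.univ ∧ u ∉ R := by
  have hdeg : g.natDegree = d + 2 := by rw [← hc, charpoly_natDegree_eq_dim, Fintype.card_fin]
  rcases d with _ | k
  · have htop : topF g a = spF g u a := by simp [topF, spF, hdeg]
    have hne : topF g a ≠ a := by
      rw [htop]
      exact hd.resolve_left (by omega)
    have h := goodEx_piece h3 c hc hg0 ha (Or.inr hne)
    rw [specF, htop, hdeg] at h
    refine ⟨{spF g u a} \ {a}, ?_, fun h => hbu h.1.symm⟩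
    rw [hdeg]
    simpa using h.mono subset_rfl (Set.subset_univ _)
  · have hb0 : spF g u a ≠ 0 :=
      div_ne_zero (pow_ne_zero _ hg0) (mul_ne_zero ha (pow_ne_zero _ hu))
    have he : g.natDegree - 2 = k + 1 := by omega
    obtain ⟨R, h, hR⟩ := goodEx_zpiece h3 c ha hu hau (b := spF g u a) (by
      rw [hc, spF, he, div_mul_cancel₀ _ (mul_ne_zero ha (pow_ne_zero _ hu))]) hb0 hbu
    rw [he]
    exact ⟨R, h, hR⟩

/-- Membership in the coset of determinants through `u`. -/
def InC (Y : Matrix ι ι F) (u x : F) : Prop := DetIn Y (x / u)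

theorem inC_self {Y : Matrix ι ι F} {u : F} (hu : u ≠ 0) : InC Y u u := by
  rw [InC, div_self hu]; exact DetIn.one Y

theorem inC_topF {n : ℕ} {Y : Matrix (Fin n) (Fin n) F} {l : List F[X]} (h : Dec Y l) {g : F[X]}
    (hg : g ∈ l) (hg0 : g.coeff 0 ≠ 0) {α : F} (hα : α ≠ 0) : InC Y (α * α) (topF g (α * α)) := by
  rw [InC, topF_eq g α hα (by have := (h.mem_facts g hg).2.1; omega),
    mul_div_cancel_left₀ _ (mul_ne_zero hα hα)]
  exact (h.nrm_mem hg hg0 hα).sq

/-- The two values of a special piece. -/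
theorem special_values {Y : Matrix ι ι F} (g : F[X]) (hd : 2 ≤ g.natDegree) (hg0 : g.coeff 0 ≠ 0)
    {α a' : F} (hα : α ≠ 0) (ha : a' ≠ 0) (hna : ¬ DetIn Y a') (hn : DetIn Y (nrm g α ^ 2))
    (hne : a' ^ 2 ≠ nrm g α ^ 2) :
    ¬ InC Y (α * α) (α * α * a') ∧ α * α * a' ≠ α * α ∧
      spF g (α * α) (α * α * a') ≠ α * α ∧ spF g (α * α) (α * α * a') ≠ α * α * a' ∧
      spF g (α * α) (α * α * a') ≠ 0 := by
  have hu : α * α ≠ 0 := mul_ne_zero hα hα
  obtain ⟨k, hk⟩ : ∃ k, g.natDegree = k + 2 := ⟨g.natDegree - 2, by omega⟩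
  have hsp : spF g (α * α) (α * α * a') = α * α * (nrm g α ^ 2 / a') := by
    rw [spF, nrm, hk, Nat.add_sub_cancel, div_pow, ← pow_mul, mul_pow]
    field_simp
    ring
  have hn0 : nrm g α ^ 2 ≠ 0 := hn.ne_zero
  refine ⟨fun h => hna ?_, fun h => hna ?_, fun h => hna ?_, fun h => hne ?_,
    by rw [hsp]; exact mul_ne_zero hu (div_ne_zero hn0 ha)⟩
  · rwa [InC, mul_div_cancel_left₀ _ hu] at h
  · rw [mul_eq_left₀ hu] at h
    exact h ▸ DetIn.one Y
  · rw [hsp, mul_eq_left₀ hu, div_eq_one_iff_eq ha] at h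
    exact h ▸ hn
  · rw [hsp] at h
    have h' := mul_left_cancel₀ hu h
    field_simp at h'
    linear_combination -h'

theorem count_special [DecidableEq F] {a b u : F} {k : ℕ} (hab : b ≠ a) (hau : a ≠ u) :
    (b ::ₘ a ::ₘ Multiset.replicate k u).count a = 1 := by
  rw [Multiset.count_cons_of_ne hab.symm, Multiset.count_cons_self, Multiset.count_replicate]
  simp [hau.symm]

theorem count_zero_of_inC [DecidableEq F] {Y : Matrix ι ι F} {u A : F} (hA : ¬ InC Y u A)
    {s : Multiset F} (hs : ∀ x ∈ s, InC Y u x) : s.count A = 0 :=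
  Multiset.count_eq_zero.2 fun h => hA (hs A h)

theorem zero_notMem_special {g : F[X]} {u a : F} (ha : a ≠ 0) (hu : u ≠ 0) (hb : spF g u a ≠ 0)
    (k : ℕ) : (0 : F) ∉ spF g u a ::ₘ a ::ₘ Multiset.replicate k u := by
  simp [hb.symm, ha.symm, Multiset.mem_replicate, hu.symm]

theorem Dec.low_eq {n : ℕ} {Y : Matrix (Fin n) (Fin n) F} {l : List F[X]} (h : Dec Y l) :
    ∀ g ∈ l, ∀ g' ∈ l, g.natDegree = 2 → g'.natDegree = 2 → g = g' := by
  induction h with
  | one e c h =>
    intro g hg g' hg' _ _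
    rw [List.mem_singleton] at hg hg'
    rw [hg, hg']
  | step e c h' ha h ih =>
    intro g hg g' hg' hd hd'
    rcases List.mem_cons.1 hg with e1 | hg <;> rcases List.mem_cons.1 hg' with e2 | hg'
    · rw [e1, e2]
    · obtain ⟨-, -, h3⟩ := h'.mem_facts g' hg'
      rw [e1]; exact ((h3 _ ha).1 (charpoly_monic _) (by rw [← e1, hd, hd'])).symm
    · obtain ⟨-, -, h3⟩ := h'.mem_facts g hg
      rw [e2]; exact (h3 _ ha).1 (charpoly_monic _) (by rw [← e2, hd, hd'])
    · exact ih g hg g' hg' hd hd'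

theorem Dec.two_mul_length {n : ℕ} {Y : Matrix (Fin n) (Fin n) F} {l : List F[X]} (h : Dec Y l) :
    2 * l.length ≤ n := by
  induction h with
  | one e c h =>
    have := Fintype.card_congr e
    simp at this ⊢
    omega
  | step e c h' ha h ih =>
    have := Fintype.card_congr e
    simp at this ⊢
    omega

theorem Dec.top {n : ℕ} {Y : Matrix (Fin n) (Fin n) F} {f : F[X]} {l : List F[X]} (h : Dec Y (f :: l)) :
    ∃ (m d : ℕ) (e : Fin m ⊕ Fin (d + 2) ≃ Fin n) (Y' : Matrix (Fin m) (Fin m) F)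
      (c : Fin (d + 2) → F), (comp c).charpoly = f ∧
      Sim Y (Matrix.reindexAlgEquiv F F e (fromBlocks Y' 0 0 (comp c))) ∧
      aeval Y' f = 0 ∧ ((m = 0 ∧ l = []) ∨ Dec Y' l) := by
  cases h with
  | one e c h =>
    refine ⟨0, _, (Equiv.emptySum _ _).trans e, 0, c, rfl, ?_, Subsingleton.elim _ _, Or.inl ⟨rfl, rfl⟩⟩
    convert h using 1
    ext i j
    obtain ⟨i, rfl⟩ := e.surjective i
    obtain ⟨j, rfl⟩ := e.surjective j
    simp
  | step e c h' ha h => exact ⟨_, _, e, _, c, rfl, h, ha, Or.inr h'⟩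

theorem Dec.all_eq_of_head {n : ℕ} {Y : Matrix (Fin n) (Fin n) F} {f : F[X]} {l : List F[X]}
    (h : Dec Y (f :: l)) (hf : f.natDegree = 2) : ∀ g ∈ f :: l, g = f := by
  intro g hg
  rcases List.mem_cons.1 hg with hg' | hg'
  · exact hg'
  obtain ⟨m, d, e, Y', c, hc, -, hann, hrest⟩ := h.top
  rcases hrest with ⟨-, rfl⟩ | hrest
  · simp at hg'
  obtain ⟨-, h2, h3⟩ := hrest.mem_facts g hg'
  exact (h3 f hann).1 (hc ▸ charpoly_monic _) (by omega)

/-- Standard blocks and at least two of size two. -/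
theorem Dec.stdLow [Fintype F] [DecidableEq F] (h4 : 4 ≤ Fintype.card F) {α : F} (hα : α ≠ 0)
    {n : ℕ} {Y : Matrix (Fin n) (Fin n) F} {l : List F[X]} (h : Dec Y l)
    (hl : ∀ g ∈ l, g.coeff 0 ≠ 0)
    (hgood : ∀ g ∈ l, g = (X - C α) * (X - C α) ∨ 3 ≤ g.natDegree)
    (hcount : 2 ≤ (l.filter fun g => g.natDegree = 2).length) :
    ∃ s : Multiset F, GoodAll Y s Set.univ {α * α} ∧ (0 : F) ∉ s ∧
      ∀ x ∈ s, x = α * α ∨ ∃ g ∈ l, x = topF g (α * α) := by
  have hu : α * α ≠ 0 := mul_ne_zero hα hα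
  induction h with
  | one e c h =>
    have := List.length_filter_le (fun g : F[X] => decide (g.natDegree = 2)) [(comp c).charpoly]
    simp at this hcount
    omega
  | step e c h' ha h ih =>
    rename_i n m d Y Y' l
    set f := (comp c).charpoly with hf
    by_cases hf2 : f.natDegree = 2
    · have hall := (Dec.step e c h' ha h).all_eq_of_head hf2
      have hf' : f = (X - C α) * (X - C α) := (hgood f (List.mem_cons_self ..)).resolve_right (by omega)
      have hhalf := (Dec.step e c h' ha h).half (α := α) fun g hg => (hall g hg).trans hf'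
      obtain ⟨k, e', -⟩ := hhalf.standard
      have hcard := Fintype.card_congr e'
      have hlen := (Dec.step e c h' ha h).two_mul_length
      have := List.length_filter_le (fun g : F[X] => decide (g.natDegree = 2)) (f :: l)
      simp at hcard hlen this hcount
      refine ⟨_, fun a b ha hb => ((goodAll_stagger ⟨k, by omega⟩ (by omega) hα hhalf a b ha hb)).mono_spec
        fun x _ hx => Multiset.eq_of_mem_replicate hx, fun h0 =>
          hu (Multiset.eq_of_mem_replicate h0).symm, fun x hx => Or.inl (Multiset.eq_of_mem_replicate hx)⟩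
    · have hd3 : 3 ≤ f.natDegree := by
        rcases hgood f (List.mem_cons_self ..) with h' | h'
        · exfalso; apply hf2
          rw [h', natDegree_mul (X_sub_C_ne_zero α) (X_sub_C_ne_zero α), natDegree_X_sub_C]
        · exact h'
      have hf0 := hl f (List.mem_cons_self ..)
      obtain ⟨s, hG, hs, hx'⟩ := ih (fun g hg => hl g (List.mem_cons_of_mem _ hg))
        (fun g hg => hgood g (List.mem_cons_of_mem _ hg))
        (by rwa [List.filter_cons_of_neg (by simpa using hf2)] at hcount)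
      obtain ⟨a, b, hP⟩ := goodEx_piece (h3_of_card h4) c hf.symm hf0 hu (Or.inl hd3)
      have h1 := GoodAll.join_right hP hG hs (fun x _ _ h1 h2 => h1.2 h2) 0
      refine ⟨specF f (α * α) + s, ((h1.reindex ((Equiv.sumComm _ _).trans e)).of_sim ?_).mono
        (Set.subset_univ _) ?_, by simp [hs, zero_notMem_specF hf0 hu], fun x hx => ?_⟩
      · refine (h.trans ?_).symm
        rw [show Matrix.reindexAlgEquiv F F e (fromBlocks Y' 0 0 (comp c)) =
            Matrix.reindexAlgEquiv F F ((Equiv.sumComm _ _).trans e) (fromBlocks (comp c) 0 0 Y') by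
          ext i j
          obtain ⟨(i | i), rfl⟩ := e.surjective i <;> obtain ⟨(j | j), rfl⟩ := e.surjective j <;> simp]
        exact Sim.refl _
      · exact Set.union_subset Set.sdiff_subset Set.sdiff_subset
      · rcases Multiset.mem_add.1 hx with hx | hx
        · exact (mem_specF hx).elim (fun h => Or.inr ⟨f, List.mem_cons_self .., h⟩) Or.inl
        · exact (hx' x hx).imp_right fun ⟨g, hg, e⟩ => ⟨g, List.mem_cons_of_mem _ hg, e⟩

/-- Standard blocks and exactly one of size two, made special. -/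
theorem Dec.stdSpecial [Fintype F] [DecidableEq F] (h4 : 4 ≤ Fintype.card F) {α A : F} (hα : α ≠ 0)
    {n N : ℕ} {Y₀ : Matrix (Fin N) (Fin N) F} {Y : Matrix (Fin n) (Fin n) F} {l : List F[X]} (h : Dec Y l)
    (hl : ∀ g ∈ l, g.coeff 0 ≠ 0) (hA0 : A ≠ 0) (hA : ¬ InC Y₀ (α * α) A)
    (hB : spF ((X - C α) * (X - C α)) (α * α) A ≠ α * α ∧ spF ((X - C α) * (X - C α)) (α * α) A ≠ A ∧
      spF ((X - C α) * (X - C α)) (α * α) A ≠ 0)
    (hin : ∀ g ∈ l, InC Y₀ (α * α) (topF g (α * α)))
    (hgood : ∀ g ∈ l, g = (X - C α) * (X - C α) ∨ 3 ≤ g.natDegree)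
    (hcount : (l.filter fun g => g.natDegree = 2).length = 1) :
    ∃ (s : Multiset F) (R : Set F), GoodEx Y s R Set.univ ∧ α * α ∉ R ∧ (0 : F) ∉ s ∧ s.count A = 1 := by
  have hu : α * α ≠ 0 := mul_ne_zero hα hα
  have hAu : A ≠ α * α := fun e => hA (by rw [e]; exact inC_self hu)
  have h3 := h3_of_card h4
  induction h with
  | one e c h =>
    have hg := List.mem_singleton_self (comp c).charpoly
    have hc : (comp c).charpoly = (X - C α) * (X - C α) := (hgood _ hg).resolve_right (by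
      intro hcon
      rw [List.filter_cons_of_neg (by simp only [decide_eq_true_eq]; omega)] at hcount
      simp at hcount)
    obtain ⟨R, hG, hR⟩ := goodEx_special h3 c rfl (hl _ hg) hA0 hu hAu (by rw [hc]; exact hB.1)
      (Or.inr (by rw [hc]; exact hB.2.1))
    refine ⟨_, R, (hG.reindex e).of_sim h.symm, hR, zero_notMem_special hA0 hu ?_ _, count_special ?_ hAu⟩
    · rw [hc]; exact hB.2.2
    · rw [hc]; exact hB.2.1
  | step e c h' ha h ih =>
    rename_i n m d Y Y' l
    set f := (comp c).charpoly with hf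
    have hd3 : 3 ≤ f.natDegree := by
      by_contra hlt
      have hf2 : f.natDegree = 2 := by
        have := ((Dec.step e c h' ha h).mem_facts f (List.mem_cons_self ..)).2.1
        omega
      have hall := (Dec.step e c h' ha h).all_eq_of_head hf2
      rw [List.filter_eq_self.2 (fun g hg => by rw [decide_eq_true_eq, hall g hg, hf2])] at hcount
      simp at hcount
      exact h'.ne_nil hcount
    have hf0 := hl f (List.mem_cons_self ..)
    obtain ⟨s, R, hG, hR, hs, hc⟩ := ih (fun g hg => hl g (List.mem_cons_of_mem _ hg))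
      (fun g hg => hin g (List.mem_cons_of_mem _ hg))
      (fun g hg => hgood g (List.mem_cons_of_mem _ hg))
      (by rwa [List.filter_cons_of_neg (by simp; omega)] at hcount)
    have h1 := hG.join (goodEx_piece h3 c hf.symm hf0 hu (Or.inl hd3)) (zero_notMem_specF hf0 hu)
      (fun x _ _ h1 h2 => hR (h2.1 ▸ h1)) 0
    refine ⟨_, _, ((h1.mono subset_rfl (Set.subset_univ _)).reindex e).of_sim h.symm,
      fun h => h.elim hR (fun h => h.2 rfl), by simp [hs, zero_notMem_specF hf0 hu], ?_⟩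
    rw [Multiset.count_add, hc, count_zero_of_inC hA fun x hx => ?_]
    rcases mem_specF hx with e | e
    · exact e ▸ hin f (List.mem_cons_self ..)
    · rw [e]; exact inC_self hu

theorem cyclic_diag {a b : ℕ} (ha : 0 < a) (hb : 0 < b) {A B : F[X]} (hA : A.Monic) (hB : B.Monic)
    (hda : A.natDegree = a) (hdb : B.natDegree = b) (hco : IsCoprime A B) :
    Cyclic (Matrix.reindexAlgEquiv F F (finSumFinEquiv (m := b) (n := a))
      (fromBlocks (comp (colOf (d := b) B)) 0 0 (comp (colOf (d := a) A)))) := by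
  set e := finSumFinEquiv (m := b) (n := a)
  set v : Fin b ⊕ Fin a → F := Sum.elim (Pi.single ⟨0, hb⟩ 1) (Pi.single ⟨0, ha⟩ 1)
  refine cyclic_of_surj (v := v ∘ e.symm) fun w => ?_
  have reach : ∀ {d : ℕ} (hd : 0 < d) (c : Fin d → F) (w : Fin d → F),
      ∃ p : F[X], aeval (comp c) p *ᵥ Pi.single ⟨0, hd⟩ 1 = w := by
    intro d hd c w
    refine ⟨∑ i : Fin d, Polynomial.C (w i) * X ^ (i : ℕ), ?_⟩
    rw [map_sum, Matrix.sum_mulVec, Finset.sum_congr rfl (fun (i : Fin d) _ => show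
      aeval (comp c) (Polynomial.C (w i) * X ^ (i : ℕ)) *ᵥ Pi.single ⟨0, hd⟩ 1 = w i • Pi.single i 1 by
        rw [map_mul, map_pow, aeval_C, aeval_X, Algebra.algebraMap_eq_smul_one, smul_mul_assoc, one_mul,
          smul_mulVec, comp_pow_single hd _ i.2])]
    funext j
    simp [Pi.single_apply, Finset.sum_apply]
  obtain ⟨q₁, h1⟩ := reach hb (colOf (d := b) B) ((w ∘ e) ∘ Sum.inl)
  obtain ⟨q₂, h2⟩ := reach ha (colOf (d := a) A) ((w ∘ e) ∘ Sum.inr)
  obtain ⟨x, y, hxy⟩ := hco
  have hB0 := comp_annihilate hB hdb hb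
  have hA0 := comp_annihilate hA hda ha
  refine ⟨q₁ * (x * A) + q₂ * (y * B), funext fun i => ?_⟩
  rw [aeval_reindex, aeval_fromBlocks]
  have e1 : aeval (comp (colOf (d := b) B)) (q₁ * (x * A) + q₂ * (y * B)) =
      aeval (comp (colOf (d := b) B)) q₁ := by
    rw [show q₁ * (x * A) + q₂ * (y * B) = q₁ + (q₂ - q₁) * y * B by linear_combination q₁ * hxy,
      map_add, map_mul, hB0, mul_zero, add_zero]
  have e2 : aeval (comp (colOf (d := a) A)) (q₁ * (x * A) + q₂ * (y * B)) =
      aeval (comp (colOf (d := a) A)) q₂ := by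
    rw [show q₁ * (x * A) + q₂ * (y * B) = q₂ + (q₁ - q₂) * x * A by linear_combination q₂ * hxy,
      map_add, map_mul, hA0, mul_zero, add_zero]
  rw [e1, e2]
  obtain ⟨(i | i), rfl⟩ := e.surjective i
  · have := congrFun h1 i
    simp only [Function.comp_apply] at this
    rw [← this]
    simp only [mulVec, dotProduct]
    rw [← e.sum_comp, Fintype.sum_sum_type]
    simp [v, Pi.single_apply]
  · have := congrFun h2 i
    simp only [Function.comp_apply] at this
    rw [← this]
    simp only [mulVec, dotProduct]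
    rw [← e.sum_comp, Fintype.sum_sum_type]
    simp [v, Pi.single_apply]

theorem flex_comp_coprime [Fintype F] {d : ℕ} (c : Fin d → F) {A B : F[X]} (hA : A.Monic)
    (hB : B.Monic) (hAi : Irreducible A) (hB0 : 0 < B.natDegree) (hco : IsCoprime A B)
    (he : (comp c).charpoly = A * B) : Flex (comp c) := by
  have hd : d = B.natDegree + A.natDegree := by
    have := congrArg natDegree he
    rw [charpoly_natDegree_eq_dim, Fintype.card_fin, natDegree_mul hA.ne_zero hB.ne_zero] at this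
    omega
  subst hd
  have ha := hAi.natDegree_pos
  refine Flex.of_sim ((cyclic_diag ha hB0 hA hB rfl rfl hco).sim (cyclic_comp c) ?_)
    (Flex.reindex _ (flex_iff_scl.2 ((flex_iff_scl.1 (flex_comp_irreducible _ ?_)).right _)))
  · rw [Matrix.coe_reindexAlgEquiv, Matrix.charpoly_reindex, Matrix.charpoly_fromBlocks_zero₁₂,
      charpoly_comp hB rfl hB0, charpoly_comp hA rfl ha, he, mul_comm]
  · rw [charpoly_comp hA rfl ha]; exact hAi

/-- A quadratic piece with one value. -/
theorem goodEx_two_eq (c : Fin 2 → F) (h1 : c 1 ≠ 0) (h0 : c 0 ≠ 0) (h2 : (2 : F) ≠ 0) :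
    GoodEx (comp c) {c 0, c 0} (∅ : Set F) Set.univ := by
  let K : GL (Fin 2) F := mkGL !![0, c 0; 1, 0] (by simp [Matrix.det_fin_two, h0])
  let M : Matrix (Fin 2) (Fin 2) F := !![c 1, c 0; 1, 0]
  have hM : cj K (comp c) = M := by
    rw [cj_eq_iff]
    ext i j
    fin_cases i <;> fin_cases j <;> simp [K, M, comp, Matrix.mul_apply, Fin.sum_univ_two, mul_comm]
  refine ⟨_, _, 1, K, rfl, rfl, ?_, ?_, fun x _ => Set.mem_univ x⟩
  · rw [cj_one, hM]
    have hprod : comp c * M = !![c 0, 0; c 1 + c 1, c 0] := by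
      ext i j
      fin_cases i <;> fin_cases j <;> simp [M, comp, Matrix.mul_apply, Fin.sum_univ_two]
    have hlink : Linked (fun _ : Fin 2 => c 0) (comp c * M) := by
      rw [hprod]
      have hne : c 1 + c 1 ≠ 0 := by rw [← two_mul]; exact mul_ne_zero h2 h1
      refine ⟨fun i j hij => ?_, fun i => ?_, fun i j hij => ?_⟩
      · fin_cases i <;> fin_cases j <;> first | rfl | simp at hij
      · fin_cases i <;> rfl
      · fin_cases i <;> fin_cases j <;> first | exact hne | simp at hij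
    refine ⟨?_, fun x l l' hl0 e1 e2 => cyclic_left_eigen (hlink.cyclic fun _ _ _ _ _ _ => rfl) e1 e2 hl0⟩
    rw [hlink.charpoly_eq]
    simp [rpoly, Fin.prod_univ_two, sq]
  · rintro x ⟨v, hv0, hv, μ, hμ⟩
    rw [cj_one, hM] at hv
    rw [hM] at hμ
    exfalso
    have r0 := congrFun hv 0
    have r1 := congrFun hv 1
    simp [M, comp, Matrix.mul_apply, mulVec, dotProduct, Fin.sum_univ_two] at r0 r1
    have m0 := congrFun hμ 0
    have m1 := congrFun hμ 1
    simp [M, mulVec, dotProduct, Fin.sum_univ_two] at m0 m1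
    by_cases hv00 : v 0 = 0
    · rw [hv00] at m0
      simp [h0] at m0
      exact hv0 (funext fun i => by fin_cases i <;> simp [hv00, m0])
    · have hxc : x = c 0 := (r0.resolve_right hv00).symm
      rw [hxc] at r1
      have : (c 1 + c 1) * v 0 = 0 := by linear_combination r1
      rw [← two_mul] at this
      simp [h2, h1, hv00] at this

end CfsgLib.LevCover
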