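import Cfsg.Agent.Lib.LevCover.Base

/-!
# All blocks of size two with one eigenvalue
-/

set_option autoImplicit false

namespace CfsgLib.LevCover

open Matrix Polynomial Module

variable {F : Type*} [Field F] {ι κ : Type*} [Fintype ι] [DecidableEq ι] [Fintype κ] [DecidableEq κ]

/-- Square zero with kernel equal to image. -/
def Half (N : Matrix ι ι F) : Prop := N * N = 0 ∧ ∀ v, N *ᵥ v = 0 → ∃ w, N *ᵥ w = v

theorem Half.cj (g : GL ι F) {N : Matrix ι ι F} (h : Half N) : Half (CfsgLib.LevCover.cj g N) := by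
  refine ⟨by rw [← cj_mul, h.1]; simp [CfsgLib.LevCover.cj], fun v hv => ?_⟩
  obtain ⟨w, hw⟩ := h.2 (((g⁻¹ : GL ι F) : Matrix ι ι F) *ᵥ v) (by
    have := congrArg (fun u => ((g⁻¹ : GL ι F) : Matrix ι ι F) *ᵥ u) hv
    simpa [CfsgLib.LevCover.cj, mulVec_mulVec, ← mul_assoc, ← Units.val_mul] using this)
  refine ⟨(g : Matrix ι ι F) *ᵥ w, ?_⟩
  rw [mulVec_mulVec, ← (cj_eq_iff g N _).1 rfl, ← mulVec_mulVec, hw, mulVec_mulVec, ← Units.val_mul,
    mul_inv_cancel, Units.val_one, one_mulVec]

theorem Half.reindex (e : ι ≃ κ) {N : Matrix ι ι F} (h : Half N) :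
    Half (Matrix.reindexAlgEquiv F F e N) := by
  refine ⟨by rw [← map_mul, h.1, map_zero], fun v hv => ?_⟩
  obtain ⟨w, hw⟩ := h.2 (v ∘ e) (funext fun i => by
    have := congrFun hv (e i)
    simp only [mulVec, dotProduct, Matrix.reindexAlgEquiv_apply, Matrix.reindex_apply,
      Matrix.submatrix_apply] at this
    rw [← e.sum_comp] at this
    simpa [mulVec, dotProduct] using this)
  refine ⟨w ∘ e.symm, funext fun j => ?_⟩
  have := congrFun hw (e.symm j)
  simp only [mulVec, dotProduct, Matrix.reindexAlgEquiv_apply, Matrix.reindex_apply,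
    Matrix.submatrix_apply, Function.comp_apply] at this ⊢
  rw [← e.sum_comp]
  simpa using this

theorem Half.blocks {A : Matrix ι ι F} {D : Matrix κ κ F} (hA : Half A) (hD : Half D) :
    Half (fromBlocks A 0 0 D) := by
  refine ⟨by rw [fromBlocks_multiply, ← fromBlocks_zero]; simp [hA.1, hD.1], fun v hv => ?_⟩
  rw [fromBlocks_mulVec] at hv
  obtain ⟨w₁, h1⟩ := hA.2 (v ∘ Sum.inl) (funext fun i => by simpa using congrFun hv (Sum.inl i))
  obtain ⟨w₂, h2⟩ := hD.2 (v ∘ Sum.inr) (funext fun i => by simpa using congrFun hv (Sum.inr i))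
  refine ⟨Sum.elim w₁ w₂, ?_⟩
  rw [fromBlocks_mulVec]
  ext (i | i)
  · simpa using congrFun h1 i
  · simpa using congrFun h2 i

theorem half_comp {c : Fin 2 → F} {α : F} (h : (comp c).charpoly = (X - C α) * (X - C α)) :
    Half (comp c - α • 1) := by
  have hN : aeval (comp c) (X - C α) = comp c - α • 1 := by
    simp [Algebra.algebraMap_eq_smul_one]
  have h0 := Matrix.aeval_self_charpoly (comp c)
  rw [h, map_mul, hN] at h0
  refine ⟨h0, fun v hv => ?_⟩
  have hne : comp c - α • 1 ≠ 0 := fun h1 => by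
    have := congrFun (congrFun h1 1) 0
    simp [comp] at this
  have e0 := congrFun hv 0
  have e1 := congrFun hv 1
  simp [mulVec, dotProduct, Fin.sum_univ_two, comp, Matrix.one_apply] at e0 e1
  have q : comp c - α • 1 = !![-α, c 0; 1, c 1 - α] := by
    ext i j
    fin_cases i <;> fin_cases j <;> simp [comp]
  refine ⟨Pi.single 0 (v 1), ?_⟩
  rw [q]
  funext i
  fin_cases i
  · simp [mulVec, dotProduct, Fin.sum_univ_two]
    have h00 := congrFun (congrFun h0 1) 0
    rw [q] at h00
    simp [Matrix.mul_apply, Fin.sum_univ_two] at h00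
    linear_combination (v 1) * h00 - e1
  · simp [mulVec, dotProduct, Fin.sum_univ_two]

theorem Dec.half {n : ℕ} {Y : Matrix (Fin n) (Fin n) F} {l : List F[X]} (h : Dec Y l) {α : F}
    (hl : ∀ g ∈ l, g = (X - C α) * (X - C α)) : Half (Y - α • 1) := by
  have tr : ∀ {ι : Type} [Fintype ι] [DecidableEq ι] (g : GL ι F) (A : Matrix ι ι F),
      CfsgLib.LevCover.cj g A - α • 1 = CfsgLib.LevCover.cj g (A - α • 1) := fun g A => by
    simp [CfsgLib.LevCover.cj, mul_sub, sub_mul]
  induction h with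
  | one e c h =>
    rename_i k d Y
    have hd : d = 0 := by
      have := congrArg natDegree (hl _ (List.mem_singleton_self _))
      rw [charpoly_natDegree_eq_dim, Fintype.card_fin, natDegree_mul (X_sub_C_ne_zero α) (X_sub_C_ne_zero α),
        natDegree_X_sub_C] at this
      omega
    subst hd
    obtain ⟨g, rfl⟩ := h.symm
    rw [tr, show Matrix.reindexAlgEquiv F F e (comp c) - α • 1 =
      Matrix.reindexAlgEquiv F F e (comp c - α • 1) by rw [map_sub, map_smul, map_one]]
    exact ((half_comp (hl _ (List.mem_singleton_self _))).reindex e).cj g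
  | step e c h' ha h ih =>
    rename_i k m d Y Y' l
    have hd : d = 0 := by
      have := congrArg natDegree (hl _ (List.mem_cons_self ..))
      rw [charpoly_natDegree_eq_dim, Fintype.card_fin, natDegree_mul (X_sub_C_ne_zero α) (X_sub_C_ne_zero α),
        natDegree_X_sub_C] at this
      omega
    subst hd
    obtain ⟨g, rfl⟩ := h.symm
    rw [tr, show Matrix.reindexAlgEquiv F F e (fromBlocks Y' 0 0 (comp c)) - α • 1 =
      Matrix.reindexAlgEquiv F F e (fromBlocks (Y' - α • 1) 0 0 (comp c - α • 1)) by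
        rw [← map_one (Matrix.reindexAlgEquiv F F e), ← map_smul, ← map_sub]
        congr 1
        ext (i | i) (j | j) <;> simp [Matrix.one_apply]]
    exact (((ih fun g hg => hl g (List.mem_cons_of_mem _ hg)).blocks
      (half_comp (hl _ (List.mem_cons_self ..)))).reindex e).cj g

theorem Half.standard {n : ℕ} {N : Matrix (Fin n) (Fin n) F} (h : Half N) :
    ∃ (k : ℕ) (e : Fin k ⊕ Fin k ≃ Fin n),
      Sim (Matrix.reindexAlgEquiv F F e (fromBlocks 0 0 1 0)) N := by
  set K := LinearMap.ker (Matrix.toLin' N)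
  obtain ⟨W, hW⟩ := K.exists_isCompl
  let b := Module.finBasis F W
  set k := finrank F W
  let P₁ : Matrix (Fin n) (Fin k) F := Matrix.of fun i j => (b j : Fin n → F) i
  have hinj : ∀ a : Fin k → F, (N * P₁) *ᵥ a = 0 → a = 0 := by
    intro a ha
    let w : W := ∑ j, a j • b j
    have hw : (w : Fin n → F) = P₁ *ᵥ a := by
      funext i; simp [w, P₁, mulVec, dotProduct, Finset.sum_apply, mul_comm]
    have hK : (w : Fin n → F) ∈ K := by
      rw [LinearMap.mem_ker, Matrix.toLin'_apply, hw, mulVec_mulVec, ha]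
    have h0 : (w : Fin n → F) = 0 := (Submodule.mem_bot _).1
      (hW.disjoint.le_bot ⟨hK, w.2⟩)
    exact funext fun j => Fintype.linearIndependent_iff.1 b.linearIndependent a (Subtype.ext h0) j
  have hdim : k + k = n := by
    have h1 := Submodule.finrank_add_eq_of_isCompl hW
    have h2 := LinearMap.finrank_range_add_finrank_ker (Matrix.toLin' N)
    have h3 : LinearMap.range (Matrix.toLin' N) = K := by
      refine le_antisymm ?_ fun v hv => ?_
      · rintro _ ⟨v, rfl⟩
        rw [LinearMap.mem_ker, Matrix.toLin'_apply, Matrix.toLin'_apply, mulVec_mulVec, h.1, zero_mulVec]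
      · obtain ⟨w, hw⟩ := h.2 v (by rwa [LinearMap.mem_ker, Matrix.toLin'_apply] at hv)
        exact ⟨w, by rw [Matrix.toLin'_apply, hw]⟩
    rw [h3, finrank_fin_fun] at h2
    rw [finrank_fin_fun] at h1
    simp only [K, k] at h1 h2 ⊢
    omega
  let e : Fin k ⊕ Fin k ≃ Fin n := finSumFinEquiv.trans (finCongr hdim)
  let P := (fromCols P₁ (N * P₁)).submatrix id e.symm
  have hP : P.det ≠ 0 := by
    intro h0
    obtain ⟨v, hv0, hv⟩ := Matrix.exists_mulVec_eq_zero_iff.2 h0
    set a : Fin k → F := fun j => v (e (Sum.inl j))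
    set a' : Fin k → F := fun j => v (e (Sum.inr j))
    have hsum : P₁ *ᵥ a + (N * P₁) *ᵥ a' = 0 := by
      funext i
      have := congrFun hv i
      simp only [mulVec, dotProduct, P, Matrix.submatrix_apply, id] at this
      rw [← e.sum_comp, Fintype.sum_sum_type] at this
      simpa [a, a', mulVec, dotProduct] using this
    have ha : a = 0 := hinj a (by
      have := congrArg (fun u => N *ᵥ u) hsum
      simpa [mulVec_add, mulVec_mulVec, ← Matrix.mul_assoc, h.1] using this)
    rw [ha, mulVec_zero, zero_add] at hsum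
    refine hv0 (funext fun i => ?_)
    obtain ⟨(j | j), rfl⟩ := e.surjective i
    · exact congrFun ha j
    · exact congrFun (hinj a' hsum) j
  refine ⟨k, e, sim_of_mul_eq hP ?_⟩
  let C : Matrix (Fin n) (Fin k ⊕ Fin k) F := fromCols P₁ (N * P₁)
  let B : Matrix (Fin k ⊕ Fin k) (Fin k ⊕ Fin k) F :=
    fromBlocks (0 : Matrix (Fin k) (Fin k) F) (0 : Matrix (Fin k) (Fin k) F)
      (1 : Matrix (Fin k) (Fin k) F) (0 : Matrix (Fin k) (Fin k) F)
  have hblk : C * B = N * C := by
    simp only [C, B]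
    rw [Matrix.fromCols_mul_fromBlocks, Matrix.mul_fromCols, ← Matrix.mul_assoc N N, h.1]
    simp
  show C.submatrix id e.symm * B.submatrix e.symm e.symm = N * C.submatrix id e.symm
  rw [Matrix.submatrix_mul_equiv, hblk, ← Matrix.submatrix_mul_equiv _ _ id (Equiv.refl _) e.symm]
  rfl

theorem Half.sim {n : ℕ} {N N' : Matrix (Fin n) (Fin n) F} (h : Half N) (h' : Half N') : Sim N N' := by
  obtain ⟨k, e, hk⟩ := h.standard
  obtain ⟨k', e', hk'⟩ := h'.standard
  obtain rfl : k = k' := by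
    have := Fintype.card_congr e
    have := Fintype.card_congr e'
    simp at *
    omega
  refine hk.symm.trans (Sim.trans ?_ hk')
  have hs := (sim_of_mul_eq (A := Matrix.reindexAlgEquiv F F e (fromBlocks (0 : Matrix (Fin k) (Fin k) F) 0 1 0))
    (B := Matrix.reindexAlgEquiv F F e' (fromBlocks (0 : Matrix (Fin k) (Fin k) F) 0 1 0))
    (P := (e'.symm.trans e).toPEquiv.toMatrix) ?_ ?_)
  · exact hs
  · rw [Matrix.det_permutation]
    rcases Int.units_eq_one_or (Equiv.Perm.sign (e'.symm.trans e)) with hs | hs <;> simp [hs]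
  · rw [PEquiv.toMatrix_toPEquiv_mul, PEquiv.mul_toMatrix_toPEquiv]
    ext i j
    simp

/-- The first pairing, with one free weight. -/
def pairA (n : ℕ) (w : F) : Matrix (Fin n) (Fin n) F :=
  Matrix.of fun i j => if (i : ℕ) = (j : ℕ) + 1 ∧ (j : ℕ) % 2 = 0 then (if (j : ℕ) = 0 then w else 1) else 0

/-- The second pairing, with one free weight. -/
def pairB (n : ℕ) (w : F) : Matrix (Fin n) (Fin n) F :=
  Matrix.of fun i j => if (i : ℕ) = (j : ℕ) + 1 ∧ (j : ℕ) % 2 = 1 then 1 else
    if (j : ℕ) = 0 ∧ (i : ℕ) + 1 = n then w else 0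

theorem half_pairing {n : ℕ} (src : Fin n → Prop) [DecidablePred src] (tgt : Fin n → Fin n)
    (hinj : ∀ j j', src j → src j' → tgt j = tgt j' → j = j')
    (hsrc : ∀ j, src j → ¬ src (tgt j)) (hall : ∀ i, ¬ src i → ∃ j, src j ∧ tgt j = i)
    (wt : Fin n → F) (hw : ∀ j, wt j ≠ 0) (N : Matrix (Fin n) (Fin n) F)
    (hN : ∀ i j, N i j = if src j ∧ tgt j = i then wt j else 0) : Half N := by
  refine ⟨?_, fun v hv => ?_⟩
  · ext i j
    rw [Matrix.mul_apply]
    refine Finset.sum_eq_zero fun k _ => ?_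
    rw [hN, hN]
    by_cases h1 : src k ∧ tgt k = i
    · by_cases h2 : src j ∧ tgt j = k
      · exact absurd (h2.2 ▸ h1.1) (hsrc j h2.1)
      · simp [h2]
    · simp [h1]
  · choose pre hpre using hall
    refine ⟨fun j => if h : src j then v (tgt j) / wt j else 0, funext fun i => ?_⟩
    by_cases hi : src i
    · have h0 := congrFun hv (tgt i)
      simp only [mulVec, dotProduct, hN, Pi.zero_apply] at h0
      rw [Finset.sum_eq_single i] at h0
      · rw [if_pos ⟨hi, rfl⟩, mul_eq_zero, or_iff_right (hw i)] at h0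
        simp only [mulVec, dotProduct, hN]
        rw [h0]
        refine Finset.sum_eq_zero fun j _ => ?_
        rw [if_neg, zero_mul]
        rintro ⟨h1, h2⟩
        exact hsrc j h1 (h2 ▸ hi)
      · intro b _ hb
        rw [if_neg, zero_mul]
        rintro ⟨h1, h2⟩
        exact hb (hinj b i h1 hi h2)
      · simp
    · obtain ⟨h1, h2⟩ := hpre i hi
      simp only [mulVec, dotProduct, hN]
      rw [Finset.sum_eq_single (pre i hi)]
      · rw [if_pos ⟨h1, h2⟩, dif_pos h1, h2, mul_div_cancel₀ _ (hw _)]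
      · intro b _ hb
        rw [if_neg, zero_mul]
        rintro ⟨h3, h4⟩
        exact hb (hinj b _ h3 h1 (h4.trans h2.symm))
      · simp

theorem half_pairA {n : ℕ} (hn : 2 ∣ n) {w : F} (hw : w ≠ 0) : Half (pairA n w) := by
  obtain ⟨k, rfl⟩ := hn
  refine half_pairing (fun j => (j : ℕ) % 2 = 0)
    (fun j => if h : (j : ℕ) + 1 < 2 * k then ⟨(j : ℕ) + 1, h⟩ else j) ?_ ?_ ?_
    (fun j => if (j : ℕ) = 0 then w else 1) (fun j => by split_ifs <;> simp [hw]) _ fun i j => ?_
  · intro j j' hj hj' h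
    rw [dif_pos (by omega), dif_pos (by omega)] at h
    simpa [Fin.ext_iff] using h
  · intro j hj
    rw [dif_pos (by omega)]
    simp
    omega
  · intro i hi
    refine ⟨⟨(i : ℕ) - 1, by omega⟩, by simp; omega, ?_⟩
    rw [dif_pos (by simp; omega)]
    ext; simp; omega
  · simp only [pairA, Matrix.of_apply]
    by_cases h : (j : ℕ) % 2 = 0
    · rw [dif_pos (by omega)]
      simp [h, Fin.ext_iff, eq_comm]
    · simp [h]

theorem half_pairB {n : ℕ} (hn : 2 ∣ n) (hn4 : 4 ≤ n) {w : F} (hw : w ≠ 0) : Half (pairB n w) := by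
  obtain ⟨k, rfl⟩ := hn
  refine half_pairing (fun j => (j : ℕ) = 0 ∨ ((j : ℕ) % 2 = 1 ∧ (j : ℕ) + 1 < 2 * k))
    (fun j => if h : (j : ℕ) % 2 = 1 ∧ (j : ℕ) + 1 < 2 * k then ⟨(j : ℕ) + 1, h.2⟩ else ⟨2 * k - 1, by omega⟩)
    ?_ ?_ ?_ (fun j => if (j : ℕ) = 0 then w else 1) (fun j => by split_ifs <;> simp [hw]) _ fun i j => ?_
  · intro j j' hj hj' h
    split_ifs at h <;> simp [Fin.ext_iff] at h <;> ext <;> omega
  · intro j hj
    split_ifs with h <;> simp <;> omega
  · intro i hi
    by_cases h : (i : ℕ) + 1 = 2 * k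
    · refine ⟨⟨0, by omega⟩, Or.inl rfl, ?_⟩
      rw [dif_neg (by simp)]
      ext; simp; omega
    · refine ⟨⟨(i : ℕ) - 1, by omega⟩, Or.inr (by simp; omega), ?_⟩
      rw [dif_pos (by simp; omega)]
      ext; simp; omega
  · simp only [pairB, Matrix.of_apply]
    have := i.2
    have := j.2
    by_cases h : (j : ℕ) % 2 = 1 ∧ (j : ℕ) + 1 < 2 * k
    · rw [dif_pos h]
      simp only [Fin.ext_iff]
      split_ifs <;> first | rfl | (exfalso; omega)
    · rw [dif_neg h]
      simp only [Fin.ext_iff]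
      split_ifs <;> first | rfl | (exfalso; omega)

/-- Scaling the first coordinate. -/
noncomputable def scale0 {n : ℕ} (w : F) (hw : w ≠ 0) : GL (Fin n) F :=
  mkGL (Matrix.diagonal fun i : Fin n => if (i : ℕ) = 0 then w else 1) (by
    rw [det_diagonal]
    exact Finset.prod_ne_zero_iff.2 fun i _ => by split_ifs <;> simp [hw])

theorem goodAll_stagger [Fintype F] {n : ℕ} {Y : Matrix (Fin n) (Fin n) F} (hn : 2 ∣ n) (hn4 : 4 ≤ n)
    {α : F} (hα : α ≠ 0) (hY : Half (Y - α • 1)) :
    GoodAll Y (Multiset.replicate n (α * α)) Set.univ Set.univ := by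
  intro a b ha hb
  have reach : ∀ (P : F → Matrix (Fin n) (Fin n) F), (∀ w, w ≠ 0 → Half (P w)) →
      (∀ w d : F, (hd : d ≠ 0) → cj (scale0 d hd) (P w) = P (w / d)) → ∀ a : F, a ≠ 0 →
      ∃ g : GL (Fin n) F, ∃ w : F, w ≠ 0 ∧ (g : Matrix (Fin n) (Fin n) F).det = a ∧
        cj g Y = α • 1 + α • P w := by
    intro P hP hs a ha
    have hhalf : Half (α • P 1) := by
      obtain ⟨h1, h2⟩ := hP 1 one_ne_zero
      refine ⟨by rw [Matrix.smul_mul, Matrix.mul_smul, h1, smul_zero, smul_zero], fun v hv => ?_⟩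
      rw [smul_mulVec, smul_eq_zero] at hv
      obtain ⟨w, hw⟩ := h2 v (hv.resolve_left hα)
      exact ⟨α⁻¹ • w, by rw [smul_mulVec, mulVec_smul, smul_smul, mul_inv_cancel₀ hα, one_smul, hw]⟩
    obtain ⟨g, hg⟩ := hY.sim hhalf
    have hne := gl_det_ne_zero g
    have hd0 : a / (g : Matrix (Fin n) (Fin n) F).det ≠ 0 := div_ne_zero ha hne
    have hg' : cj g Y = α • 1 + α • P 1 := by
      rw [← hg]; simp [cj, mul_sub, sub_mul]
    refine ⟨scale0 _ hd0 * g, 1 / (a / (g : Matrix (Fin n) (Fin n) F).det), one_div_ne_zero hd0, ?_, ?_⟩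
    · rw [Units.val_mul, det_mul, scale0, coe_mkGL, det_diagonal, Finset.prod_eq_single ⟨0, by omega⟩]
      · simp [div_mul_cancel₀ _ hne]
      · intro i _ hi
        rw [if_neg fun e => hi (Fin.ext e)]
      · simp
    · rw [← cj_cj, hg', ← hs 1 _ hd0]
      simp [cj, mul_add, add_mul]
  have hsA : ∀ w d : F, (hd : d ≠ 0) → cj (scale0 (n := n) d hd) (pairA n w) = pairA n (w / d) := by
    intro w d hd
    rw [cj_eq_iff, scale0, coe_mkGL]
    ext i j
    rw [diagonal_mul, mul_diagonal]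
    simp only [pairA, Matrix.of_apply]
    by_cases h : (i : ℕ) = (j : ℕ) + 1 ∧ (j : ℕ) % 2 = 0
    · rw [if_pos h, if_pos h, if_neg (show (i : ℕ) ≠ 0 by omega)]
      split_ifs <;> simp [hd]
    · simp [h]
  have hsB : ∀ w d : F, (hd : d ≠ 0) → cj (scale0 (n := n) d hd) (pairB n w) = pairB n (w / d) := by
    intro w d hd
    rw [cj_eq_iff, scale0, coe_mkGL]
    ext i j
    rw [diagonal_mul, mul_diagonal]
    simp only [pairB, Matrix.of_apply]
    by_cases h : (i : ℕ) = (j : ℕ) + 1 ∧ (j : ℕ) % 2 = 1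
    · rw [if_pos h, if_pos h, if_neg (show (i : ℕ) ≠ 0 by omega), if_neg (show (j : ℕ) ≠ 0 by omega)]
    · rw [if_neg h, if_neg h]
      by_cases h' : (j : ℕ) = 0 ∧ (i : ℕ) + 1 = n
      · rw [if_pos h', if_pos h', if_pos h'.1, if_neg (show (i : ℕ) ≠ 0 by omega)]
        simp [hd]
      · simp [h']
  obtain ⟨g, w, hw, hga, hgY⟩ := reach (pairA n) (fun w hw => half_pairA hn hw) hsA a ha
  obtain ⟨h, w', hw', hhb, hhY⟩ := reach (pairB n) (fun w hw => half_pairB hn hn4 hw) hsB b hb
  refine ⟨g, h, hga, hhb, ?_, fun _ _ => Set.mem_univ _, fun _ _ => Set.mem_univ _⟩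
  rw [hgY, hhY]
  set P := (α • (1 : Matrix (Fin n) (Fin n) F) + α • pairA n w) * (α • 1 + α • pairB n w')
  have hP : P = (α * α) • (1 + pairA n w + pairB n w' + pairA n w * pairB n w') := by
    simp only [P, Matrix.add_mul, Matrix.mul_add, Matrix.smul_mul, Matrix.mul_smul, smul_smul,
      Matrix.one_mul, Matrix.mul_one]
    module
  have hAB : ∀ i j : Fin n, (i : ℕ) ≤ (j : ℕ) + 1 → (pairA n w * pairB n w') i j = 0 := by
    intro i j hij
    rw [Matrix.mul_apply]
    refine Finset.sum_eq_zero fun k _ => ?_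
    simp only [pairA, pairB, Matrix.of_apply]
    split_ifs <;> first | (simp; done) | (exfalso; omega)
  have hL : Linked (fun _ => α * α) P := by
    refine ⟨fun i j hij => ?_, fun i => ?_, fun i j hij => ?_⟩
    · rw [Fin.lt_def] at hij
      rw [hP, Matrix.smul_apply, Matrix.add_apply, hAB i j (by omega)]
      simp only [Matrix.add_apply, pairA, pairB, Matrix.of_apply,
        Matrix.one_apply_ne (show i ≠ j from fun e => by rw [e] at hij; omega)]
      split_ifs <;> first | (simp; done) | (exfalso; omega)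
    · rw [hP, Matrix.smul_apply, Matrix.add_apply, hAB i i (by omega)]
      simp only [Matrix.add_apply, pairA, pairB, Matrix.of_apply, Matrix.one_apply_eq]
      split_ifs <;> first | (simp; done) | (exfalso; omega)
    · rw [hP, Matrix.smul_apply, Matrix.add_apply, hAB i j (by omega)]
      simp only [Matrix.add_apply, pairA, pairB, Matrix.of_apply,
        Matrix.one_apply_ne (show i ≠ j from fun e => by rw [e] at hij; omega)]
      split_ifs <;> first | (simp [hα, hw]; done) | (exfalso; omega)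
  exact ⟨by rw [hL.charpoly_eq]; simp [rpoly],
    fun x l l' h0 h1 h2 => cyclic_left_eigen (hL.cyclic fun _ _ _ _ _ _ => rfl) h1 h2 h0⟩

end CfsgLib.LevCover
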