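import Cfsg.Agent.Lib.LevCover.Zero

/-!
# Products of conjugates without a common eigenvector
-/

set_option autoImplicit false

namespace CfsgLib.LevCover

open Matrix Polynomial

variable {F : Type*} [Field F]

theorem Sim.transpose {ι : Type*} [Fintype ι] [DecidableEq ι] {A B : Matrix ι ι F} (h : Sim A B) :
    Sim Aᵀ Bᵀ := by
  obtain ⟨g, rfl⟩ := h
  refine (sim_of_mul_eq (P := (g : Matrix ι ι F)ᵀ) (by rw [det_transpose]; exact gl_det_ne_zero g) ?_).symm
  rw [← Matrix.transpose_mul, ← Matrix.transpose_mul]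
  congr 1
  simp [cj, mul_assoc]

theorem Cyclic.transpose {d : ℕ} {M : Matrix (Fin d) (Fin d) F} (h : Cyclic M) : Cyclic Mᵀ := by
  obtain ⟨v, hv⟩ := h
  obtain ⟨x, hx⟩ := exists_min_vector Mᵀ
  refine ⟨x, fun h0 => ?_⟩
  obtain ⟨a, ha0, ha⟩ := Matrix.exists_mulVec_eq_zero_iff.2 h0
  set p : F[X] := ∑ i : Fin d, C (a i) * X ^ (i : ℕ) with hp
  have key : ∀ (N : Matrix (Fin d) (Fin d) F) (w : Fin d → F), aeval N p *ᵥ w = krylov N w *ᵥ a := by
    intro N w
    funext k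
    rw [hp, map_sum, Matrix.sum_mulVec, Finset.sum_apply]
    conv_rhs => rw [mulVec, dotProduct]
    refine Finset.sum_congr rfl fun i _ => ?_
    rw [map_mul, map_pow, aeval_C, aeval_X, Algebra.algebraMap_eq_smul_one, smul_mul_assoc, one_mul,
      smul_mulVec, Pi.smul_apply, smul_eq_mul, mul_comm]
    rfl
  have tr : ∀ q : F[X], aeval Mᵀ q = (aeval M q)ᵀ := by
    intro q
    induction q using Polynomial.induction_on' with
    | add p q hp hq => rw [map_add, map_add, hp, hq, Matrix.transpose_add]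
    | monomial k c =>
      simp [aeval_monomial, Algebra.algebraMap_eq_smul_one, smul_mul_assoc, Matrix.transpose_pow]
  obtain ⟨t, ht⟩ := (hx p).1 (by rw [key]; exact ha)
  have h1 : aeval Mᵀ p = 0 := by rw [ht, map_mul, minpoly.aeval, zero_mul]
  rw [tr, Matrix.transpose_eq_zero] at h1
  exact hv (Matrix.exists_mulVec_eq_zero_iff.1 ⟨a, ha0, by rw [← key, h1, zero_mulVec]⟩)

theorem CycSpec.transpose {n : ℕ} {z : Fin n → F} {H : Matrix (Fin n) (Fin n) F} (h : CycSpec z H) :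
    CycSpec z Hᵀ := ⟨h.1.transpose, by rw [Matrix.charpoly_transpose, h.2]⟩

theorem Dec.sim_transpose {n : ℕ} {Y : Matrix (Fin n) (Fin n) F} {l : List F[X]} (h : Dec Y l) :
    Sim Y Yᵀ := by
  have hc : ∀ {d : ℕ} (c : Fin d → F), Sim (comp c) (comp c)ᵀ := fun c =>
    (cyclic_comp c).sim (cyclic_comp c).transpose (Matrix.charpoly_transpose _).symm
  induction h with
  | one e c h =>
    refine h.trans (((hc c).reindex e).trans ?_)
    have := h.symm.transpose
    rwa [Matrix.coe_reindexAlgEquiv, Matrix.transpose_reindex] at this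
  | step e c h' ha h ih =>
    refine h.trans (((sim_fromBlocks ih (hc c)).reindex e).trans ?_)
    have := h.symm.transpose
    simpa [Matrix.transpose_reindex, Matrix.fromBlocks_transpose] using this

/-- A matrix is similar to its transpose. -/
theorem sim_transpose {n : ℕ} (Y : Matrix (Fin n) (Fin n) F) : Sim Y Yᵀ := by
  by_cases hY : IsScal Y
  · obtain ⟨c, rfl⟩ := hY
    rw [Matrix.transpose_smul, Matrix.transpose_one]
    exact Sim.refl _
  obtain ⟨m, r, t, e, Y', l, hd, hs, -, -⟩ := exists_dec Y hY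
  refine hs.trans (((sim_fromBlocks hd.sim_transpose (Sim.refl (t • 1))).reindex e).trans ?_)
  have := hs.symm.transpose
  simpa [Matrix.transpose_reindex, Matrix.fromBlocks_transpose, Matrix.transpose_smul] using this

variable {n : ℕ}

/-- A product of `k` conjugates of `Y` with no common eigenvector for `x`. -/
def NCR (Y : Matrix (Fin n) (Fin n) F) (k : ℕ) (A : Matrix (Fin n) (Fin n) F) (x : F) : Prop :=
  ∃ X : Fin k → Matrix (Fin n) (Fin n) F, (∀ i, Sim Y (X i)) ∧ (List.ofFn X).prod = A ∧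
    ∀ v : Fin n → F, (∀ i, X i *ᵥ v = x • v) → v = 0

theorem NCR.gprod {Y A : Matrix (Fin n) (Fin n) F} {k : ℕ} {x : F} : NCR Y k A x → GProd Y k A := by
  rintro ⟨X, hX, rfl, -⟩
  choose g hg using hX
  exact ⟨g, by simp [hg]⟩

theorem NCR.of_sim {Y A B : Matrix (Fin n) (Fin n) F} {k : ℕ} {x : F} (h : Sim A B) :
    NCR Y k A x → NCR Y k B x := by
  obtain ⟨g, rfl⟩ := h
  rintro ⟨X, hX, rfl, hno⟩
  refine ⟨fun i => cj g (X i), fun i => (hX i).trans ⟨g, rfl⟩, ?_, fun v hv => ?_⟩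
  · rw [list_cj, List.map_ofFn]
    rfl
  · beta_reduce at hv
    have h0 := hno (((g⁻¹ : GL (Fin n) F) : Matrix (Fin n) (Fin n) F) *ᵥ v) fun i => by
      rw [← mulVec_smul, ← hv i, mulVec_mulVec, mulVec_mulVec, cj, ← mul_assoc, ← mul_assoc,
        ← Units.val_mul, inv_mul_cancel, Units.val_one, one_mul]
    rw [← mulVec_inv_cancel g v, h0, mulVec_zero]

theorem NCR.base_sim {Y Y' A : Matrix (Fin n) (Fin n) F} {k : ℕ} {x : F} (h : Sim Y Y') :
    NCR Y k A x → NCR Y' k A x :=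
  fun ⟨X, hX, h1, h2⟩ => ⟨X, fun i => h.symm.trans (hX i), h1, h2⟩

/-- Cyclic matrices of the spectrum are products of two conjugates. -/
def PairOK (Y : Matrix (Fin n) (Fin n) F) (z : Fin n → F) (x : F) : Prop :=
  ∀ H, CycSpec z H → ∃ X M, Sim Y X ∧ Sim Y M ∧ X * M = H ∧
    ((∀ i, z i = x * x) → ∀ v : Fin n → F, X *ᵥ v = x • v → M *ᵥ v = x • v → v = 0)

theorem exists_contig [Fintype F] {s : Multiset F} (hs : Multiset.card s = n) (x : F) :
    ∃ z : Fin n → F, Contig z ∧ (∀ i, z i = x → ∀ i₀ : Fin n, (i₀ : ℕ) = 0 → z i₀ = x) ∧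
      (∀ i, z i ∈ s) ∧ (∀ y ∈ s, ∃ i, z i = y) ∧ rpoly s = ∏ i, (Polynomial.X - C (z i)) := by
  classical
  let e := Fintype.equivFin F
  let ρ : F → ℕ := fun a => (Equiv.swap (e x) ⟨0, Fintype.card_pos⟩ (e a) : ℕ)
  have hinj : Function.Injective ρ := fun a b h =>
    e.injective ((Equiv.swap _ _).injective (Fin.ext h))
  letI : LinearOrder F := LinearOrder.lift' ρ hinj
  have hmin : ∀ a : F, x ≤ a := fun a => show ρ x ≤ ρ a by simp [ρ]
  set L := s.sort (fun a b : F => a ≤ b) with hL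
  have hlen : L.length = n := by rw [hL, Multiset.length_sort, hs]
  subst hlen
  have hmono : Monotone L.get := (Multiset.pairwise_sort _ _).sortedLE.monotone_get
  refine ⟨L.get, fun i j k hij hjk h => le_antisymm ((hmono hjk).trans h.ge) (hmono hij),
    fun i hi i₀ h0 => le_antisymm ?_ (hmin _), fun i => ?_, fun y hy => ?_, ?_⟩
  · exact hi ▸ hmono (show i₀ ≤ i by simp [Fin.le_def, h0])
  · exact (Multiset.mem_sort _).1 (List.get_mem ..)
  · exact List.get_of_mem ((Multiset.mem_sort _).2 hy)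
  · conv_lhs => rw [← Multiset.sort_eq s (fun a b : F => a ≤ b), ← hL]
    rw [rpoly, Multiset.map_coe, Multiset.prod_coe, ← List.prod_ofFn]
    congr 1
    conv_lhs => rw [← List.ofFn_get L, List.map_ofFn]
    rfl

/-- The pair property from a joined chain. -/
theorem pairOK_of_good {Y : Matrix (Fin n) (Fin n) F} {a b : F} {s : Multiset F} {R L : Set F}
    (h : Good Y a b s R L) {x : F} (hL : (∀ y ∈ s, y = x * x) → x * x ∉ L) {z : Fin n → F}
    (hz : ∀ y ∈ s, ∃ i, z i = y) (hzs : rpoly s = ∏ i, (Polynomial.X - C (z i))) : PairOK Y z x := by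
  obtain ⟨g, k, -, -, hZ, -, hLs⟩ := h
  set X₀ := cj g Y
  set M₀ := cj k Y
  have hspec : CycSpec z (X₀ * M₀) := ⟨cyclic_of_lcyc hZ, hZ.1.trans hzs⟩
  intro H hH
  by_cases hall : ∀ i, z i = x * x
  · have hsp : CycSpec z (M₀ᵀ * X₀ᵀ) := by rw [← Matrix.transpose_mul]; exact hspec.transpose
    obtain ⟨γ, rfl⟩ := hsp.sim hH
    refine ⟨cj γ M₀ᵀ, cj γ X₀ᵀ, ?_, ?_, (cj_mul ..).symm, fun _ v h1 h2 => ?_⟩
    · exact ((sim_transpose Y).trans (show Sim Y M₀ from ⟨k, rfl⟩).transpose).trans ⟨γ, rfl⟩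
    · exact ((sim_transpose Y).trans (show Sim Y X₀ from ⟨g, rfl⟩).transpose).trans ⟨γ, rfl⟩
    have back : ∀ M : Matrix (Fin n) (Fin n) F, cj γ M *ᵥ v = x • v →
        M *ᵥ (((γ⁻¹ : GL (Fin n) F) : Matrix (Fin n) (Fin n) F) *ᵥ v) =
          x • (((γ⁻¹ : GL (Fin n) F) : Matrix (Fin n) (Fin n) F) *ᵥ v) := fun M hM => by
      rw [← mulVec_smul, ← hM, mulVec_mulVec, mulVec_mulVec, cj, ← mul_assoc, ← mul_assoc,
        ← Units.val_mul, inv_mul_cancel, Units.val_one, one_mul]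
    have e1 := back _ h1
    have e2 := back _ h2
    set w := ((γ⁻¹ : GL (Fin n) F) : Matrix (Fin n) (Fin n) F) *ᵥ v
    rw [Matrix.mulVec_transpose] at e1 e2
    have hw : w = 0 := by
      by_contra hw
      refine hL (fun y hy => ?_) (hLs _ ⟨w, hw, ?_, x, e2⟩)
      · obtain ⟨i, rfl⟩ := hz y hy
        exact hall i
      · rw [← vecMul_vecMul, e2, smul_vecMul, e1, smul_smul]
    rw [← mulVec_inv_cancel γ v]
    exact (congrArg _ hw).trans (mulVec_zero _)
  · obtain ⟨γ, rfl⟩ := hspec.sim hH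
    exact ⟨cj γ X₀, cj γ M₀, ⟨γ * g, (cj_cj γ g Y).symm⟩, ⟨γ * k, (cj_cj γ k Y).symm⟩,
      (cj_mul ..).symm, fun h => absurd h hall⟩

/-- A conjugate that is no multiple. -/
theorem exists_cj_ne_smul {Y : Matrix (Fin n) (Fin n) F} (hY : ¬ IsScal Y) :
    ∃ g : GL (Fin n) F, (g : Matrix (Fin n) (Fin n) F).det = 1 ∧ ∀ ρ : F, cj g Y ≠ ρ • Y := by
  obtain ⟨v, hv, hne⟩ := exists_noneig hY
  obtain ⟨i, hi⟩ := Function.ne_iff.1 hv
  simp only [Pi.zero_apply] at hi
  obtain ⟨j, hj⟩ : ∃ j, v i * (Y *ᵥ v) j - v j * (Y *ᵥ v) i ≠ 0 := by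
    by_contra h
    push Not at h
    refine hne ((Y *ᵥ v) i / v i) (funext fun j => ?_)
    rw [Pi.smul_apply, smul_eq_mul, div_mul_eq_mul_div, eq_div_iff hi]
    linear_combination h j
  set w : Fin n → F := v i • Pi.single j 1 - v j • Pi.single i 1 with hw
  have hwv : w ⬝ᵥ v = 0 := by simp [hw, sub_dotProduct, mul_comm]
  have hwY : w ⬝ᵥ (Y *ᵥ v) ≠ 0 := by simpa [hw, sub_dotProduct] using hj
  have hdet : ((1 : Matrix (Fin n) (Fin n) F) + vecMulVec v w).det = 1 := by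
    rw [det_one_add_vvec, hwv, add_zero]
  refine ⟨mkGL _ (by rw [hdet]; exact one_ne_zero), hdet, fun ρ h => ?_⟩
  rw [cj_eq_iff, coe_mkGL] at h
  have e := congrArg (fun M => M *ᵥ v) h
  simp only [← mulVec_mulVec, smul_mulVec, add_mulVec, one_mulVec, vecMulVec_mulVec,
    op_smul_eq_smul, hwv, zero_smul, add_zero] at e
  apply hwY
  by_contra hc
  refine hne ((ρ - 1)⁻¹ * (w ⬝ᵥ (Y *ᵥ v))) ?_
  have e' : (ρ - 1) • (Y *ᵥ v) = (w ⬝ᵥ (Y *ᵥ v)) • v := by
    linear_combination (norm := module) -e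
  have hρ : ρ - 1 ≠ 0 := fun h0 => by
    rw [h0, zero_smul, eq_comm, smul_eq_zero] at e'
    exact e'.elim hc hv
  rw [← smul_smul, ← e', smul_smul, inv_mul_cancel₀ hρ, one_smul]

theorem exists_pads {Y A : Matrix (Fin n) (Fin n) F} (hY : ¬ IsScal Y) (hYd : Y.det ≠ 0)
    (hA : ¬ IsScal A) : ∀ j : ℕ, ∃ g : Fin j → GL (Fin n) F,
      (∀ i, (g i : Matrix (Fin n) (Fin n) F).det = 1) ∧
      ¬ IsScal (A * ((List.ofFn fun i => cj (g i) Y).prod)⁻¹)
  | 0 => ⟨Fin.elim0, fun i => i.elim0, by simpa using hA⟩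
  | j + 1 => by
    obtain ⟨g₁, hg₁, hne⟩ := exists_cj_ne_smul hY
    by_cases h1 : IsScal (A * (Y * Y ^ j)⁻¹)
    · refine ⟨Fin.cons g₁ fun _ => 1, fun i => by induction i using Fin.cases <;> simp [hg₁], fun h2 => ?_⟩
      simp only [List.ofFn_succ, Fin.cons_zero, Fin.cons_succ, cj_one, List.ofFn_const,
        List.prod_cons, List.prod_replicate] at h2
      obtain ⟨c, hc⟩ := h1
      obtain ⟨c', hc'⟩ := h2
      have hu : IsUnit (Y ^ j).det := by rw [det_pow]; exact (pow_ne_zero j hYd).isUnit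
      have hu1 : IsUnit (Y * Y ^ j).det := by rw [det_mul]; exact (hYd.isUnit).mul hu
      have hu2 : IsUnit (cj g₁ Y * Y ^ j).det := by rw [det_mul, cj_det]; exact (hYd.isUnit).mul hu
      have e1 := congrArg (· * (Y * Y ^ j)) hc
      have e2 := congrArg (· * (cj g₁ Y * Y ^ j)) hc'
      simp only [Matrix.smul_mul, one_mul, Matrix.nonsing_inv_mul_cancel_right _ _ hu1,
        Matrix.nonsing_inv_mul_cancel_right _ _ hu2] at e1 e2
      have hc0 : c' ≠ 0 := fun h0 => by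
        rw [h0, zero_smul] at e2
        exact hA ⟨0, by rw [e2, zero_smul]⟩
      apply hne (c'⁻¹ * c)
      have e3 : (c' • cj g₁ Y) * Y ^ j = (c • Y) * Y ^ j := by
        rw [Matrix.smul_mul, Matrix.smul_mul, ← e2, e1]
      have e4 := congrArg (· * (Y ^ j)⁻¹) e3
      simp only [Matrix.mul_nonsing_inv_cancel_right _ _ hu] at e4
      rw [← smul_smul, ← e4, smul_smul, inv_mul_cancel₀ hc0, one_smul]
    · refine ⟨fun _ => 1, fun _ => by simp, ?_⟩
      simp only [cj_one, List.ofFn_const, List.prod_replicate]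
      rwa [pow_succ']

theorem exists_pairs [Fintype F] (h4 : 4 ≤ Fintype.card F) {m : ℕ} (hm : 1 ≤ m)
    {A : Matrix (Fin (m + 2)) (Fin (m + 2)) F} (hA : ¬ IsScal A) {z : Fin (m + 2) → F} (hz : Contig z)
    (hz0 : ∀ i, z i ≠ 0) (hdet : A.det = (∏ i, z i) * ∏ i, z i) {y : F} (hy : y ≠ 0)
    (hfirst : ∀ i, z i = y → z 0 = y) :
    ∃ H K, CycSpec z H ∧ CycSpec z K ∧ Sim A (H * K) ∧ ((∀ i, z i = y) ∨
      ∀ v : Fin (m + 2) → F, H *ᵥ v = y • v → K *ᵥ v = y • v → v = 0) := by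
  have h4' : 4 ≤ ENat.card F := by
    rw [ENat.card_eq_coe_fintype_card]; exact_mod_cast h4
  obtain ⟨H, K, hH, hK, hs, hc | hr | hl⟩ := two_class h4' (h3_of_card h4) hm hA hz hz0 hdet hy hfirst
  · exact ⟨H, K, hH, hK, hs, Or.inl hc⟩
  · exact ⟨H, K, hH, hK, hs, Or.inr hr⟩
  · refine ⟨Kᵀ, Hᵀ, hK.transpose, hH.transpose, ?_, Or.inr fun v h1 h2 => hl v ?_ ?_⟩
    · rw [← Matrix.transpose_mul]
      exact hs.trans (sim_transpose _)
    · rwa [Matrix.mulVec_transpose] at h2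
    · rwa [Matrix.mulVec_transpose] at h1

/-- Four or more conjugates. -/
theorem ncr_base [Fintype F] (h4 : 4 ≤ Fintype.card F) {m : ℕ} (hm : 1 ≤ m)
    {Y : Matrix (Fin (m + 2)) (Fin (m + 2)) F} (hY : ¬ IsScal Y) (hYd : Y.det ≠ 0) {a b : F}
    {s : Multiset F} {R L : Set F} (hG : Good Y a b s R L) (hs : (0 : F) ∉ s) {x : F} (hx : x ≠ 0)
    (hL : (∀ y ∈ s, y = x * x) → x * x ∉ L) (j : ℕ) {A : Matrix (Fin (m + 2)) (Fin (m + 2)) F}
    (hA : ¬ IsScal A) (hdet : A.det = Y.det ^ (j + 4)) : NCR Y (j + 4) A x := by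
  obtain ⟨g, k, hg, hk, hZ, -, -⟩ := id hG
  obtain ⟨z, hzc, hzf, hzm, hzall, hzs⟩ := exists_contig hZ.card (x * x)
  have hpair := pairOK_of_good hG hL hzall hzs
  have hzprod : ∏ i, z i = Y.det ^ 2 := by
    have h1 : CycSpec z (cj g Y * cj k Y) := ⟨cyclic_of_lcyc hZ, hZ.1.trans hzs⟩
    rw [← h1.det_eq, det_mul, cj_det, cj_det, pow_two]
  obtain ⟨gp, hgp, hB⟩ := exists_pads hY hYd hA j
  set Q := (List.ofFn fun i => cj (gp i) Y).prod with hQ
  have hQd : Q.det = Y.det ^ j := GProd.det ⟨gp, rfl⟩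
  have hQu : IsUnit Q.det := by rw [hQd]; exact (pow_ne_zero _ hYd).isUnit
  obtain ⟨H, K, hH, hK, ⟨γ, hγ⟩, hno⟩ := exists_pairs h4 hm hB hzc (fun i h0 => hs (h0 ▸ hzm i))
    (by rw [det_mul, det_nonsing_inv, hQd, Ring.inverse_eq_inv', hdet, hzprod, pow_add,
          mul_comm (Y.det ^ j), mul_inv_cancel_right₀ (pow_ne_zero _ hYd)]; ring)
    (mul_ne_zero hx hx) fun i hi => hzf i hi 0 rfl
  obtain ⟨X₁, M₁, hX₁, hM₁, e₁, n₁⟩ := hpair H hH
  obtain ⟨X₂, M₂, hX₂, hM₂, e₂, -⟩ := hpair K hK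
  have key : NCR Y (j + 4) (cj γ A) x := by
    refine ⟨Fin.cons X₁ (Fin.cons M₁ (Fin.cons X₂ (Fin.cons M₂ fun i => cj γ (cj (gp i) Y)))),
      fun i => ?_, ?_, fun v hv => ?_⟩
    · refine Fin.cases hX₁ (fun i => Fin.cases hM₁ (fun i => Fin.cases hX₂ (fun i => Fin.cases hM₂
        (fun i => ?_) i) i) i) i
      simp only [Fin.cons_succ]
      exact ⟨γ * gp i, (cj_cj ..).symm⟩
    · simp only [List.ofFn_succ, Fin.cons_zero, Fin.cons_succ, List.prod_cons]
      rw [show (List.ofFn fun i => cj γ (cj (gp i) Y)).prod = cj γ Q by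
          rw [hQ, list_cj, List.map_ofFn]; rfl,
        ← mul_assoc X₂, e₂, ← mul_assoc X₁, e₁, ← mul_assoc, ← hγ, ← cj_mul,
        Matrix.nonsing_inv_mul_cancel_right _ _ hQu]
    · have v1 : X₁ *ᵥ v = x • v := by simpa using hv 0
      have v2 : M₁ *ᵥ v = x • v := by simpa using hv (Fin.succ 0)
      have v3 : X₂ *ᵥ v = x • v := by
        simpa only [Fin.cons_succ, Fin.cons_zero] using hv (Fin.succ (Fin.succ 0))
      have v4 : M₂ *ᵥ v = x • v := by
        simpa only [Fin.cons_succ, Fin.cons_zero] using hv (Fin.succ (Fin.succ (Fin.succ 0)))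
      rcases hno with hall | hno
      · exact n₁ hall v v1 v2
      · refine hno v ?_ ?_
        · rw [← e₁, ← mulVec_mulVec, v2, mulVec_smul, v1, smul_smul]
        · rw [← e₂, ← mulVec_mulVec, v4, mulVec_smul, v3, smul_smul]
  exact key.of_sim (Sim.symm ⟨γ, rfl⟩)

theorem hd_inj {a a' : F} {r r' c c' : Fin n → F} {A A' : Matrix (Fin n) (Fin n) F}
    (h : hd a r c A = hd a' r' c' A') : a = a' ∧ r = r' ∧ c = c' ∧ A = A' :=
  blk_inj ((Matrix.reindexAlgEquiv F F (headEquiv n)).injective h)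

theorem det_hd_upper (a : F) (r : Fin n → F) (A : Matrix (Fin n) (Fin n) F) :
    (hd a r 0 A).det = a * A.det := by
  rw [hd, Matrix.det_reindexAlgEquiv, det_blk_upper]

/-- The rows of products of upper factors. -/
theorem exists_row_map {x : F} (hx : x ≠ 0) : ∀ {k : ℕ} (P : Fin k → Matrix (Fin n) (Fin n) F),
    (∀ v, (∀ i, P i *ᵥ v = x • v) → (List.ofFn P).prod *ᵥ v = x ^ k • v) ∧
    ∃ Φ : (Fin k → Fin n → F) →ₗ[F] (Fin n → F),
      (∀ y, (List.ofFn fun i => hd x (y i ᵥ* (P i - x • 1)) 0 (P i)).prod =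
        hd (x ^ k) (Φ y) 0 (List.ofFn P).prod) ∧
      ∀ v, (∀ y, Φ y ⬝ᵥ v = 0) → ∀ i, P i *ᵥ v = x • v := by
  intro k
  induction k with
  | zero =>
    intro P
    refine ⟨fun v _ => by simp, 0, fun y => ?_, fun v _ i => i.elim0⟩
    simp only [List.ofFn_zero, List.prod_nil, LinearMap.zero_apply, pow_zero, hd, blk_one, map_one]
  | succ k ih =>
    intro P
    obtain ⟨hQv, Φ, hΦ, hker⟩ := ih fun i => P i.succ
    set Q := (List.ofFn fun i : Fin k => P i.succ).prod with hQ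
    refine ⟨fun v hv => ?_, ?_⟩
    · rw [List.ofFn_succ, List.prod_cons, ← hQ, ← mulVec_mulVec, hQv v fun i => hv i.succ,
        mulVec_smul, hv 0, smul_smul, pow_succ]
    let Φ' : (Fin (k + 1) → Fin n → F) →ₗ[F] (Fin n → F) :=
      { toFun := fun y => x • Φ (fun i => y i.succ) + y 0 ᵥ* ((P 0 - x • 1) * Q)
        map_add' := fun y y' => by
          simp only [Pi.add_apply, show (fun i : Fin k => y i.succ + y' i.succ) =
            (fun i => y i.succ) + fun i => y' i.succ from rfl, map_add, smul_add, Matrix.add_vecMul]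
          abel
        map_smul' := fun c y => by
          simp only [Pi.smul_apply, show (fun i : Fin k => c • y i.succ) =
            c • fun i => y i.succ from rfl, map_smul, Matrix.smul_vecMul, RingHom.id_apply, smul_add,
            smul_comm x c] }
    refine ⟨Φ', fun y => ?_, fun v hv => ?_⟩
    · rw [List.ofFn_succ, List.prod_cons, hΦ fun i => y i.succ, hd_mul]
      have hP : (List.ofFn P).prod = P 0 * Q := by rw [List.ofFn_succ, List.prod_cons]
      congr 1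
      · rw [dotProduct_zero, add_zero, pow_succ']
      · simp [Φ', vecMul_vecMul, hQ]
      · simp
      · simp [zero_vecMulVec, hP, hQ]
    have h1 : ∀ y, Φ y ⬝ᵥ v = 0 := fun y => by
      have := hv (Fin.cons 0 y)
      simpa [Φ', hx] using this
    have hsucc := hker v h1
    intro i
    induction i using Fin.cases with
    | succ i => exact hsucc i
    | zero =>
      have h0 : ((P 0 - x • 1) * Q) *ᵥ v = 0 := funext fun j => by
        have := hv (Fin.cons (Pi.single j 1) 0)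
        simp only [Φ', LinearMap.coe_mk, AddHom.coe_mk, Fin.cons_zero, Fin.cons_succ] at this
        rw [show (fun i : Fin k => (0 : Fin k → Fin n → F) i) = 0 from rfl, map_zero, smul_zero, zero_add,
          ← dotProduct_mulVec, single_dotProduct, one_mul] at this
        exact this
      rw [← mulVec_mulVec, hQv v hsucc, mulVec_smul, smul_eq_zero, or_iff_right (pow_ne_zero _ hx),
        sub_mulVec, smul_mulVec, one_mulVec, sub_eq_zero] at h0
      exact h0

theorem row_surj {k : ℕ} (Φ : (Fin k → Fin n → F) →ₗ[F] (Fin n → F))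
    (h : ∀ v, (∀ y, Φ y ⬝ᵥ v = 0) → v = 0) : Function.Surjective Φ := by
  rw [← LinearMap.range_eq_top]
  by_contra hne
  obtain ⟨f, hf, hfr⟩ := Submodule.exists_dual_map_eq_bot_of_lt_top (lt_top_iff_ne_top.2 hne) inferInstance
  refine hf (LinearMap.ext fun w => ?_)
  have key : ∀ w : Fin n → F, f w = w ⬝ᵥ fun i => f (Pi.single i 1) := fun w => by
    conv_lhs => rw [show w = ∑ i, w i • Pi.single i (1 : F) by ext j; simp [Pi.single_apply]]
    simp [dotProduct]
  have h0 := h (fun i => f (Pi.single i 1)) fun y => by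
    rw [← key]
    have : f (Φ y) ∈ Submodule.map f (LinearMap.range Φ) := ⟨Φ y, LinearMap.mem_range_self Φ y, rfl⟩
    simpa [hfr] using this
  rw [key, h0, dotProduct_zero, LinearMap.zero_apply]

theorem exists_quot {Y₁ A₁ : Matrix (Fin n) (Fin n) F} {r r' c c₀ : Fin n → F} {u : F}
    (hY : IsUnit (hd 0 r' c Y₁).det) (hc : u • c = c₀) :
    ∃ ρ M₁, hd 0 r' c Y₁ * hd u ρ 0 M₁ = hd 0 r c₀ A₁ := by
  set Y₀ := hd 0 r' c Y₁
  set A₀ := hd 0 r c₀ A₁
  obtain ⟨a, ρ, c', M₁, hM⟩ := exists_hd (Y₀⁻¹ * A₀)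
  have hmul : Y₀ * (Y₀⁻¹ * A₀) = A₀ := Matrix.mul_nonsing_inv_cancel_left _ _ hY
  have h1 : A₀ *ᵥ Fin.cons 1 0 = Y₀ *ᵥ Fin.cons u 0 := by
    simp [A₀, Y₀, hd_mulVec, ← hc]
  have h2 : (Y₀⁻¹ * A₀) *ᵥ Fin.cons 1 0 = Fin.cons u 0 := by
    rw [← mulVec_mulVec, h1, mulVec_mulVec, Matrix.nonsing_inv_mul _ hY, one_mulVec]
  rw [hM, hd_mulVec] at h2
  simp only [mul_one, dotProduct_zero, add_zero, one_smul, mulVec_zero, Fin.cons_inj] at h2
  obtain ⟨rfl, rfl⟩ := h2
  exact ⟨ρ, M₁, by rw [← hM, hmul]⟩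

/-- One more dimension and one more factor. -/
theorem ncr_step {k : ℕ} (hn : 2 ≤ n) {Y : Matrix (Fin n) (Fin n) F} (hY : ¬ IsScal Y)
    (hYd : Y.det ≠ 0) {x : F} (hx : x ≠ 0)
    (ih : ∀ A, ¬ IsScal A → A.det = Y.det ^ k → NCR Y k A x)
    {A : Matrix (Fin (n + 1)) (Fin (n + 1)) F} (hA : ¬ IsScal A)
    (hdet : A.det = (hd x 0 0 Y).det ^ (k + 1)) : NCR (hd x 0 0 Y) (k + 1) A x := by
  set Yh := hd x 0 0 Y with hYh
  have hYhd : Yh.det = x * Y.det := det_hd_upper x 0 Y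
  have hYhs : ¬ IsScal Yh := by
    rintro ⟨c, hc⟩
    refine hY ⟨c, Matrix.ext fun i j => ?_⟩
    have := congrFun (congrFun hc i.succ) j.succ
    simpa [hYh, Matrix.one_apply] using this
  let i₁ : Fin n := ⟨0, by omega⟩
  let i₂ : Fin n := ⟨1, by omega⟩
  set c₀ : Fin n → F := Pi.single i₁ 1 with hc₀
  set c := (x ^ k)⁻¹ • c₀ with hcdef
  have hxk : x ^ k ≠ 0 := pow_ne_zero _ hx
  obtain ⟨r, A₁, hsA⟩ := sim_hd_of_nonscalar hA 0 (c₀ := c₀) (by simp [hc₀])
  obtain ⟨r', Y₁, hsY⟩ := sim_hd_of_nonscalar hYhs 0 (c₀ := c) (by simp [hcdef, hc₀, hxk])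
  have hcc : x ^ k • c = c₀ := by rw [hcdef, smul_smul, mul_inv_cancel₀ hxk, one_smul]
  have hdetY : (hd 0 r' c Y₁).det = x * Y.det := by rw [← hsY.det_eq, hYhd]
  -- the two candidates
  have hsY' : Sim Yh (hd 0 (r' + Pi.single i₂ 1 ᵥ* Y₁) c (Y₁ - vecMulVec c (Pi.single i₂ 1))) := by
    refine hsY.trans ?_
    have := sim_hd_upper (Pi.single i₂ 1) 0 r' c Y₁
    simpa [hcdef, hc₀, i₁, i₂] using this
  obtain ⟨r₀, Y₀, hs₀, ρ, M₁, hM, hM₁⟩ : ∃ r₀ Y₀, Sim Yh (hd 0 r₀ c Y₀) ∧ ∃ ρ M₁,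
      hd 0 r₀ c Y₀ * hd (x ^ k) ρ 0 M₁ = hd 0 r c₀ A₁ ∧ ¬ IsScal M₁ := by
    have hu : ∀ {B}, Sim Yh B → IsUnit B.det := fun {B} h => by
      rw [← h.det_eq, hYhd]; exact (mul_ne_zero hx hYd).isUnit
    obtain ⟨ρ, M₁, hM⟩ := exists_quot (r := r) (A₁ := A₁) (hu hsY) hcc
    obtain ⟨ρ', M₁', hM'⟩ := exists_quot (r := r) (A₁ := A₁) (hu hsY') hcc
    by_cases h1 : IsScal M₁
    swap
    · exact ⟨_, _, hsY, _, _, hM, h1⟩
    refine ⟨_, _, hsY', _, _, hM', fun h2 => ?_⟩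
    obtain ⟨μ, rfl⟩ := h1
    obtain ⟨μ', rfl⟩ := h2
    rw [hd_mul] at hM hM'
    obtain ⟨-, er, -, eA⟩ := hd_inj hM
    obtain ⟨-, er', -, eA'⟩ := hd_inj hM'
    have hrow : ∀ j, μ * Y₁ i₂ j = μ' * Y₁ i₂ j := fun j => by
      have e1 := congrFun (congrFun eA i₂) j
      have e2 := congrFun (congrFun eA' i₂) j
      simp [vecMulVec_apply, hcdef, hc₀, i₁, i₂] at e1 e2
      rw [e1, e2]
    simp only [zero_smul, zero_add, vecMul_smul, vecMul_one] at er er'
    have hμ' : μ' ≠ 0 := fun h0 => by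
      have := congrArg Matrix.det hM'
      haveI hne' : Nonempty (Fin n) := ⟨i₁⟩
      rw [← hd_mul, det_mul, det_hd_upper, h0, zero_smul, Matrix.det_zero, mul_zero, mul_zero,
        ← hsA.det_eq, hdet] at this
      exact pow_ne_zero _ (by rw [hYhd]; exact mul_ne_zero hx hYd) this.symm
    have hzero : ∀ j, Y₁ i₂ j = 0 := fun j => by
      rcases eq_or_ne μ μ' with rfl | hne
      · have := congrFun (er.trans er'.symm) j
        simp [mul_add, hμ'] at this
        exact this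
      · by_contra h0
        exact hne (mul_right_cancel₀ h0 (hrow j))
    refine absurd hdetY ?_
    rw [Matrix.det_eq_zero_of_row_eq_zero i₂.succ fun j => ?_]
    · exact (mul_ne_zero hx hYd).symm
    · induction j using Fin.cases with
      | zero =>
        rw [hd_succ_zero]
        simp [hcdef, hc₀, i₁, i₂]
      | succ j => simpa using hzero j
  have hdetM : M₁.det = Y.det ^ k := by
    have := congrArg Matrix.det hM
    rw [det_mul, det_hd_upper, ← hs₀.det_eq, ← hsA.det_eq, hdet, pow_succ', hYhd] at this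
    have h2 := mul_left_cancel₀ (mul_ne_zero hx hYd) this
    rw [mul_pow] at h2
    exact mul_left_cancel₀ hxk h2
  obtain ⟨P, hP, hprod, hno⟩ := ih M₁ hM₁ hdetM
  obtain ⟨-, Φ, hΦ, hker⟩ := exists_row_map hx P
  obtain ⟨y, hy⟩ := row_surj Φ (fun v hv => hno v (hker v hv)) ρ
  refine NCR.of_sim hsA.symm ⟨Fin.cons (hd 0 r₀ c Y₀) fun i => hd x (y i ᵥ* (P i - x • 1)) 0 (P i),
    fun i => ?_, ?_, fun v hv => ?_⟩
  · induction i using Fin.cases with
    | zero => simpa using hs₀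
    | succ i =>
      simp only [Fin.cons_succ]
      obtain ⟨Q, hQ⟩ := hP i
      refine Sim.trans ?_ (Sim.trans ⟨ext1 Q, cj_ext1 Q x 0 0 Y⟩ ?_)
      · exact Sim.refl _
      rw [zero_vecMul, mulVec_zero, hQ]
      have := sim_hd_upper (y i) x 0 0 (P i)
      simpa [vecMul_sub, vecMul_smul, vecMul_one, zero_vecMulVec] using this
  · rw [List.ofFn_succ, List.prod_cons]
    simp only [Fin.cons_zero, Fin.cons_succ]
    rw [hΦ y, hy, hprod, hM]
  · have h0 := hv 0
    have hs' := fun i : Fin k => hv i.succ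
    simp only [Fin.cons_zero, Fin.cons_succ] at h0 hs'
    rw [← Fin.cons_self_tail v, hd_mulVec] at h0
    have htail : Fin.tail v = 0 := hno _ fun i => by
      have h := hs' i
      rw [← Fin.cons_self_tail v, hd_mulVec] at h
      funext j
      simpa [Fin.tail] using congrFun h j.succ
    rw [htail] at h0
    have hv0 : v 0 = 0 := by
      have := congrFun h0 i₁.succ
      simpa [hcdef, hc₀, hxk] using this
    rw [← Fin.cons_self_tail v, hv0, htail]
    funext i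
    induction i using Fin.cases <;> simp

end CfsgLib.LevCover
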