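import Cfsg.Agent.Lib.LevCover.Cover

/-!
# Scalars in dimension four
-/

set_option autoImplicit false

namespace CfsgLib.LevCover

open Matrix Polynomial

variable {F : Type*} [Field F] {n : ℕ}

theorem exists_inv_pair {z : Fin n → F} (hz : Contig z) (hz0 : ∀ i, z i ≠ 0) {c : F} (hc : c ≠ 0)
    (hsym : ∏ i, (Polynomial.X - C (c / z i)) = ∏ i, (Polynomial.X - C (z i))) :
    ∃ H K, CycSpec z H ∧ CycSpec z K ∧ H * K = c • 1 := by
  let L := bidiag z
  have hL : Linked z L := linked_bidiag z
  have hLd : L.det ≠ 0 := by rw [hL.det_eq]; exact Finset.prod_ne_zero_iff.2 fun i _ => hz0 i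
  let K₀ := c • L⁻¹
  have hLK : L * K₀ = c • 1 := by rw [Matrix.mul_smul, Matrix.mul_nonsing_inv _ hLd.isUnit]
  have hK₀ : ∀ i j, i < j → K₀ i j = 0 := by
    letI := L.invertibleOfIsUnitDet hLd.isUnit
    intro i j hij
    have h : Matrix.BlockTriangular L OrderDual.toDual := fun a b hab => hL.1 a b hab
    have := Matrix.blockTriangular_inv_of_blockTriangular h
      (show OrderDual.toDual j < OrderDual.toDual i from hij)
    simp [K₀, this]
  obtain ⟨hdg, hsub⟩ := lower_mul hL.1 hK₀
  have hKd : ∀ i, K₀ i i = c / z i := fun i => by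
    have := hdg i
    rw [hLK, hL.2.1] at this
    simp at this
    rw [eq_div_iff (hz0 i), mul_comm, ← this]
  have hK : Linked (fun j => c / z j) K₀ := by
    refine ⟨hK₀, hKd, fun a b hab => fun h => ?_⟩
    have h2 := hsub a b hab
    rw [hLK, hKd, hL.2.1, Matrix.smul_apply, Matrix.one_apply_ne (fun e => by rw [e] at hab; omega),
      smul_zero, h, mul_zero, add_zero, zero_eq_mul] at h2
    exact h2.elim (hL.2.2 a b hab) (div_ne_zero hc (hz0 b))
  have hcK : Contig fun j => c / z j := fun a b d h1 h2 h => by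
    have hzac : z a = z d := inv_injective (mul_left_cancel₀ hc (by rwa [← div_eq_mul_inv, ← div_eq_mul_inv]))
    simp only [hz a b d h1 h2 hzac]
  exact ⟨L, K₀, ⟨hL.cyclic hz, hL.charpoly_eq⟩, ⟨hK.cyclic hcK, hK.charpoly_eq.trans hsym⟩, hLK⟩

variable [Fintype F] [DecidableEq F]

theorem sprod_sym {Y : Matrix (Fin 4) (Fin 4) F} {s : Multiset F} {R L : Set F} (hG : GoodAll Y s R L)
    (hs : (0 : F) ∉ s) (hsimp : Flex Y ∨ ∃ x, s.count x = 1) {c : F} (hc : c ≠ 0)
    (hsym : s.map (fun y => c / y) = s) : ∃ c : F, c ≠ 0 ∧ SProd Y 4 (c • 1) := by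
  obtain ⟨g, k, -, -, hZ, -, -⟩ := hG 1 1 one_ne_zero one_ne_zero
  obtain ⟨z, hzc, -, hzm, -, hzs⟩ := exists_contig hZ.card (1 : F)
  have hprod : ∏ i, (Polynomial.X - C (c / z i)) = ∏ i, (Polynomial.X - C (z i)) := by
    have h1 : (rpoly s).roots = s := roots_multiset_prod_X_sub_C s
    have h2 : (∏ i, (Polynomial.X - C (z i))).roots = Finset.univ.val.map z := by
      rw [Finset.prod_eq_multiset_prod, show Finset.univ.val.map (fun i => Polynomial.X - C (z i)) =
        (Finset.univ.val.map z).map (fun x => Polynomial.X - C x) by rw [Multiset.map_map]; rfl]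
      exact roots_multiset_prod_X_sub_C _
    have hzv : s = Finset.univ.val.map z := by rw [← h2, ← hzs, h1]
    rw [← hzs, rpoly]
    conv_rhs => rw [← hsym, hzv]
    rw [Finset.prod_eq_multiset_prod, Multiset.map_map, Multiset.map_map]
    rfl
  obtain ⟨H, K, hH, hK, hHK⟩ := exists_inv_pair hzc (fun i h => hs (h ▸ hzm i)) hc hprod
  have hpair := spair_of_good (by norm_num) hG hsimp hzs
  exact ⟨c, hc, hHK ▸ (hpair H hH).mul (hpair K hK)⟩

/-- A single block of degree four. -/
theorem sym_block (h4 : 4 ≤ Fintype.card F) {Y : Matrix (Fin 4) (Fin 4) F} {c₀ : Fin 4 → F}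
    (e : Fin 4 ≃ Fin 4) (hsim : Sim Y (Matrix.reindexAlgEquiv F F e (comp c₀))) {l : List F[X]}
    (hdec : Dec Y l) (hmem : (comp c₀).charpoly ∈ l) (hYd : Y.det = 1) :
    ∃ c : F, c ≠ 0 ∧ SProd Y 4 (c • 1) := by
  have h3 := h3_of_card h4
  set f := (comp c₀).charpoly with hf
  have hfd : f.natDegree = 4 := by rw [hf, charpoly_natDegree_eq_dim, Fintype.card_fin]
  have hf0 : f.coeff 0 = 1 := by
    rw [← hYd, hsim.det_eq, Matrix.det_reindexAlgEquiv, Matrix.det_eq_sign_charpoly_coeff, ← hf,
      Fintype.card_fin]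
    norm_num
  have up : ∀ {s : Multiset F} {R L : Set F}, GoodAll (comp c₀) s R L → GoodAll Y s R L :=
    fun h => (h.reindex e).of_sim hsim.symm
  by_cases hflex : Flex Y
  · have hG := goodEx_piece h3 (d := 2) c₀ hf.symm (by rw [hf0]; exact one_ne_zero) (one_ne_zero (α := F))
      (Or.inl (by omega))
    refine sprod_sym ((hG.reindex e).of_sim hsim.symm |>.flex hflex) ?_ (Or.inl hflex) (one_ne_zero (α := F)) ?_
    · exact zero_notMem_specF (by rw [hf0]; exact one_ne_zero) one_ne_zero
    · simp [specF, topF, hf0, hfd, Multiset.map_replicate]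
  have hst := stiff_of_not_flex hdec hflex
  by_cases hr : ∀ x, f.eval x ≠ 0
  · -- the square of a quadratic
    obtain ⟨P, hPm, hPi, hPd⟩ := exists_monic_irreducible_factor f
      (not_isUnit_of_natDegree_pos f (by omega))
    obtain ⟨H, hH⟩ := hPd
    have hHm : H.Monic := hPm.of_mul_monic_left (hH ▸ (charpoly_monic _))
    have hdeg : f.natDegree = P.natDegree + H.natDegree := by
      rw [hH, natDegree_mul hPm.ne_zero hHm.ne_zero]
    have hPnr : ∀ x, P.eval x ≠ 0 := fun x hx => hr x (by rw [hH, eval_mul, hx, zero_mul])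
    have hHnr : ∀ x, H.eval x ≠ 0 := fun x hx => hr x (by rw [hH, eval_mul, hx, mul_zero])
    have hP1 : P.natDegree ≠ 1 := fun h1 => hPnr (-P.coeff 0) (by rw [hPm.eq_X_add_C h1]; simp)
    have hH1 : H.natDegree ≠ 1 := fun h1 => hHnr (-H.coeff 0) (by rw [hHm.eq_X_add_C h1]; simp)
    have hH0 : 0 < H.natDegree := by
      by_contra h0
      rw [hHm.natDegree_eq_zero.1 (by omega), mul_one] at hH
      exact hst.irr f hmem (hH ▸ hPi)
    have hdvd : P ∣ H := by
      by_contra hndvd
      exact hst.coprime f hmem P H hPm hHm hPi hH0 (hPi.coprime_iff_not_dvd.2 hndvd) hH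
    have hPH : P = H := eq_of_monic_of_associated hPm hHm (hPi.associated_of_dvd
      (deg_two_irreducible' hHm (by have := hPi.natDegree_pos; omega) hHnr) hdvd)
    subst hPH
    have hP2 : P.natDegree = 2 := by omega
    have he1 : P.coeff 0 ^ 2 = 1 := by rw [pow_two, ← mul_coeff_zero, ← hH, hf0]
    have hq4 : Fintype.card F ≠ 4 := fun hq4 => hflex fun y hy => by
      obtain ⟨g, hg, hgY⟩ := scl_card Y y hy
      refine ⟨g, ?_, hgY⟩
      have h4' := FiniteField.pow_card_sub_one_eq_one y hy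
      rw [hq4] at h4'
      rw [hg, Fintype.card_fin, pow_succ, h4', one_mul]
    obtain ⟨e₂, p, hsplit⟩ := sim_split c₀ hPm hPm hP2 hP2 two_pos two_pos (hf.symm.trans hH)
    obtain ⟨s, a, R, L, hS, -, hs, ha, -, hsym⟩ := square_sym h4 hPm hPi hP2 hPnr he1 hq4 p
    refine sprod_sym (up ((hS.reindex e₂).of_sim hsplit.symm)) hs (Or.inr ⟨a, ha⟩)
      (one_ne_zero (α := F)) ?_
    simpa [one_div] using hsym
  push Not at hr
  obtain ⟨α, hα⟩ := hr
  have hα0 : α ≠ 0 := by
    rintro rfl
    rw [← coeff_zero_eq_eval_zero, hf0] at hα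
    exact one_ne_zero hα
  obtain ⟨q, hq⟩ := dvd_iff_isRoot.2 (hα : f.IsRoot α)
  have hqm : q.Monic := (monic_X_sub_C α).of_mul_monic_left (hq ▸ (charpoly_monic _))
  have hqdeg : q.natDegree = 3 := by
    have := congrArg natDegree hq
    rw [natDegree_mul (X_sub_C_ne_zero α) hqm.ne_zero, natDegree_X_sub_C] at this
    omega
  obtain ⟨e₂, p, hsplit⟩ := sim_split c₀ (monic_X_sub_C α) hqm (natDegree_X_sub_C α) hqdeg one_pos
    (by omega) (hf.symm.trans hq)
  rw [comp_linear] at hsplit
  have hqc := charpoly_comp (d := 3) hqm hqdeg (by omega)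
  have hq2 : q.coeff 0 ^ 2 * α ^ 2 = 1 := by
    have : f.coeff 0 = -α * q.coeff 0 := by rw [hq, mul_coeff_zero]; simp
    rw [hf0] at this
    linear_combination (-(-α * q.coeff 0) - 1) * this
  have hu : α * α ≠ 0 := mul_ne_zero hα0 hα0
  have build : ∀ {b a u : F}, a ≠ 0 → u ≠ 0 → b ≠ 0 → a ≠ u → b ≠ u → b * (a * u) * α ^ 2 = 1 →
      (u = α * α ∨ α * α ∉ (b ::ₘ a ::ₘ Multiset.replicate 1 u)) →
      GoodAll (comp c₀) ((b ::ₘ a ::ₘ Multiset.replicate 1 u) + {α * α}) Set.univ Set.univ := by
    intro b a u ha hu' hb hau hbu hprod hR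
    obtain ⟨R, ⟨a₁, b₁, hG⟩, hRu⟩ := goodEx_zpiece (m := 0) h3 (colOf (d := 3) q) ha hu' hau (b := b)
      (by rw [hqc, zero_add, pow_one]
          exact mul_right_cancel₀ (pow_ne_zero 2 hα0) (hprod.trans hq2.symm)) hb hbu
    have hall := GoodAll.join_right hG (goodAll_single α) (by simpa using hα0)
      (fun x hx _ h1 h2 => by
        rw [Set.mem_singleton_iff.1 h2] at h1 hx
        rcases hR with hR | hR
        · exact hRu (hR ▸ h1)
        · exact hR hx) p
    exact ((hall.reindex e₂).of_sim hsplit.symm).mono (Set.subset_univ _) (Set.subset_univ _)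
  by_cases h4' : α ^ 4 = 1
  · obtain ⟨a', ha0, ha1, -, ham⟩ := exists_tau h4 1 1
    have hne : a' * a' ≠ 1 := fun e => (mul_self_eq_one_iff.1 e).elim ha1 ham
    have hinv : a'⁻¹ ≠ a' := fun e => hne (by nth_rw 1 [← e]; exact inv_mul_cancel₀ ha0)
    have hinv1 : a'⁻¹ ≠ 1 := fun e => ha1 (inv_eq_one.1 e)
    have hG := build (b := α * α * a'⁻¹) (a := α * α * a') (u := α * α) (mul_ne_zero hu ha0) hu
      (mul_ne_zero hu (inv_ne_zero ha0)) (fun e => ha1 ((mul_eq_left₀ hu).1 e))
      (fun e => hinv1 ((mul_eq_left₀ hu).1 e))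
      (by field_simp; linear_combination (α ^ 4 + 1) * h4') (Or.inl rfl)
    refine sprod_sym (up hG) (by simp [hα0, hα0.symm, ha0, ha0.symm]) (Or.inr ⟨α * α * a', ?_⟩)
      (one_ne_zero (α := F)) ?_
    · have e1 : α * α * a' ≠ α * α := fun e => ha1 ((mul_eq_left₀ hu).1 e)
      have e2 : α * α * a' ≠ α * α * a'⁻¹ := fun e => hinv (mul_left_cancel₀ hu e).symm
      simp [Multiset.count_cons, Multiset.count_singleton, e1, e2]
    · have u2 : 1 / (α * α) = α * α := by field_simp; linear_combination -h4'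
      have e1 : 1 / (α * α * a'⁻¹) = α * α * a' := by
        rw [← div_div, u2]; field_simp
      have e2 : 1 / (α * α * a') = α * α * a'⁻¹ := by
        rw [← div_div, u2]; field_simp
      simp only [Multiset.map_add, Multiset.map_cons, Multiset.map_replicate, Multiset.map_singleton,
        e1, e2, u2]
      rw [Multiset.cons_swap]
  · have hsq : α * α ≠ 1 := fun e => h4' (by linear_combination (α * α + 1) * e)
    have hsq' : α * α ≠ (α * α)⁻¹ := fun e => h4' (by
      have := mul_inv_cancel₀ hu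
      rw [← e] at this
      linear_combination this)
    have hG := build (b := 1) (a := 1) (u := (α * α)⁻¹) one_ne_zero (inv_ne_zero hu) one_ne_zero
      (fun e => hsq (inv_eq_one.1 e.symm)) (fun e => hsq (inv_eq_one.1 e.symm))
      (by field_simp) (Or.inr (by simp [hsq, show α * α ≠ α⁻¹ * α⁻¹ by rwa [← mul_inv]]))
    refine sprod_sym (up hG) (by simp [hα0, hα0.symm]) (Or.inr ⟨α * α, ?_⟩)
      (one_ne_zero (α := F)) ?_
    · simp [Multiset.count_cons, Multiset.count_singleton, hsq,
        show α * α ≠ α⁻¹ * α⁻¹ by rwa [← mul_inv]]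
    · simp only [Multiset.map_add, Multiset.map_cons, Multiset.map_replicate, Multiset.map_singleton,
        one_div, inv_inv, inv_one]
      refine Multiset.ext.2 fun y => ?_
      simp [Multiset.count_cons, Multiset.count_singleton]
      omega

/-- A scalar in dimension four. -/
theorem cover_one_four (h4 : 4 ≤ Fintype.card F) {Y : Matrix (Fin 4) (Fin 4) F} (hY : ¬ IsScal Y)
    (hYd : Y.det = 1) : ∃ c : F, c ≠ 0 ∧ SProd Y 4 (c • 1) := by
  have h3 := h3_of_card h4
  rcases exists_shape hY hYd with ⟨l, hl⟩ | ⟨m, r, t, e, Y', l, hr, hm2, hmr, ht, hd', hd, hns, hroot, hs⟩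
  · obtain ⟨f, l', rfl⟩ := List.exists_cons_of_ne_nil hl.ne_nil
    obtain ⟨m, d, e, Y', c, hc, hsim, hann, hrest⟩ := hl.top
    have hmd := Fintype.card_congr e
    simp at hmd
    rcases hrest with ⟨rfl, rfl⟩ | hrest
    · obtain rfl : d = 2 := by omega
      refine sym_block h4 ((Equiv.emptySum (Fin 0) (Fin 4)).symm.trans e) (hsim.trans (sim_of_eq ?_)) hl
        (by rw [hc]; exact List.mem_cons_self ..) hYd
      ext i j
      obtain ⟨(i | i), rfl⟩ := e.surjective i
      · exact i.elim0
      obtain ⟨(j | j), rfl⟩ := e.surjective j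
      · exact j.elim0
      simp
    have hlen := hrest.two_mul_length
    have hlen' := List.length_pos_of_ne_nil hrest.ne_nil
    obtain rfl : d = 0 := by omega
    obtain rfl : m = 2 := by omega
    have hfd : f.natDegree = 2 := by rw [← hc, charpoly_natDegree_eq_dim, Fintype.card_fin]
    have hall := hl.all_eq_of_head hfd
    obtain ⟨g, l'', rfl⟩ := List.exists_cons_of_ne_nil hrest.ne_nil
    have hl''len : l'' = [] := List.eq_nil_of_length_eq_zero (by rw [List.length_cons] at hlen; omega)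
    subst hl''len
    have hgf := hall g (List.mem_cons_of_mem _ (List.mem_cons_self ..))
    rw [hgf] at hl hrest hall
    obtain ⟨m', d', e', Y'', c', hc', hsim', -, -⟩ := hrest.top
    have hd2 : d' = 0 := by
      have := congrArg natDegree hc'
      rw [charpoly_natDegree_eq_dim, Fintype.card_fin, hfd] at this
      omega
    subst hd2
    obtain rfl : m' = 0 := by have := Fintype.card_congr e'; simp at this; omega
    have hf0 : f.coeff 0 ^ 2 = 1 := by
      rw [← hYd, hsim.det_eq, Matrix.det_reindexAlgEquiv, det_fromBlocks_zero₁₂, hsim'.det_eq,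
        Matrix.det_reindexAlgEquiv, det_fromBlocks_zero₁₂, Matrix.det_fin_zero, one_mul,
        Matrix.det_eq_sign_charpoly_coeff, Matrix.det_eq_sign_charpoly_coeff, hc, hc', Fintype.card_fin,
        pow_two]
      norm_num
    have hf00 : f.coeff 0 ≠ 0 := fun h => by simp [h] at hf0
    by_cases hflex : Flex Y
    · obtain ⟨a, ha0, ha1, -, ham⟩ := exists_tau h4 1 1
      have htop : topF f a = a⁻¹ := by rw [topF, hfd, hf0]; simp
      have hne : topF f a ≠ a := fun e => by
        rw [htop] at e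
        have h1 : a * a = 1 := by nth_rw 1 [← e]; exact inv_mul_cancel₀ ha0
        exact (mul_self_eq_one_iff.1 h1).elim ha1 ham
      have hG := hl.uniform h3 hall hf00 ha0 (Or.inr hne)
      refine sprod_sym (hG.flex hflex) (fun h => zero_notMem_specF hf00 ha0 (Multiset.mem_of_mem_nsmul h))
        (Or.inl hflex) (one_ne_zero (α := F)) ?_
      simp only [Multiset.map_nsmul, specF, hfd, Multiset.map_cons, Multiset.map_replicate, htop,
        one_div, inv_inv]
      refine congrArg _ (Multiset.ext.2 fun y => ?_)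
      simp [Multiset.count_cons, Multiset.count_singleton]
      omega
    obtain ⟨α, hα⟩ := (stiff_of_not_flex hl hflex).low f (List.mem_cons_self ..) hfd
    have hα0 : α ≠ 0 := by rintro rfl; rw [hα] at hf00; simp at hf00
    have h2 : Scl 2 Y := hfd ▸ hl.scl_deg (List.mem_cons_self ..)
    obtain ⟨s, hG, hs, hx, c₁, hc₁, hsym⟩ := goodAll_four h4 hα0
      (hl.half (fun g hg => (hall g hg).trans hα)) h2
    exact sprod_sym hG hs (Or.inr hx) hc₁ hsym
  have hflex := flex_split hr e hs
  by_cases hm : m = 2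
  · subst hm
    refine ⟨1, one_ne_zero, ?_⟩
    rw [one_smul]
    exact (cover_refl h4 (by omega) hYd ht (isRefl_shape ht hd hroot e hs) det_one (Or.inr rfl)).sprod hflex
  obtain rfl : m = 3 := by omega
  obtain rfl : r = 1 := by omega
  obtain ⟨f, l', rfl⟩ := List.exists_cons_of_ne_nil hd.ne_nil
  obtain ⟨m', d, e₂, Y'', c, hc, hsim, -, hrest⟩ := hd.top
  obtain rfl : m' = 0 := by
    rcases hrest with ⟨h, -⟩ | h
    · exact h
    · have := h.two_mul_length
      have := List.length_pos_of_ne_nil h.ne_nil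
      have := Fintype.card_congr e₂
      simp at this
      omega
  obtain rfl : d = 1 := by have := Fintype.card_congr e₂; simp at this; omega
  have hY' : Sim Y' (comp c) := by
    refine hsim.trans ((sim_reindex_two e₂ (Equiv.emptySum (Fin 0) (Fin 3)) _).trans ?_)
    refine sim_of_eq ?_
    ext a b
    simp [Equiv.emptySum]
  have hdet : (comp c).det * t = 1 := by
    rw [← hYd, hs.det_eq, Matrix.det_reindexAlgEquiv, det_fromBlocks_zero₁₂, hY'.det_eq]
    simp
  have hfd : f.natDegree = 3 := by rw [← hc, charpoly_natDegree_eq_dim, Fintype.card_fin]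
  have hf0 : f.coeff 0 ^ 2 = (t * t)⁻¹ := by
    rw [← hc, ← det_comp_sq, eq_inv_of_mul_eq_one_left hdet, pow_two, mul_inv]
  have hf00 : f.coeff 0 ≠ 0 := fun h => by simp [h, ht] at hf0
  have htop : topF f 1 = (t * t)⁻¹ := by rw [topF_one, hf0]
  obtain ⟨a₁, b₁, hP⟩ := goodEx_piece h3 c hc hf00 (one_ne_zero (α := F)) (Or.inl hfd.ge)
  have hall := GoodAll.join_left (goodAll_single t) hP (zero_notMem_specF hf00 one_ne_zero)
    (fun x _ _ h1 h2 => h2.2 (by
      have e1 : (1 : F) = t * t := h2.1.symm.trans h1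
      rw [Set.mem_singleton_iff, htop, ← e1, inv_one]
      exact h2.1)) 0
  have hsim' : Sim (Matrix.reindexAlgEquiv F F ((Equiv.sumComm _ _).trans e)
      (fromBlocks (single1 t) 0 0 (comp c))) Y := by
    refine Sim.trans ?_ (((sim_fromBlocks hY'.symm (Sim.refl _)).reindex e).trans hs.symm)
    rw [← sim_swap]
    exact Sim.refl _
  refine sprod_sym ((hall.reindex ((Equiv.sumComm _ _).trans e)).of_sim hsim')
    (by simp [ht, zero_notMem_specF hf00 one_ne_zero]) (Or.inl hflex) (one_ne_zero (α := F)) ?_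
  simp only [specF, hfd, htop, Multiset.map_add, Multiset.map_cons, Multiset.map_replicate,
    Multiset.map_singleton, one_div, inv_inv, inv_one]
  refine Multiset.ext.2 fun y => ?_
  simp [Multiset.count_cons, Multiset.count_singleton]
  omega

end CfsgLib.LevCover
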