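import Cfsg.Agent.Lib.LevCover.Sym

/-!
# Dimension three
-/

set_option autoImplicit false

namespace CfsgLib.LevCover

open Matrix Polynomial

variable {F : Type*} [Field F]

/-- The telescoping identity. -/
theorem cube_one {C P : Matrix (Fin 3) (Fin 3) F} (hP : P * P * P = 1) (hPd : P.det = 1)
    (hW : C * P * (C * P) * (C * P) = 1) : SProd C 3 1 := by
  let g : GL (Fin 3) F := mkGL P (by rw [hPd]; exact one_ne_zero)
  have hinv : ((g⁻¹ : GL (Fin 3) F) : Matrix (Fin 3) (Fin 3) F) = P * P := by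
    rw [Matrix.coe_units_inv, coe_mkGL]
    exact Matrix.inv_eq_left_inv hP
  refine ⟨![1, g, g * g], fun i => by fin_cases i <;> simp [g, hPd], ?_⟩
  have hinv2 : (((g * g)⁻¹ : GL (Fin 3) F) : Matrix (Fin 3) (Fin 3) F) = P := by
    rw [_root_.mul_inv_rev, Units.val_mul, hinv]
    calc P * P * (P * P) = P * P * P * P := by simp only [Matrix.mul_assoc]
      _ = P := by rw [hP, Matrix.one_mul]
  have hP4 : P * P * (P * P) = P := by
    calc P * P * (P * P) = P * P * P * P := by simp only [Matrix.mul_assoc]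
      _ = P := by rw [hP, Matrix.one_mul]
  simp only [List.ofFn_succ, List.ofFn_zero, List.prod_cons, List.prod_nil, mul_one,
    Matrix.cons_val_zero, Matrix.cons_val_succ, cj_one]
  simp only [cj, hinv, hinv2, Units.val_mul, g, coe_mkGL]
  calc (1 : Matrix (Fin 3) (Fin 3) F) = C * P * (C * P) * (C * P) := hW.symm
    _ = C * (P * C * (P * P * (P * P)) * C * P) := by rw [hP4]; simp only [Matrix.mul_assoc]
    _ = _ := by simp only [Matrix.mul_assoc]

/-- The identity for a companion matrix. -/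
theorem comp_cube (c : Fin 3 → F) (hc : c 0 = 1) : SProd (comp c) 3 1 := by
  let P : Matrix (Fin 3) (Fin 3) F := !![-c 1, 1, 0; -(c 1 ^ 2 - c 1 + 1), c 1 - 1, 0; -1 - c 2, 0, 1]
  refine cube_one (P := P) ?_ ?_ ?_
  · ext i j
    fin_cases i <;> fin_cases j <;> simp [P, Matrix.mul_apply, Fin.sum_univ_three] <;> ring
  · simp [P, Matrix.det_fin_three]
    ring
  · have hW : comp c * P = !![-1 - c 2, 0, 1; -c 1 + c 1 * (-1 - c 2), 1, c 1;
        -(c 1 ^ 2 - c 1 + 1) + c 2 * (-1 - c 2), c 1 - 1, c 2] := by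
      ext i j
      fin_cases i <;> fin_cases j <;> simp [P, comp, hc, Matrix.mul_apply, Fin.sum_univ_three]
    rw [hW]
    ext i j
    fin_cases i <;> fin_cases j <;> simp [Matrix.mul_apply, Fin.sum_univ_three] <;> ring

theorem cyclic_three_of_dec {Y : Matrix (Fin 3) (Fin 3) F} {l : List F[X]} (h : Dec Y l) :
    ∃ c : Fin 3 → F, Sim Y (comp c) ∧ (comp c).charpoly ∈ l := by
  obtain ⟨f, l', rfl⟩ := List.exists_cons_of_ne_nil h.ne_nil
  obtain ⟨m, d, e, Y', c, hc, hsim, -, hrest⟩ := h.top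
  obtain rfl : m = 0 := by
    rcases hrest with ⟨h, -⟩ | h
    · exact h
    · have := h.two_mul_length
      have := List.length_pos_of_ne_nil h.ne_nil
      have := Fintype.card_congr e
      simp at this
      omega
  obtain rfl : d = 1 := by have := Fintype.card_congr e; simp at this; omega
  refine ⟨c, hsim.trans ((sim_reindex_two e (Equiv.emptySum (Fin 0) (Fin 3)) _).trans (sim_of_eq ?_)),
    by rw [hc]; exact List.mem_cons_self ..⟩
  ext a b
  simp [Equiv.emptySum]

variable [Fintype F]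

/-- A scalar in dimension three. -/
theorem cover_one_three (h4 : 4 ≤ Fintype.card F) {Y : Matrix (Fin 3) (Fin 3) F} (hY : ¬ IsScal Y)
    (hYd : Y.det = 1) : SProd Y 3 1 := by
  rcases exists_shape hY hYd with ⟨l, hl⟩ | ⟨m, r, t, e, Y', l, hr, hm2, hmr, ht, -, hd, -, hroot, hs⟩
  · obtain ⟨c, hs, -⟩ := cyclic_three_of_dec hl
    have hc : c 0 = 1 := by
      rw [hs.det_eq] at hYd
      rw [← hYd, Matrix.det_fin_three]
      simp [comp]
    obtain ⟨g, hg⟩ := hs.symm
    have := (comp_cube c hc).base_cj g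
    rwa [hg, show cj g (1 : Matrix (Fin 3) (Fin 3) F) = 1 by simp [cj]] at this
  obtain rfl : m = 2 := by omega
  exact (cover_refl h4 (by omega) hYd ht (isRefl_shape ht hd hroot e hs) det_one (Or.inr rfl)).sprod
    (flex_split hr e hs)

/-- Three distinct eigenvalues. -/
theorem cycSpec_three {M : Matrix (Fin 3) (Fin 3) F} {μ γ δ : F} {v : Fin 3 → F} (hv : v ≠ 0)
    (hμ : M *ᵥ v = μ • v) (hμ0 : μ ≠ 0) (hdet : M.det = μ * γ * δ) (htr : M.trace = μ + γ + δ)
    (h1 : μ ≠ γ) (h2 : μ ≠ δ) (h3 : γ ≠ δ) : CycSpec ![μ, γ, δ] M := by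
  have hd := charpoly_natDegree_eq_dim M
  rw [Fintype.card_fin] at hd
  have hform : M.charpoly = X ^ 3 - C M.trace * X ^ 2 + C (M.charpoly.coeff 1) * X - C M.det := by
    ext k
    have e2 : M.charpoly.coeff 2 = -M.trace := by
      rw [Matrix.trace_eq_neg_charpoly_coeff, Fintype.card_fin, neg_neg]
    have e0 : M.charpoly.coeff 0 = -M.det := by
      rw [Matrix.det_eq_sign_charpoly_coeff, Fintype.card_fin]; ring
    have e3 : M.charpoly.coeff 3 = 1 := by
      have h := (charpoly_monic M).coeff_natDegree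
      rwa [hd] at h
    rcases k with _ | _ | _ | _ | k
    · simp [e0, coeff_X_pow]
    · simp [coeff_X_pow]
    · simp [e2, coeff_X_pow, coeff_X, coeff_C]
    · simp [e3, coeff_X_pow, coeff_X, coeff_C]
    · rw [coeff_eq_zero_of_natDegree_lt (show M.charpoly.natDegree < k + 4 by omega)]
      simp [coeff_X_pow, coeff_X, coeff_C]
  have hev : M.charpoly.eval μ = 0 := by
    rw [Matrix.eval_charpoly]
    refine Matrix.exists_mulVec_eq_zero_iff.1 ⟨v, hv, ?_⟩
    rw [sub_mulVec, Matrix.scalar_apply, ← Matrix.smul_one_eq_diagonal, smul_mulVec, one_mulVec, hμ, sub_self]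
  have he : M.charpoly.coeff 1 = μ * γ + μ * δ + γ * δ := by
    rw [hform] at hev
    simp [htr, hdet] at hev
    refine mul_left_cancel₀ hμ0 ?_
    linear_combination hev
  have hchar : M.charpoly = (X - C μ) * ((X - C γ) * (X - C δ)) := by
    rw [hform, htr, hdet, he]
    simp only [map_add, map_mul]
    ring
  refine ⟨?_, by rw [hchar]; simp [Fin.prod_univ_three, mul_assoc]⟩
  -- a cyclic vector
  obtain ⟨x, hx⟩ := exists_min_vector M
  have hroot : ∀ y : F, M.charpoly.eval y = 0 → (minpoly F M).eval y = 0 := by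
    intro y hy
    rw [Matrix.eval_charpoly] at hy
    obtain ⟨w, hw0, hw⟩ := Matrix.exists_mulVec_eq_zero_iff.2 hy
    rw [sub_mulVec, Matrix.scalar_apply, ← Matrix.smul_one_eq_diagonal, smul_mulVec, one_mulVec,
      sub_eq_zero] at hw
    obtain ⟨q, hq⟩ := Polynomial.X_sub_C_dvd_sub_C_eval (p := minpoly F M) (a := y)
    have hq' : minpoly F M - C ((minpoly F M).eval y) = q * (X - C y) := by rw [hq, mul_comm]
    have := congrArg (fun p => aeval M p *ᵥ w) hq'
    simp [Algebra.algebraMap_eq_smul_one, sub_mulVec, smul_mulVec, ← mulVec_mulVec, ← hw, minpoly.aeval] at this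
    rw [neg_mulVec, neg_eq_zero, smul_mulVec, one_mulVec, smul_eq_zero] at this
    exact this.resolve_right hw0
  have hm0 : minpoly F M ≠ 0 := minpoly.ne_zero (Matrix.isIntegral M)
  refine ⟨x, fun h0 => ?_⟩
  obtain ⟨a, ha0, ha⟩ := Matrix.exists_mulVec_eq_zero_iff.2 h0
  set p : F[X] := C (a 0) + C (a 1) * X + C (a 2) * X ^ 2 with hp
  have hp0 : aeval M p *ᵥ x = 0 := by
    rw [← ha]
    funext i
    simp [hp, krylov, Fin.sum_univ_three, mulVec, dotProduct, Algebra.algebraMap_eq_smul_one,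
      Matrix.add_apply]
    ring
  obtain ⟨t, ht⟩ := (hx p).1 hp0
  have hpz : ∀ y, y = μ ∨ y = γ ∨ y = δ → p.eval y = 0 := by
    intro y hy
    rw [ht, eval_mul, hroot y (by rw [hchar]; rcases hy with rfl | rfl | rfl <;> simp), zero_mul]
  have hpzero : p = 0 := by
    refine Polynomial.eq_zero_of_natDegree_lt_card_of_eval_eq_zero p (f := ![μ, γ, δ]) ?_ ?_ ?_
    · intro i j hij
      fin_cases i <;> fin_cases j <;> first
        | rfl
        | exact absurd hij h1 | exact absurd hij.symm h1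
        | exact absurd hij h2 | exact absurd hij.symm h2
        | exact absurd hij h3 | exact absurd hij.symm h3
    · intro i
      fin_cases i
      exacts [hpz _ (Or.inl rfl), hpz _ (Or.inr (Or.inl rfl)), hpz _ (Or.inr (Or.inr rfl))]
    · rw [hp, Fintype.card_fin]
      have : (C (a 0) + C (a 1) * X + C (a 2) * X ^ 2).natDegree ≤ 2 := by compute_degree
      omega
  refine ha0 (funext fun i => ?_)
  have key : ∀ k, p.coeff k = 0 := fun k => by rw [hpzero, coeff_zero]
  fin_cases i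
  · simpa [hp, coeff_X_pow] using key 0
  · simpa [hp, coeff_X_pow] using key 1
  · simpa [hp, coeff_X_pow, coeff_X, coeff_C] using key 2

/-- The flag construction. -/
theorem flag_cover {Y A : Matrix (Fin 3) (Fin 3) F} (hYc : Cyclic Y) (hYd : Y.det = 1)
    (hA : ¬ IsScal A) (hAd : A.det = 1) {μ γ δ : F} (h1 : μ ≠ γ) (h2 : μ ≠ δ) (h3 : γ ≠ δ)
    (hprod : μ * γ * δ = 1) (hpair : ∀ M, CycSpec ![μ, γ, δ] M → SProd Y 2 M) : SProd Y 3 A := by
  have hμ : μ ≠ 0 := left_ne_zero_of_mul (left_ne_zero_of_mul_eq_one hprod)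
  obtain ⟨v, hv, hne⟩ := exists_noneig hA
  set w := A *ᵥ v with hw
  set N : Fin 3 → F := ![v 1 * w 2 - v 2 * w 1, v 2 * w 0 - v 0 * w 2, v 0 * w 1 - v 1 * w 0] with hN
  have hdetN : ∀ x : Fin 3 → F, (Matrix.of ![x, v, w]).det = N ⬝ᵥ x := fun x => by
    simp [hN, Matrix.det_fin_three, dotProduct, Fin.sum_univ_three]
    ring
  have hN0 : N ≠ 0 := by
    intro h0
    have e0 := congrFun h0 0
    have e1 := congrFun h0 1
    have e2 := congrFun h0 2
    simp [hN, sub_eq_zero] at e0 e1 e2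
    obtain ⟨i, hi⟩ := Function.ne_iff.1 hv
    simp at hi
    refine hne (w i / v i) (funext fun j => ?_)
    rw [Pi.smul_apply, smul_eq_mul, div_mul_eq_mul_div, eq_div_iff hi]
    fin_cases i <;> fin_cases j <;> simp only [Fin.zero_eta, Fin.mk_one, Fin.reduceFinMk] <;> first
      | ring1
      | linear_combination e0 | linear_combination -e0
      | linear_combination e1 | linear_combination -e1
      | linear_combination e2 | linear_combination -e2
  have hNv : N ⬝ᵥ v = 0 := by simp [hN, dotProduct, Fin.sum_univ_three]; ring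
  have hNw : N ⬝ᵥ w = 0 := by simp [hN, dotProduct, Fin.sum_univ_three]; ring
  obtain ⟨u, hu, hAu⟩ : ∃ u, N ⬝ᵥ u ≠ 0 ∧ N ⬝ᵥ (A *ᵥ u) ≠ 0 := by
    have hAN : N ᵥ* A ≠ 0 := fun h0 => hN0 (by
      by_contra hN'
      have := Matrix.exists_vecMul_eq_zero_iff.1 ⟨N, hN', h0⟩
      rw [hAd] at this
      exact one_ne_zero this)
    obtain ⟨i, hi⟩ := Function.ne_iff.1 hN0
    obtain ⟨j, hj⟩ := Function.ne_iff.1 hAN
    simp only [Pi.zero_apply] at hi hj
    by_cases hj' : (N ᵥ* A) i ≠ 0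
    · exact ⟨Pi.single i 1, by simpa using hi, by rw [dotProduct_mulVec, dotProduct_single, mul_one]; exact hj'⟩
    by_cases hi' : N j ≠ 0
    · exact ⟨Pi.single j 1, by simpa using hi', by rw [dotProduct_mulVec, dotProduct_single, mul_one]; exact hj⟩
    push Not at hi' hj'
    exact ⟨Pi.single i 1 + Pi.single j 1, by simp [hi', hi],
      by simp [dotProduct_mulVec, hj', hj]⟩
  obtain ⟨x, hx⟩ := hYc
  set K := krylov Y x with hK
  set G := fun t : F => (Matrix.of ![t • u, v, μ⁻¹ • w])ᵀ * K⁻¹ with hG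
  have hdet : ∀ t, (G t).det = t * μ⁻¹ * (N ⬝ᵥ u) / K.det := by
    intro t
    simp only [hG, det_mul, det_transpose, det_nonsing_inv, Ring.inverse_eq_inv', div_eq_mul_inv]
    congr 1
    rw [← hdetN, Matrix.det_fin_three, Matrix.det_fin_three]
    simp
    ring
  set t := K.det * μ / (N ⬝ᵥ u) with htdef
  have ht0 : t ≠ 0 := div_ne_zero (mul_ne_zero hx hμ) hu
  have hg1 : (G t).det = 1 := by rw [hdet, htdef]; field_simp
  let g : GL (Fin 3) F := mkGL (G t) (by rw [hg1]; exact one_ne_zero)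
  have hcol : ∀ j : Fin 3, (g : Matrix (Fin 3) (Fin 3) F) *ᵥ ((Y ^ (j : ℕ)) *ᵥ x) =
      (![t • u, v, μ⁻¹ • w]) j := by
    intro j
    have e : (Y ^ (j : ℕ)) *ᵥ x = K *ᵥ Pi.single j 1 := by
      rw [mulVec_single_one]; rfl
    rw [e, coe_mkGL, mulVec_mulVec, hG, Matrix.mul_assoc, Matrix.nonsing_inv_mul _ hx.isUnit,
      Matrix.mul_one, mulVec_single_one]
    rfl
  have hX : ∀ z, cj g Y *ᵥ ((g : Matrix (Fin 3) (Fin 3) F) *ᵥ z) =
      (g : Matrix (Fin 3) (Fin 3) F) *ᵥ (Y *ᵥ z) := fun z => by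
    rw [mulVec_mulVec, ← (cj_eq_iff g Y _).1 rfl, ← mulVec_mulVec]
  have c0 := hcol 0
  have c1 := hcol 1
  have c2 := hcol 2
  simp only [Fin.val_zero, Fin.val_one, Fin.val_two, pow_zero, pow_one, one_mulVec,
    Matrix.cons_val_zero, Matrix.cons_val_one, Matrix.cons_val] at c0 c1 c2
  have hXu : cj g Y *ᵥ (t • u) = v := by rw [← c0, hX, c1]
  have hXv : cj g Y *ᵥ v = μ⁻¹ • w := by
    conv_lhs => rw [← c1, hX, mulVec_mulVec _ Y Y, ← pow_two, c2]
  set X₀ := cj g Y with hX₀
  have hX₀d : X₀.det = 1 := by rw [hX₀, cj_det, hYd]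
  have hXu' : IsUnit X₀.det := by rw [hX₀d]; exact isUnit_one
  set Z := X₀⁻¹ with hZ
  have hZv : Z *ᵥ v = t • u := by
    rw [← hXu, mulVec_mulVec, hZ, Matrix.nonsing_inv_mul _ hXu', one_mulVec]
  have hZw : Z *ᵥ w = μ • v := by
    have : w = μ • (X₀ *ᵥ v) := by rw [hXv, smul_smul, mul_inv_cancel₀ hμ, one_smul]
    rw [this, mulVec_smul, mulVec_mulVec, hZ, Matrix.nonsing_inv_mul _ hXu', one_mulVec]
  set q := N ⬝ᵥ (A *ᵥ (t • u)) with hq
  have hq0 : q ≠ 0 := by
    rw [hq, mulVec_smul, dotProduct_smul, smul_eq_mul]; exact mul_ne_zero ht0 hAu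
  set s := ((Z * A).trace - (μ + γ + δ)) / q with hs
  set V : Matrix (Fin 3) (Fin 3) F := vecMulVec v N with hV
  have hT : ∀ r : F, ((1 : Matrix (Fin 3) (Fin 3) F) + r • V).det = 1 := fun r => by
    rw [hV, ← Matrix.vecMulVec_smul, det_one_add_vvec, smul_dotProduct, hNv, smul_zero, add_zero]
  let T : GL (Fin 3) F := mkGL (1 + s • V) (by rw [hT]; exact one_ne_zero)
  have hVV : V * V = 0 := by
    rw [hV, vecMulVec_mul_vecMulVec, hNv]; simp
  have hTi : ((T⁻¹ : GL (Fin 3) F) : Matrix (Fin 3) (Fin 3) F) = 1 - s • V := by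
    rw [Matrix.coe_units_inv, coe_mkGL]
    refine Matrix.inv_eq_left_inv ?_
    rw [sub_mul, mul_add, mul_add, one_mul, one_mul, Matrix.mul_one, Matrix.smul_mul, Matrix.mul_smul, hVV]
    simp
  set M := cj T Z * A with hM
  have hTfix : ∀ z, N ⬝ᵥ z = 0 → ((T⁻¹ : GL (Fin 3) F) : Matrix (Fin 3) (Fin 3) F) *ᵥ z = z ∧
      (T : Matrix (Fin 3) (Fin 3) F) *ᵥ z = z := fun z hz => by
    rw [hTi, coe_mkGL]
    constructor <;> simp [hV, sub_mulVec, add_mulVec, smul_mulVec, vecMulVec_mulVec, hz]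
  have hMv : M *ᵥ v = μ • v := by
    rw [hM, ← mulVec_mulVec, ← hw, cj, ← mulVec_mulVec, (hTfix w hNw).1, ← mulVec_mulVec, hZw,
      mulVec_smul, (hTfix v hNv).2]
  have hMd : M.det = 1 := by
    rw [hM, det_mul, cj_det, hZ, det_nonsing_inv, hX₀d, hAd, Ring.inverse_one, mul_one]
  have htrV : ∀ B : Matrix (Fin 3) (Fin 3) F, (V * B).trace = N ⬝ᵥ (B *ᵥ v) := fun B => by
    rw [hV, Matrix.vecMulVec_mul, Matrix.trace_vecMulVec, dotProduct_comm, ← dotProduct_mulVec]
  have hMt : M.trace = μ + γ + δ := by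
    have e1 : (V * (Z * A)).trace = 0 := by
      rw [htrV, ← mulVec_mulVec, ← hw, hZw, dotProduct_smul, hNv, smul_zero]
    have e2 : (Z * V * A).trace = q := by
      rw [Matrix.mul_assoc, Matrix.trace_mul_comm, Matrix.mul_assoc, htrV, ← mulVec_mulVec, hZv, hq]
    have e3 : (V * Z * V * A).trace = 0 := by
      rw [show V * Z * V * A = V * (Z * V * A) by simp only [Matrix.mul_assoc], htrV,
        ← mulVec_mulVec, ← hw, ← mulVec_mulVec, hV, vecMulVec_mulVec, hNw]
      simp
    have hexp : M = Z * A + s • (V * (Z * A)) - s • (Z * V * A) - (s * s) • (V * Z * V * A) := by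
      rw [hM, cj, hTi, coe_mkGL]
      simp only [Matrix.add_mul, Matrix.mul_sub, Matrix.sub_mul, Matrix.smul_mul, Matrix.mul_smul,
        Matrix.one_mul, Matrix.mul_one, Matrix.mul_assoc, smul_add, smul_smul]
      abel
    rw [hexp]
    simp only [Matrix.trace_sub, Matrix.trace_add, Matrix.trace_smul, e1, e2, e3, smul_eq_mul, hs]
    field_simp
    ring
  have hspec : CycSpec ![μ, γ, δ] M :=
    cycSpec_three hv hMv hμ (by rw [hMd, hprod]) hMt h1 h2 h3
  have h := (sprod_one Y (T * g) (by rw [Units.val_mul, det_mul, coe_mkGL, coe_mkGL, hT, hg1, one_mul])).mul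
    (hpair M hspec)
  rw [← cj_cj, hM, ← mul_assoc, ← cj_mul, hZ, Matrix.mul_nonsing_inv _ hXu',
    show cj T (1 : Matrix (Fin 3) (Fin 3) F) = 1 by simp [cj], one_mul] at h
  exact h

/-- Non-scalar elements in dimension three. -/
theorem cover_three (h4 : 4 ≤ Fintype.card F) {Y A : Matrix (Fin 3) (Fin 3) F} (hY : ¬ IsScal Y)
    (hYd : Y.det = 1) (hA : ¬ IsScal A) (hAd : A.det = 1) : SProd Y 3 A := by
  classical
  have h3 := h3_of_card h4
  rcases exists_shape hY hYd with ⟨l, hl⟩ | ⟨m, r, t, e, Y', l, hr, hm2, hmr, ht, -, hd, -, hroot, hs⟩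
  swap
  · obtain rfl : m = 2 := by omega
    exact (cover_refl h4 (by omega) hYd ht (isRefl_shape ht hd hroot e hs) hAd (Or.inl hA)).sprod
      (flex_split hr e hs)
  obtain ⟨c, hs, hmem⟩ := cyclic_three_of_dec hl
  have hcyc : Cyclic Y := (cyclic_comp c).of_sim hs.symm
  set f := (comp c).charpoly with hf
  have hfd : f.natDegree = 3 := by rw [hf, charpoly_natDegree_eq_dim, Fintype.card_fin]
  have hf0 : f.coeff 0 = -1 := by
    have := Matrix.det_eq_sign_charpoly_coeff (comp c)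
    rw [← hs.det_eq, hYd, ← hf, Fintype.card_fin] at this
    linear_combination this
  obtain ⟨a, ha0, ha1, -, ham⟩ := exists_tau h4 1 1
  have hinv : a⁻¹ ≠ a := fun e => by
    have h1 : a * a = 1 := by nth_rw 1 [← e]; exact inv_mul_cancel₀ ha0
    exact (mul_self_eq_one_iff.1 h1).elim ha1 ham
  have hinv1 : a⁻¹ ≠ 1 := fun e => ha1 (inv_eq_one.1 e)
  by_cases hflex : Flex Y
  · obtain ⟨R, hG, -⟩ := goodEx_zpiece (m := 0) h3 c ha0 one_ne_zero ha1 (b := a⁻¹)
      (by rw [← hf, hf0]; field_simp; simp) (inv_ne_zero ha0) hinv1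
    have hG' := (hG.of_sim hs.symm).flex hflex
    refine flag_cover hcyc hYd hA hAd hinv hinv1 ha1 (by field_simp) ?_
    refine spair_of_good (by norm_num) hG' (Or.inl hflex) ?_
    simp [rpoly, Fin.prod_univ_three, Multiset.replicate_one, mul_assoc]
  have hst := stiff_of_not_flex hl hflex
  by_cases hr : ∀ x, f.eval x ≠ 0
  · exfalso
    refine hst.irr f hmem ?_
    rw [Polynomial.Monic.irreducible_iff_roots_eq_zero_of_degree_le_three
      (show f.Monic from charpoly_monic _) (by omega) (by omega)]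
    exact Multiset.eq_zero_of_forall_notMem fun x hx =>
      hr x ((Polynomial.mem_roots (charpoly_monic _).ne_zero).1 hx)
  push Not at hr
  obtain ⟨α, hα⟩ := hr
  obtain ⟨q, hq⟩ := dvd_iff_isRoot.2 (hα : f.IsRoot α)
  have hqm : q.Monic := (monic_X_sub_C α).of_mul_monic_left (hq ▸ (charpoly_monic _))
  have hqdeg : q.natDegree = 2 := by
    have := congrArg natDegree hq
    rw [natDegree_mul (X_sub_C_ne_zero α) hqm.ne_zero, natDegree_X_sub_C] at this
    omega
  have hqα := hst.simple f hmem α q hq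
  obtain ⟨q', hq'⟩ := dvd_iff_isRoot.2 (hqα : q.IsRoot α)
  have hq'm : q'.Monic := (monic_X_sub_C α).of_mul_monic_left (hq' ▸ hqm)
  have hq'd : q'.natDegree = 1 := by
    have := congrArg natDegree hq'
    rw [natDegree_mul (X_sub_C_ne_zero α) hq'm.ne_zero, natDegree_X_sub_C] at this
    omega
  obtain ⟨β, hβ⟩ : ∃ β, q' = X - C β := ⟨-q'.coeff 0, by
    conv_lhs => rw [hq'm.eq_X_add_C hq'd]
    rw [map_neg, sub_neg_eq_add]⟩
  have hαβ : β = α := by
    have := hst.simple f hmem β ((X - C α) * (X - C α)) (by rw [hq, hq', hβ]; ring)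
    simpa [sub_eq_zero] using this
  rw [hαβ] at hβ
  rw [hβ] at hq'
  have hq0 : q.coeff 0 = α * α := by rw [hq', double_coeff_zero]
  have hα3 : α ^ 3 = 1 := by
    have : f.coeff 0 = -α * q.coeff 0 := by rw [hq, mul_coeff_zero]; simp
    rw [hf0, hq0] at this
    linear_combination this
  have hα0 : α ≠ 0 := fun h0 => by simp [h0] at hα3
  set u := α * α with hu'
  have hu : u ≠ 0 := mul_ne_zero hα0 hα0
  obtain ⟨τ, hτ0, hτu, -, hτu'⟩ := exists_tau h4 u u
  have htop : topF q τ = u * u / τ := by rw [topF, hqdeg, hq0, hu']; ring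
  have hne : topF q τ ≠ τ := fun e => by
    rw [htop, div_eq_iff hτ0, eq_comm, mul_self_eq_mul_self_iff] at e
    exact e.elim hτu hτu'
  have hne2 : topF q τ ≠ u := fun e => by
    rw [htop, div_eq_iff hτ0] at e
    exact hτu (mul_left_cancel₀ hu e).symm
  obtain ⟨e₂, p, hsplit⟩ := sim_split c (monic_X_sub_C α) hqm (natDegree_X_sub_C α) hqdeg one_pos
    two_pos (hf.symm.trans hq)
  rw [comp_linear] at hsplit
  obtain ⟨a₁, b₁, hP⟩ := goodEx_piece h3 _ (charpoly_comp (d := 2) hqm hqdeg two_pos)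
    (by rw [hq0]; exact hu) hτ0 (Or.inr hne)
  have hall := GoodAll.join_right hP (goodAll_single α) (by simpa using hα0)
    (fun x _ _ h1 h2 => hne2 ((Set.mem_singleton_iff.1 h1.1).symm.trans (Set.mem_singleton_iff.1 h2))) p
  have hG' := ((hall.reindex e₂).of_sim hsplit.symm).of_sim hs.symm
  refine flag_cover hcyc hYd hA hAd (μ := topF q τ) (γ := τ) (δ := u) hne hne2 hτu ?_ ?_
  · rw [htop, div_mul_cancel₀ _ hτ0, hu']
    linear_combination (α ^ 3 + 1) * hα3
  refine spair_of_good (by norm_num) hG' (Or.inr ⟨u, ?_⟩) ?_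
  · simp [specF, hqdeg, Multiset.count_cons, Multiset.count_singleton, hne2.symm, hτu.symm, ← hu']
  · simp [rpoly, specF, hqdeg, Fin.prod_univ_three, mul_assoc, hu']

end CfsgLib.LevCover
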