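import Cfsg.Agent.Lib.LevCover.Border

/-!
# Sourour's triangular factorisation

A non-scalar matrix is similar to a product of a lower and an upper triangular matrix with
prescribed diagonals.
-/

set_option autoImplicit false

namespace CfsgLib.LevCover

open Matrix

variable {F : Type*} [Field F]

/-- The first point followed by the others. -/
def headEquiv (n : ℕ) : Unit ⊕ Fin n ≃ Fin (n + 1) where
  toFun := Sum.elim (fun _ => 0) Fin.succ
  invFun := Fin.cases (Sum.inl ()) Sum.inr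
  left_inv x := by rcases x with ⟨⟩ | i <;> simp
  right_inv x := by induction x using Fin.cases <;> simp

@[simp] theorem headEquiv_inl {n : ℕ} (u : Unit) : headEquiv n (Sum.inl u) = 0 := rfl
@[simp] theorem headEquiv_inr {n : ℕ} (i : Fin n) : headEquiv n (Sum.inr i) = i.succ := rfl
@[simp] theorem headEquiv_symm_zero {n : ℕ} : (headEquiv n).symm 0 = Sum.inl () := rfl
@[simp] theorem headEquiv_symm_succ {n : ℕ} (i : Fin n) : (headEquiv n).symm i.succ = Sum.inr i := by
  simp [headEquiv]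

/-- The matrix on `Fin (n + 1)` with corner, row, column and remainder. -/
def hd {n : ℕ} (a : F) (r c : Fin n → F) (A : Matrix (Fin n) (Fin n) F) :
    Matrix (Fin (n + 1)) (Fin (n + 1)) F :=
  Matrix.reindexAlgEquiv F F (headEquiv n) (blk a r c A)

variable {n : ℕ} {a : F} {r c : Fin n → F} {A : Matrix (Fin n) (Fin n) F}

@[simp] theorem hd_zero_zero : hd a r c A 0 0 = a := by simp [hd, blk]
@[simp] theorem hd_zero_succ (j : Fin n) : hd a r c A 0 j.succ = r j := by simp [hd, blk]
@[simp] theorem hd_succ_zero (i : Fin n) : hd a r c A i.succ 0 = c i := by simp [hd, blk]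
@[simp] theorem hd_succ_succ (i j : Fin n) : hd a r c A i.succ j.succ = A i j := by simp [hd, blk]

theorem hd_mul (a a' : F) (r r' c c' : Fin n → F) (A A' : Matrix (Fin n) (Fin n) F) :
    hd a r c A * hd a' r' c' A' =
      hd (a * a' + r ⬝ᵥ c') (a • r' + r ᵥ* A') (a' • c + A *ᵥ c') (vecMulVec c r' + A * A') := by
  rw [hd, hd, ← map_mul, blk_mul]
  rfl

theorem isScal_reindex {ι κ : Type*} [Fintype ι] [DecidableEq ι] [Fintype κ] [DecidableEq κ]
    (e : ι ≃ κ) (A : Matrix ι ι F) : IsScal (Matrix.reindexAlgEquiv F F e A) ↔ IsScal A := by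
  constructor
  · rintro ⟨c, hc⟩
    exact ⟨c, (Matrix.reindexAlgEquiv F F e).injective (by rw [hc, map_smul, map_one])⟩
  · rintro ⟨c, rfl⟩
    exact ⟨c, by rw [map_smul, map_one]⟩

theorem exists_hd (B : Matrix (Fin (n + 1)) (Fin (n + 1)) F) :
    ∃ a r c A, B = hd a r c A :=
  ⟨_, _, _, _, by
    rw [hd, ← eq_blk ((Matrix.reindexAlgEquiv F F (headEquiv n)).symm B)]
    exact ((Matrix.reindexAlgEquiv F F (headEquiv n)).apply_symm_apply B).symm⟩

theorem sim_hd_of_nonscalar {B : Matrix (Fin (n + 1)) (Fin (n + 1)) F} (hB : ¬ IsScal B) (a : F)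
    {c₀ : Fin n → F} (hc : c₀ ≠ 0) : ∃ r A, Sim B (hd a r c₀ A) := by
  obtain ⟨r, A, h⟩ := exists_border (A := (Matrix.reindexAlgEquiv F F (headEquiv n)).symm B)
    (fun h => hB (by
      have := (isScal_reindex (headEquiv n) _).2 h
      rwa [AlgEquiv.apply_symm_apply] at this)) a hc
  refine ⟨r, A, ?_⟩
  have := h.reindex (headEquiv n)
  rwa [AlgEquiv.apply_symm_apply] at this

theorem det_hd (a : F) (ha : a ≠ 0) (r c : Fin n → F) (A : Matrix (Fin n) (Fin n) F) :
    (hd a r c A).det = a * (A - a⁻¹ • vecMulVec c r).det := by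
  rw [hd, Matrix.det_reindexAlgEquiv, det_blk a ha]

/-- Upper conjugation on `Fin (n + 1)`. -/
theorem sim_hd_upper (x : Fin n → F) (a : F) (r c : Fin n → F) (A : Matrix (Fin n) (Fin n) F) :
    Sim (hd a r c A)
      (hd (a + x ⬝ᵥ c) (r + x ᵥ* A - (a + x ⬝ᵥ c) • x) c (A - vecMulVec c x)) :=
  (sim_upper x a r c A).reindex (headEquiv n)

theorem sim_hd_inner (Q : GL (Fin n) F) (a : F) (r c : Fin n → F) (A : Matrix (Fin n) (Fin n) F) :
    Sim (hd a r c A)
      (hd a (r ᵥ* ((Q⁻¹ : GL (Fin n) F) : Matrix (Fin n) (Fin n) F))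
        ((Q : Matrix (Fin n) (Fin n) F) *ᵥ c) (cj Q A)) :=
  (sim_inner Q a r c A).reindex (headEquiv n)

theorem blockTriangular_hd_lower {L : Matrix (Fin n) (Fin n) F}
    (hL : ∀ i j, i < j → L i j = 0) (a : F) (c : Fin n → F) :
    ∀ i j, i < j → hd a 0 c L i j = 0 := by
  intro i j h
  induction i using Fin.cases with
  | zero =>
    induction j using Fin.cases with
    | zero => exact absurd h (lt_irrefl _)
    | succ j => simp
  | succ i =>
    induction j using Fin.cases with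
    | zero => exact absurd h (by simp)
    | succ j => simpa using hL i j (by simpa using h)

theorem blockTriangular_hd_upper {U : Matrix (Fin n) (Fin n) F}
    (hU : ∀ i j, j < i → U i j = 0) (a : F) (r : Fin n → F) :
    ∀ i j, j < i → hd a r 0 U i j = 0 := by
  intro i j h
  induction i using Fin.cases with
  | zero => exact absurd h (by simp)
  | succ i =>
    induction j using Fin.cases with
    | zero => simp
    | succ j => simpa using hU i j (by simpa using h)

/-- A non-zero vector orthogonal to a given one. -/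
theorem exists_perp (hn : 2 ≤ n) (c : Fin n → F) : ∃ x : Fin n → F, x ≠ 0 ∧ x ⬝ᵥ c = 0 := by
  let i : Fin n := ⟨0, by omega⟩
  let j : Fin n := ⟨1, by omega⟩
  have hij : i ≠ j := by simp [i, j]
  by_cases hi : c i = 0
  · exact ⟨Pi.single i 1, by simp, by simp [hi]⟩
  · refine ⟨Pi.single i (c j) - Pi.single j (c i), fun h => hi ?_, ?_⟩
    · have := congrFun h j
      simpa [Pi.single_apply, hij.symm] using this
    · simp [sub_dotProduct, mul_comm]

/-- One step keeping the complement non-scalar. -/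
theorem exists_pivot {n : ℕ} {B : Matrix (Fin (n + 1)) (Fin (n + 1)) F} (hB : ¬ IsScal B)
    (hn : 2 ≤ n) {a : F} (ha : a ≠ 0) (hdet : B.det ≠ 0) :
    ∃ r c A, Sim B (hd a r c A) ∧ ¬ IsScal (A - a⁻¹ • vecMulVec c r) := by
  have hc₀ : (Pi.single ⟨0, by omega⟩ 1 : Fin n → F) ≠ 0 := by simp
  obtain ⟨r, A, hsim⟩ := sim_hd_of_nonscalar hB a hc₀
  set c : Fin n → F := Pi.single ⟨0, by omega⟩ 1 with hc
  by_cases hs : IsScal (A - a⁻¹ • vecMulVec c r)
  swap
  · exact ⟨r, c, A, hsim, hs⟩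
  obtain ⟨l, hl⟩ := hs
  obtain ⟨x, hx, hxc⟩ := exists_perp hn c
  have hl0 : l ≠ 0 := by
    intro h
    rw [hsim.det_eq, det_hd a ha, hl, h, zero_smul] at hdet
    haveI : Nonempty (Fin n) := ⟨⟨0, by omega⟩⟩
    simp at hdet
  have h2 := hsim.trans (sim_hd_upper x a r c A)
  rw [hxc, add_zero] at h2
  refine ⟨_, c, _, h2, ?_⟩
  rintro ⟨l', hl'⟩
  have hxA : x ᵥ* A = l • x := by
    have : A = l • 1 + a⁻¹ • vecMulVec c r := by rw [← hl]; abel
    rw [this]
    simp [vecMul_add, vecMul_smul, vecMul_vecMulVec, hxc]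
  have hdiff : (l - l') • (1 : Matrix (Fin n) (Fin n) F) = (a⁻¹ * l) • vecMulVec c x := by
    rw [sub_smul, ← hl, ← hl', hxA]
    simp only [vecMulVec_add, vecMulVec_smul, vecMulVec_sub, smul_add, smul_sub, smul_smul,
      inv_mul_cancel₀ ha, one_smul]
    abel
  obtain ⟨j, hj⟩ := Function.ne_iff.1 hx
  have hi₁ : ∀ i, i ≠ (⟨0, by omega⟩ : Fin n) → c i = 0 := fun i hi => by simp [hc, hi]
  have e := congrFun (congrFun hdiff ⟨0, by omega⟩) j
  have e' := congrFun (congrFun hdiff ⟨1, by omega⟩) ⟨1, by omega⟩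
  simp [vecMulVec_apply, hc, Matrix.one_apply] at e e'
  rw [sub_eq_zero] at e'
  rw [e', sub_self] at e
  simp [ha, hl0] at e
  rcases e with e | e
  · exact hl0 (e'.trans e)
  · exact hj (by simpa using e)

/-- Sourour's theorem. -/
theorem exists_lu : ∀ (n : ℕ) (B : Matrix (Fin n) (Fin n) F), (n ≤ 1 ∨ ¬ IsScal B) →
    ∀ α β : Fin n → F, (∀ i, α i ≠ 0) → (∀ i, β i ≠ 0) → B.det = ∏ i, α i * β i →
      ∃ L U : Matrix (Fin n) (Fin n) F, (∀ i j, i < j → L i j = 0) ∧ (∀ i, L i i = α i) ∧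
        (∀ i j, j < i → U i j = 0) ∧ (∀ i, U i i = β i) ∧ Sim B (L * U) := by
  intro n
  induction n with
  | zero =>
    intro B _ α β _ _ _
    exact ⟨1, 1, fun i => i.elim0, fun i => i.elim0, fun i => i.elim0, fun i => i.elim0,
      by convert Sim.refl B; exact Subsingleton.elim _ _⟩
  | succ n ih =>
    intro B hB α β hα hβ hdet
    by_cases hn : n = 0
    · subst hn
      refine ⟨Matrix.diagonal α, Matrix.diagonal β, fun i j h => absurd h (by simp [Fin.fin_one_eq_zero]),
        fun i => by simp, fun i j h => absurd h (by simp [Fin.fin_one_eq_zero]), fun i => by simp, ?_⟩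
      convert Sim.refl B
      ext i j
      rw [Fin.fin_one_eq_zero i, Fin.fin_one_eq_zero j, diagonal_mul_diagonal, diagonal_apply_eq]
      simpa using hdet.symm
    have hB' := hB.resolve_left (by omega)
    set a := α 0 * β 0 with haeq
    have ha : a ≠ 0 := mul_ne_zero (hα 0) (hβ 0)
    have hd0 : B.det ≠ 0 := by
      rw [hdet]; exact Finset.prod_ne_zero_iff.2 fun i _ => mul_ne_zero (hα i) (hβ i)
    obtain ⟨r, c, A, hsim, hns⟩ : ∃ r c A, Sim B (hd a r c A) ∧
        (n ≤ 1 ∨ ¬ IsScal (A - a⁻¹ • vecMulVec c r)) := by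
      by_cases hn2 : 2 ≤ n
      · obtain ⟨r, c, A, h1, h2⟩ := exists_pivot hB' hn2 ha hd0
        exact ⟨r, c, A, h1, Or.inr h2⟩
      · obtain ⟨r, A, h⟩ := sim_hd_of_nonscalar (n := n) hB' a
          (c₀ := Pi.single ⟨0, by omega⟩ 1) (by simp)
        exact ⟨r, _, A, h, Or.inl (by omega)⟩
    have hdA : (A - a⁻¹ • vecMulVec c r).det = ∏ i : Fin n, α i.succ * β i.succ := by
      rw [hsim.det_eq, det_hd a ha, Fin.prod_univ_succ] at hdet
      exact mul_left_cancel₀ ha hdet
    obtain ⟨L, U, hL, hLd, hU, hUd, g, hg⟩ := ih _ hns (fun i => α i.succ) (fun i => β i.succ)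
      (fun i => hα _) (fun i => hβ _) hdA
    have h2 := hsim.trans (sim_hd_inner g a r c A)
    set r' := r ᵥ* ((g⁻¹ : GL (Fin n) F) : Matrix (Fin n) (Fin n) F) with hr'
    set c' := (g : Matrix (Fin n) (Fin n) F) *ᵥ c with hc'
    have hrem : cj g A = a⁻¹ • vecMulVec c' r' + L * U := by
      rw [← hg, hr', hc', cj, cj, mul_sub, sub_mul, ← sub_eq_iff_eq_add']
      congr 1
      rw [Matrix.mul_smul, Matrix.smul_mul, mul_vecMulVec, vecMulVec_mul]
    refine ⟨hd (α 0) 0 ((β 0)⁻¹ • c') L, hd (β 0) ((α 0)⁻¹ • r') 0 U,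
      blockTriangular_hd_lower hL _ _, fun i => ?_, blockTriangular_hd_upper hU _ _, fun i => ?_,
      ?_⟩
    · induction i using Fin.cases <;> simp [hLd]
    · induction i using Fin.cases <;> simp [hUd]
    · convert h2 using 1
      rw [hd_mul]
      congr 1
      · simp [haeq]
      · simp [smul_smul, mul_inv_cancel₀ (hα 0)]
      · simp [smul_smul, mul_inv_cancel₀ (hβ 0)]
      · rw [hrem, smul_vecMulVec, vecMulVec_smul, smul_smul, haeq, _root_.mul_inv_rev]

end CfsgLib.LevCover
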