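import Cfsg.Agent.Lib.LevCover.Factor
import Cfsg.Agent.Lib.LevCover.Refl

/-!
# A non-scalar matrix as a product of two split cyclic matrices
-/

set_option autoImplicit false

namespace CfsgLib.LevCover

open Matrix Module Polynomial

variable {F : Type*} [Field F] {n : ℕ}

/-- Split cyclic with the given spectrum. -/
def CycSpec (z : Fin n → F) (H : Matrix (Fin n) (Fin n) F) : Prop :=
  Cyclic H ∧ H.charpoly = ∏ i, (X - C (z i))

/-- No common right eigenvector, or no common left one, for the scalar `x`. -/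
def NoCommon (H K : Matrix (Fin n) (Fin n) F) (x : F) : Prop :=
  (∀ v : Fin n → F, H *ᵥ v = x • v → K *ᵥ v = x • v → v = 0) ∨
    ∀ l : Fin n → F, l ᵥ* H = x • l → l ᵥ* K = x • l → l = 0

theorem CycSpec.of_sim {z : Fin n → F} {H H' : Matrix (Fin n) (Fin n) F} (h : Sim H H')
    (hH : CycSpec z H) : CycSpec z H' := ⟨hH.1.of_sim h, h.charpoly_eq ▸ hH.2⟩

theorem CycSpec.sim {z : Fin n → F} {H H' : Matrix (Fin n) (Fin n) F} (hH : CycSpec z H)
    (hH' : CycSpec z H') : Sim H H' := hH.1.sim hH'.1 (hH.2.trans hH'.2.symm)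

theorem CycSpec.det_eq {z : Fin n → F} {H : Matrix (Fin n) (Fin n) F} (hH : CycSpec z H) :
    H.det = ∏ i, z i := by
  rw [Matrix.det_eq_sign_charpoly_coeff, hH.2, Polynomial.coeff_zero_eq_eval_zero, eval_prod,
    Fintype.card_fin]
  simp [Finset.prod_neg, ← mul_assoc, ← pow_add]

/-- The bidiagonal matrix. -/
def bidiag (z : Fin n → F) : Matrix (Fin n) (Fin n) F :=
  Matrix.of fun i j => if i = j then z i else if (i : ℕ) = (j : ℕ) + 1 then 1 else 0

theorem linked_bidiag (z : Fin n → F) : Linked z (bidiag z) := by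
  refine ⟨fun i j hij => ?_, fun i => by simp [bidiag], fun i j hij => ?_⟩
  · have : (i : ℕ) ≠ (j : ℕ) + 1 := by rw [Fin.lt_def] at hij; omega
    simp [bidiag, hij.ne, this]
  · have : i ≠ j := fun e => by rw [e] at hij; omega
    simp [bidiag, this, hij]

theorem exists_cycSpec_comp {z : Fin n → F} (hz : Contig z) :
    ∃ c : Fin n → F, CycSpec z (comp c) := by
  obtain ⟨v, hv⟩ := (linked_bidiag z).cyclic hz
  exact ⟨_, cyclic_comp _, (sim_comp_charpoly hv).charpoly_eq.trans (linked_bidiag z).charpoly_eq⟩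

theorem comp_single {c : Fin n → F} {j : Fin n} (hj : (j : ℕ) + 1 < n) :
    comp c *ᵥ Pi.single j 1 = Pi.single ⟨(j : ℕ) + 1, hj⟩ 1 := by
  funext i
  simp [comp, mulVec_single_one, col_apply, hj, Pi.single_apply, Fin.ext_iff]

/-- The companion pair. -/
theorem exists_comp_pair {z w : Fin (n + 1) → F} (hz : Contig z) (hw : Contig w) {ν : F}
    (hν : ν ≠ 0) :
    ∃ (c : Fin (n + 1) → F) (K : Matrix (Fin (n + 1)) (Fin (n + 1)) F),
      CycSpec z (comp c) ∧ CycSpec w K ∧
      (∀ j : Fin n, K *ᵥ Pi.single j.succ 1 = ν • Pi.single j.castSucc 1) ∧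
      ∀ j : Fin n, (comp c * K) *ᵥ Pi.single j.succ 1 = ν • Pi.single j.succ 1 := by
  obtain ⟨c, hc⟩ := exists_cycSpec_comp hz
  obtain ⟨c', hc'⟩ := exists_cycSpec_comp hw
  let P : Matrix (Fin (n + 1)) (Fin (n + 1)) F :=
    Matrix.of fun i j => if i = j.rev then ν ^ (j : ℕ) else 0
  have hP : P.det ≠ 0 := by
    intro h
    obtain ⟨l, hl0, hl⟩ := Matrix.exists_vecMul_eq_zero_iff.2 h
    refine hl0 (funext fun i => ?_)
    have := congrFun hl i.rev
    simpa [P, vecMul, dotProduct, hν] using this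
  have hcol : ∀ j : Fin (n + 1), P *ᵥ Pi.single j 1 = ν ^ (j : ℕ) • Pi.single j.rev 1 := by
    intro j
    funext i
    simp [P, mulVec_single_one, col_apply, Pi.single_apply]
  set K := cj (mkGL P hP) (comp c') with hK
  have hKe : ∀ j : Fin n, K *ᵥ Pi.single j.succ 1 = ν • Pi.single j.castSucc 1 := by
    intro j
    let i : Fin (n + 1) := j.succ.rev
    have hi : (i : ℕ) + 1 < n + 1 := by
      have := j.2
      simp only [i, Fin.val_rev, Fin.val_succ]
      omega
    have hiv : (i : ℕ) = n - ((j : ℕ) + 1) := by simp [i, Fin.val_rev]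
    have e : K * P = P * comp c' := ((cj_eq_iff (mkGL P hP) _ K).1 hK.symm).symm
    have e' := congrArg (fun M => M *ᵥ Pi.single i (1 : F)) e
    simp only [← mulVec_mulVec, comp_single hi, hcol, mulVec_smul] at e'
    have h1 : i.rev = j.succ := Fin.rev_rev _
    have h2 : (⟨(i : ℕ) + 1, hi⟩ : Fin (n + 1)).rev = j.castSucc := by
      ext; simp [Fin.val_rev, i]; omega
    rw [h1, h2, pow_succ, mul_smul] at e'
    exact smul_right_injective _ (pow_ne_zero _ hν) e'
  refine ⟨c, K, hc, hc'.of_sim ⟨_, hK.symm⟩, hKe, fun j => ?_⟩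
  rw [← mulVec_mulVec, hKe, mulVec_smul, comp_single (by simp)]
  rfl

theorem rank_one_refl {A : Matrix (Fin n) (Fin n) F} {ν : F} (hν : ν ≠ 0) (hA : ¬ IsScal A)
    (hr : rk A ν ≤ 1) : IsRefl (ν⁻¹ • A).det (ν⁻¹ • A) := by
  refine ⟨rfl, fun h => hA ⟨ν, ?_⟩, ?_⟩
  · rw [← h, smul_smul, mul_inv_cancel₀ hν, one_smul]
  obtain ⟨u, hu⟩ : ∃ u : Fin n → F, LinearMap.range (sh A ν) ≤ F ∙ u := by
    obtain ⟨u, hu⟩ := finrank_le_one_iff.1 hr
    exact ⟨u, fun x hx => by
      obtain ⟨t, ht⟩ := hu ⟨x, hx⟩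
      exact Submodule.mem_span_singleton.2 ⟨t, congrArg Subtype.val ht⟩⟩
  choose w hw using fun j => Submodule.mem_span_singleton.1
    (hu (LinearMap.mem_range_self (sh A ν) (Pi.single j 1)))
  refine ⟨ν⁻¹ • u, w, ?_⟩
  ext i j
  have := congrFun (hw j) i
  simp [sh_apply, mulVec_single_one, col_apply, Pi.single_apply] at this
  simp [Matrix.one_apply, vecMulVec_apply]
  split_ifs at this ⊢ with h <;> field_simp <;> linear_combination -this

theorem sim_of_rank_one {A B : Matrix (Fin n) (Fin n) F} {ν : F} (hν : ν ≠ 0) (hA : ¬ IsScal A)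
    (hr : rk A ν ≤ 1) (hB : IsRefl B.det B) (hd : (ν • B).det = A.det) : Sim A (ν • B) := by
  have h1 := rank_one_refl hν hA hr
  have hd' : B.det = (ν⁻¹ • A).det := by
    rw [Matrix.det_smul, ← hd, Matrix.det_smul, ← mul_assoc, ← mul_pow, inv_mul_cancel₀ hν, one_pow,
      one_mul]
  rw [hd'] at hB
  obtain ⟨g, hg⟩ := IsRefl.sim h1 hB
  refine ⟨g, ?_⟩
  rw [← hg]
  simp [cj, smul_smul, mul_inv_cancel₀ hν]

/-- The companion case. -/
theorem pair_of_ne {A : Matrix (Fin (n + 2)) (Fin (n + 2)) F} (hA : ¬ IsScal A) {ν : F}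
    (hν : ν ≠ 0) (hr : rk A ν ≤ 1) {z w : Fin (n + 2) → F} {c : Fin (n + 2) → F}
    {K : Matrix (Fin (n + 2)) (Fin (n + 2)) F} (hH : CycSpec z (comp c)) (hK : CycSpec w K)
    (hdet : A.det = ∏ i, z i * w i)
    (hKe : ∀ j : Fin (n + 1), K *ᵥ Pi.single j.succ 1 = ν • Pi.single j.castSucc 1)
    (hfix : ∀ j : Fin (n + 1), (comp c * K) *ᵥ Pi.single j.succ 1 = ν • Pi.single j.succ 1)
    (hne : comp c * K ≠ ν • 1) {x : F} (hx : x ≠ 0) :
    Sim A (comp c * K) ∧ NoCommon (comp c) K x := by
  set B := ν⁻¹ • (comp c * K) with hB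
  set u := B *ᵥ Pi.single 0 1 - Pi.single 0 1 with hu
  have hBeq : B = 1 + vecMulVec u (Pi.single 0 1) := by
    ext i j
    induction j using Fin.cases with
    | zero => simp [hu, mulVec_single_one, col_apply, vecMulVec_apply, Matrix.one_apply, Pi.single_apply]
    | succ j =>
      have := congrFun (hfix j) i
      simp [mulVec_single_one, col_apply] at this
      simp [hB, this, smul_smul, inv_mul_cancel₀ hν, vecMulVec_apply, Matrix.one_apply, Pi.single_apply]
  have hν' : comp c * K = ν • B := by rw [hB, smul_smul, mul_inv_cancel₀ hν, one_smul]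
  have hB1 : B ≠ 1 := fun h => hne (by rw [hν', h])
  have hd : (ν • B).det = A.det := by
    rw [← hν', det_mul, hH.det_eq, hK.det_eq, hdet, Finset.prod_mul_distrib]
  refine ⟨hν' ▸ sim_of_rank_one hν hA hr ⟨rfl, hB1, _, _, hBeq⟩ hd, ?_⟩
  have hu0 : u ≠ 0 := fun h => hB1 (by rw [hBeq, h]; simp)
  by_cases hxν : x * x = ν
  · refine Or.inl fun v h1 h2 => ?_
    have e : (comp c * K) *ᵥ v = ν • v := by
      rw [← mulVec_mulVec, h2, mulVec_smul, h1, smul_smul, hxν]
    rw [hν', hBeq, smul_mulVec, add_mulVec, one_mulVec, vecMulVec_mulVec] at e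
    have e' := smul_right_injective _ hν e
    simp at e'
    have hv0 : v 0 = 0 := e'.resolve_right hu0
    funext i
    induction i using Fin.induction with
    | zero => exact hv0
    | succ i ih =>
      have := congrFun h2 i.castSucc
      have hrow : (K *ᵥ v) i.castSucc = ν * v i.succ := by
        have hent : ∀ j : Fin (n + 1), K i.castSucc j.succ = ν * (if i = j then 1 else 0) := by
          intro j
          have := congrFun (hKe j) i.castSucc
          simpa [mulVec_single_one, col_apply, Pi.single_apply] using this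
        simp [mulVec, dotProduct, Fin.sum_univ_succ, hv0, hent]
      rw [hrow, Pi.smul_apply, ih] at this
      simpa [hν] using this
  · refine Or.inr fun l h1 h2 => ?_
    have e : l ᵥ* (comp c * K) = (x * x) • l := by
      rw [← vecMul_vecMul, h1, smul_vecMul, h2, smul_smul]
    rw [hν', hBeq, vecMul_smul, vecMul_add, vecMul_one, vecMul_vecMulVec] at e
    have hl : ∀ j : Fin (n + 1), l j.succ = 0 := fun j => by
      have := congrFun e j.succ
      simp at this
      exact this.resolve_left fun h => hxν h.symm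
    have h := congrFun h1 0
    have h' := congrFun h1 (Fin.last (n + 1))
    simp [vecMul, dotProduct, Fin.sum_univ_succ, hl, comp, ← Fin.succ_last] at h h'
    funext i
    induction i using Fin.cases with
    | zero => exact h.resolve_left hx
    | succ i => exact hl i

theorem lower_mul {L K : Matrix (Fin n) (Fin n) F} (hL : ∀ i j, i < j → L i j = 0)
    (hK : ∀ i j, i < j → K i j = 0) :
    (∀ i, (L * K) i i = L i i * K i i) ∧
      ∀ i j : Fin n, (i : ℕ) = (j : ℕ) + 1 → (L * K) i j = L i j * K j j + L i i * K i j := by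
  refine ⟨fun i => ?_, fun i j hij => ?_⟩
  · rw [Matrix.mul_apply, Finset.sum_eq_single i]
    · intro k _ hk
      rcases lt_or_gt_of_ne hk with h | h
      · rw [hK k i h, mul_zero]
      · rw [hL i k h, zero_mul]
    · simp
  · have hji : j ≠ i := fun e => by rw [e] at hij; omega
    rw [Matrix.mul_apply, Fintype.sum_eq_add j i hji]
    intro k ⟨hk1, hk2⟩
    by_cases h : i < k
    · rw [hL i k h, zero_mul]
    · rw [hK k j (by
        have := Fin.val_ne_iff.2 hk1
        have := Fin.val_ne_iff.2 hk2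
        simp only [Fin.lt_def] at h ⊢
        omega), mul_zero]

theorem exists_two_ne_zero (h3 : ∃ a : F, a ≠ 0 ∧ a ≠ 1) (k : F) : ∃ t : F, t ≠ 0 ∧ t ≠ k := by
  by_cases hk : k = 1
  · obtain ⟨a, ha0, ha1⟩ := h3
    exact ⟨a, ha0, hk ▸ ha1⟩
  · exact ⟨1, one_ne_zero, Ne.symm hk⟩

/-- The triangular case. -/
theorem pair_of_eq (h3 : ∃ a : F, a ≠ 0 ∧ a ≠ 1) {A : Matrix (Fin (n + 2)) (Fin (n + 2)) F}
    (hA : ¬ IsScal A) {ν : F} (hν : ν ≠ 0) (hr : rk A ν ≤ 1) {z w : Fin (n + 2) → F}
    (hz : Contig z) (hz0 : ∀ i, z i ≠ 0) (hdet : A.det = ν ^ (n + 2))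
    (hw : ∀ H K, CycSpec z H → H * K = ν • 1 → K.charpoly = ∏ i, (X - C (w i))) (x : F)
    (hfirst : ∀ i, z i = x → z 0 = x) :
    ∃ H K, CycSpec z H ∧ CycSpec w K ∧ Sim A (H * K) ∧ ((∀ i, z i = x) ∨ NoCommon H K x) := by
  classical
  let L := bidiag z
  have hL : Linked z L := linked_bidiag z
  have hLd : L.det ≠ 0 := by rw [hL.det_eq]; exact Finset.prod_ne_zero_iff.2 fun i _ => hz0 i
  let K₀ := ν • L⁻¹
  have hLK : L * K₀ = ν • 1 := by
    rw [Matrix.mul_smul, Matrix.mul_nonsing_inv _ hLd.isUnit]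
  have hK₀ : ∀ i j, i < j → K₀ i j = 0 := by
    letI := L.invertibleOfIsUnitDet hLd.isUnit
    intro i j hij
    have h : Matrix.BlockTriangular L OrderDual.toDual := fun a b hab => hL.1 a b hab
    have := Matrix.blockTriangular_inv_of_blockTriangular h
      (show OrderDual.toDual j < OrderDual.toDual i from hij)
    simp [K₀, this]
  obtain ⟨hdg, hsub⟩ := lower_mul hL.1 hK₀
  have hKd : ∀ i, K₀ i i = ν / z i := fun i => by
    have := hdg i
    rw [hLK, hL.2.1] at this
    simp at this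
    rw [eq_div_iff (hz0 i), mul_comm, ← this]
  -- the place of the change
  obtain ⟨i, hi, hix⟩ : ∃ i : Fin (n + 2), i < Fin.last (n + 1) ∧
      ((∀ j, z j = x) ∨ (∀ j, z j ≠ x) ∨ (z i = x ∧ ∀ j, i < j → z j ≠ x)) := by
    by_cases hall : ∀ j, z j = x
    · exact ⟨0, Fin.last_pos, Or.inl hall⟩
    by_cases hnone : ∀ j, z j ≠ x
    · exact ⟨0, Fin.last_pos, Or.inr (Or.inl hnone)⟩
    push Not at hnone hall
    obtain ⟨j₀, hj₀⟩ := hnone
    let S := Finset.univ.filter fun j => z j = x
    have hne : S.Nonempty := ⟨j₀, by simp [S, hj₀]⟩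
    have hm : z (S.max' hne) = x := (Finset.mem_filter.1 (S.max'_mem hne)).2
    refine ⟨S.max' hne, lt_of_le_of_ne (Fin.le_last _) fun e => ?_, Or.inr (Or.inr ⟨hm, fun j hj h => ?_⟩)⟩
    · obtain ⟨j, hj⟩ := hall
      exact hj ((hz 0 j _ (Fin.zero_le _) (e ▸ Fin.le_last j)
        (by rw [hm, hfirst _ hm])).trans (hfirst _ hm))
    · exact absurd (S.le_max' j (by simp [S, h])) (not_le.2 hj)
  obtain ⟨t, ht0, ht⟩ := exists_two_ne_zero h3
    (-(K₀ (Fin.last (n + 1)) i) / K₀ (Fin.last (n + 1)) (Fin.last (n + 1)))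
  set e := Fin.last (n + 1) with he
  let B : Matrix (Fin (n + 2)) (Fin (n + 2)) F := 1 + vecMulVec (t • Pi.single e 1) (Pi.single i 1)
  let K := K₀ * B
  have hKentry : ∀ a b, K a b = K₀ a b + (if a = e ∧ b = i then t * K₀ e e else 0) := by
    intro a b
    have h1 : K a b = K₀ a b + t * K₀ a e * (Pi.single i (1 : F) : Fin (n + 2) → F) b := by
      simp [K, B, mul_add, mul_vecMulVec, vecMulVec_apply, mulVec_single, col_apply, mul_comm, mul_left_comm, mul_assoc]
    rw [h1]
    congr 1
    by_cases ha : a = e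
    · subst ha
      simp [Pi.single_apply]
    · have : K₀ a e = 0 := hK₀ a e (lt_of_le_of_ne (Fin.le_last a) ha)
      simp [ha, this]
  have hK : Linked (fun j => ν / z j) K := by
    refine ⟨fun a b hab => ?_, fun a => ?_, fun a b hab => ?_⟩
    · rw [hKentry, hK₀ a b hab, if_neg, add_zero]
      rintro ⟨rfl, rfl⟩
      exact absurd (hab.trans hi) (lt_irrefl _)
    · rw [hKentry, if_neg, add_zero, hKd]
      rintro ⟨rfl, h⟩
      exact hi.ne h.symm
    · have hz2 := hsub a b hab
      rw [hLK, hKd, hL.2.1, Matrix.smul_apply, Matrix.one_apply_ne (fun h => by rw [h] at hab; omega),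
        smul_zero] at hz2
      have hne : K₀ a b ≠ 0 := fun h => by
        rw [h, mul_zero, add_zero, zero_eq_mul] at hz2
        exact hz2.elim (hL.2.2 a b hab) (div_ne_zero hν (hz0 b))
      rw [hKentry]
      split_ifs with h
      · obtain ⟨rfl, rfl⟩ := h
        intro h0
        apply ht
        rw [eq_div_iff (by rw [hKd]; exact div_ne_zero hν (hz0 _))]
        linear_combination h0
      · rwa [add_zero]
  have hcK : Contig fun j => ν / z j := fun a b c h1 h2 h => by
    have hzac : z a = z c := inv_injective (mul_left_cancel₀ hν (by rwa [← div_eq_mul_inv, ← div_eq_mul_inv]))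
    simp only [hz a b c h1 h2 hzac]
  have hLspec : CycSpec z L := ⟨hL.cyclic hz, hL.charpoly_eq⟩
  have hK0spec := hw L K₀ hLspec hLK
  have hKspec : CycSpec w K := by
    refine ⟨hK.cyclic hcK, ?_⟩
    rw [hK.charpoly_eq, ← hK0spec, Matrix.charpoly, Matrix.det_of_isLowerTriangular]
    · exact Finset.prod_congr rfl fun a _ => by rw [charmatrix_apply_eq, hKd]
    · intro a b hab
      simp only [OrderDual.toDual_lt_toDual] at hab
      rw [charmatrix_apply_ne _ _ _ hab.ne, hK₀ a b hab, map_zero, neg_zero]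
  have hprod : L * K = ν • B := by rw [← mul_assoc, hLK, Matrix.smul_mul, one_mul]
  have hBd : B.det = 1 := by
    simp only [B]
    rw [det_one_add_vvec, dotProduct_smul, single_dotProduct, one_mul]
    simp [hi.ne, hi.ne']
  have hB1 : B ≠ 1 := fun h => by
    have := congrFun (congrFun h e) i
    simp [B, vecMulVec_apply, Matrix.one_apply_ne hi.ne', ht0] at this
  refine ⟨L, K, hLspec, hKspec, ?_, ?_⟩
  · rw [hprod]
    exact sim_of_rank_one hν hA hr ⟨rfl, hB1, _, _, rfl⟩
      (by rw [Matrix.det_smul, hBd, mul_one, Fintype.card_fin, hdet])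
  rcases hix with hix | hix | ⟨hzi, hlast⟩
  · exact Or.inl hix
  · refine Or.inr (Or.inl fun v h1 _ => ?_)
    by_contra hv
    refine hL.det_sub_ne_zero (x := x) hix (Matrix.exists_mulVec_eq_zero_iff.1 ⟨v, hv, ?_⟩)
    rw [sub_mulVec, smul_mulVec, one_mulVec, h1, sub_self]
  refine Or.inr (Or.inl fun v h1 h2 => ?_)
  have hrow : ∀ j, (L *ᵥ v) j = z j * v j + if h : (j : ℕ) = 0 then 0 else v ⟨(j : ℕ) - 1, by omega⟩ := by
    intro j
    have : ∀ k : Fin (n + 2), L j k * v k =
        (if j = k then z j * v k else 0) + if (j : ℕ) = (k : ℕ) + 1 then v k else 0 := by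
      intro k
      by_cases h : j = k
      · subst h
        simp [L, bidiag]
      · by_cases h' : (j : ℕ) = (k : ℕ) + 1 <;> simp [L, bidiag, h, h']
    simp only [mulVec, dotProduct, this, Finset.sum_add_distrib, Finset.sum_ite_eq, Finset.mem_univ,
      if_true]
    congr 1
    split_ifs with h
    · exact Finset.sum_eq_zero fun k _ => if_neg (by omega)
    · rw [Finset.sum_eq_single ⟨(j : ℕ) - 1, by omega⟩]
      · rw [if_pos (by simp; omega)]
      · intro k _ hk
        exact if_neg fun h' => hk (Fin.ext (by simp; omega))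
      · simp
  have hvi : v i = 0 := by
    have e' : (ν • B) *ᵥ v = (x * x) • v := by
      rw [← hprod, ← mulVec_mulVec, h2, mulVec_smul, h1, smul_smul]
    simp only [B, smul_mulVec, add_mulVec, one_mulVec, vecMulVec_mulVec, single_dotProduct, one_mul,
      op_smul_eq_smul, smul_add, smul_smul] at e'
    by_cases hxν : x * x = ν
    · rw [hxν] at e'
      simpa [hν, ht0] using congrFun e' e
    · have := congrFun e' i
      simp [hi.ne] at this
      exact this.resolve_left fun h => hxν h.symm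
  have main : ∀ m : ℕ, ∀ j : Fin (n + 2), (j : ℕ) = m → v j = 0 := by
    intro m
    induction m using Nat.strong_induction_on with
    | _ m ih =>
      intro j hj
      rcases eq_or_ne j i with rfl | hji
      · exact hvi
      have hprev : ∀ k : Fin (n + 2), k < j → v k = 0 := fun k hk => ih k (by
        rw [← hj]; exact hk) k rfl
      by_cases hzj : z j = x
      · -- then `j` precedes `i` inside the group
        have hjlt : j < i := lt_of_le_of_ne (not_lt.1 fun h => hlast j h hzj) hji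
        let j' : Fin (n + 2) := ⟨(j : ℕ) + 1, by rw [Fin.lt_def] at hjlt; omega⟩
        have hzj' : z j' = x := (hz j j' i (by simp [j', Fin.le_def]) (by
          rw [Fin.lt_def] at hjlt; simp [j', Fin.le_def]; omega) (hzj.trans hzi.symm)).trans hzj
        have := congrFun h1 j'
        rw [hrow, hzj', Pi.smul_apply, smul_eq_mul, dif_neg (by simp [j'])] at this
        have hv : v ⟨(j' : ℕ) - 1, by omega⟩ = v j := congrArg v (Fin.ext (by simp [j']))
        rw [hv] at this
        exact add_eq_left.1 this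
      · have := congrFun h1 j
        rw [hrow, Pi.smul_apply, smul_eq_mul] at this
        have h0 : (if h : (j : ℕ) = 0 then (0 : F) else v ⟨(j : ℕ) - 1, by omega⟩) = 0 := by
          split_ifs with h
          · rfl
          · exact hprev _ (by simp only [Fin.lt_def]; omega)
        rw [h0, add_zero] at this
        by_contra hv
        exact hzj (mul_right_cancel₀ hv this)
  funext j
  exact main j j rfl

/-- The main factorisation. -/
theorem two_class [Fintype F] (h4 : 4 ≤ ENat.card F) (h3 : ∃ a : F, a ≠ 0 ∧ a ≠ 1) (hn : 1 ≤ n)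
    {A : Matrix (Fin (n + 2)) (Fin (n + 2)) F} (hA : ¬ IsScal A) {z : Fin (n + 2) → F}
    (hz : Contig z) (hz0 : ∀ i, z i ≠ 0) (hdet : A.det = (∏ i, z i) * ∏ i, z i) {x : F} (hx : x ≠ 0)
    (hfirst : ∀ i, z i = x → z 0 = x) :
    ∃ H K, CycSpec z H ∧ CycSpec z K ∧ Sim A (H * K) ∧ ((∀ i, z i = x) ∨ NoCommon H K x) := by
  have hdet' : A.det = ∏ i, z i * z i := by rw [hdet, Finset.prod_mul_distrib]
  have hA0 : A.det ≠ 0 := by
    rw [hdet']; exact Finset.prod_ne_zero_iff.2 fun i _ => mul_ne_zero (hz0 i) (hz0 i)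
  by_cases hr : ∀ ν, 2 ≤ rk A ν
  · obtain ⟨g, L, U, hLU, hL, hU, -, -⟩ := lu_big h4 (n + 1) (by omega) A hA z z hz0 hz0 hdet'
      (fun i => hr _) (Pi.single 0 1) (Pi.single 0 1) (by simp) (by simp)
    have hUs : CycSpec z U := ⟨hU.cyclic_upper hz, hU.charpoly_upper⟩
    refine ⟨L, U, ⟨hL.cyclic hz, hL.charpoly_eq⟩, hUs, ⟨g, hLU⟩, Or.inr (Or.inl fun v h1 h2 => ?_)⟩
    by_cases hx' : ∀ i, z i ≠ x
    · by_contra hv
      refine hL.det_sub_ne_zero (x := x) hx' (Matrix.exists_mulVec_eq_zero_iff.1 ⟨v, hv, ?_⟩)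
      rw [sub_mulVec, smul_mulVec, one_mulVec, h1, sub_self]
    push Not at hx'
    obtain ⟨i, hi⟩ := hx'
    have hz00 := hfirst i hi
    have hUe : Uᵀ.transpose *ᵥ Pi.single 0 1 = x • Pi.single 0 1 := by
      funext a
      induction a using Fin.cases with
      | zero => simpa [mulVec_single_one, col_apply, ← hz00] using hU.2.1 0
      | succ a => simpa [mulVec_single_one, col_apply] using hU.1 0 a.succ (Fin.succ_pos a)
    have hcyc : Cyclic Uᵀ := hU.cyclic hz
    have e1 : (Pi.single 0 1 : Fin (n + 2) → F) ᵥ* Uᵀ = x • Pi.single 0 1 := by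
      rw [vecMul_transpose]; simpa using hUe
    have e2 : v ᵥ* Uᵀ = x • v := by rw [vecMul_transpose, h2]
    obtain ⟨t, rfl⟩ := cyclic_left_eigen hcyc e1 e2 (by simp)
    have := congrFun h1 (Fin.succ 0)
    simp [mulVec_smul, mulVec_single_one, col_apply] at this
    rcases this with h | h
    · rw [h, zero_smul]
    · exact absurd h (by simpa using hL.2.2 (Fin.succ 0) 0 (by simp))
  push Not at hr
  obtain ⟨ν, hr⟩ := hr
  have hν : ν ≠ 0 := by
    rintro rfl
    have h : rk A 0 = n + 2 := by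
      have hbot : LinearMap.ker (sh A 0) = ⊥ := det_sub_ne_zero_iff.1 (by simpa using hA0)
      have := rk_add_ker A 0
      rw [hbot, finrank_bot] at this
      omega
    omega
  obtain ⟨c, K, hH, hK, hKe, hfix⟩ := exists_comp_pair hz hz hν
  by_cases hne : comp c * K = ν • 1
  · refine pair_of_eq h3 hA hν (by omega) hz hz0 ?_ (fun H K' hH' hHK => ?_) x hfirst
    · have h : A.det = (comp c).det * K.det := by rw [hH.det_eq, hK.det_eq, hdet]
      rw [h, ← det_mul, hne, Matrix.det_smul, det_one, mul_one, Fintype.card_fin]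
    · obtain ⟨g, hg⟩ := hH.sim hH'
      have hH0 : H.det ≠ 0 := by
        rw [hH'.det_eq]; exact Finset.prod_ne_zero_iff.2 fun i _ => hz0 i
      have e : K' = cj g K := by
        have e2 : H * cj g K = ν • 1 := by
          rw [← hg, ← cj_mul, hne, cj_smul_one]
        have := congrArg (fun M => H⁻¹ * M) (hHK.trans e2.symm)
        simpa only [← mul_assoc, Matrix.nonsing_inv_mul _ hH0.isUnit, one_mul] using this
      rw [e, ← (show Sim K (cj g K) from ⟨g, rfl⟩).charpoly_eq, hK.2]
  · obtain ⟨h1, h2⟩ := pair_of_ne hA hν (by omega) hH hK hdet' hKe hfix hne hx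
    exact ⟨_, K, hH, hK, h1, Or.inr h2⟩

end CfsgLib.LevCover
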