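import Cfsg.Agent.Lib.LevCover.Four

/-!
# Companion blocks only
-/

set_option autoImplicit false

namespace CfsgLib.LevCover

open Matrix Polynomial

variable {F : Type*} [Field F] [DecidableEq F]

/-- Every pair of determinants, and either every scalar is a determinant or some value is simple. -/
def GoodZ {n : ℕ} (Y : Matrix (Fin n) (Fin n) F) : Prop :=
  ∃ s : Multiset F, GoodAll Y s Set.univ Set.univ ∧ (0 : F) ∉ s ∧ (Flex Y ∨ ∃ x, s.count x = 1)

theorem count_specF_zero {g : F[X]} {τ x : F} (h1 : topF g τ ≠ x) (h2 : τ ≠ x) :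
    (specF g τ).count x = 0 :=
  Multiset.count_eq_zero.2 fun h => (mem_specF h).elim (fun e => h1 e.symm) (fun e => h2 e.symm)

theorem count_specF_one {g : F[X]} {τ x : F} (h1 : topF g τ = x) (h2 : τ ≠ x) :
    (specF g τ).count x = 1 := by
  rw [specF, h1, Multiset.count_cons_self, Multiset.count_replicate, if_neg h2]

theorem topF_one (g : F[X]) : topF g 1 = g.coeff 0 ^ 2 := by simp [topF]

theorem spF_one (g : F[X]) (a : F) : spF g 1 a = g.coeff 0 ^ 2 / a := by simp [spF]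

theorem sim_swap {ι κ μ : Type*} [Fintype ι] [DecidableEq ι] [Fintype κ] [DecidableEq κ] [Fintype μ]
    [DecidableEq μ] (e : ι ⊕ κ ≃ μ) (A : Matrix ι ι F) (D : Matrix κ κ F) :
    Matrix.reindexAlgEquiv F F e (fromBlocks A 0 0 D) =
      Matrix.reindexAlgEquiv F F ((Equiv.sumComm _ _).trans e) (fromBlocks D 0 0 A) := by
  ext i j
  obtain ⟨(i | i), rfl⟩ := e.surjective i <;> obtain ⟨(j | j), rfl⟩ := e.surjective j <;> simp

variable [Fintype F]

/-- Closing with one linked scalar. -/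
theorem root_finish {n : ℕ} {ι : Type*} [Fintype ι] [DecidableEq ι] {Y : Matrix (Fin n) (Fin n) F}
    (E : ι ⊕ Fin 1 ≃ Fin n) {Acc : Matrix ι ι F} {p : Matrix (Fin 1) ι F} {α A : F} (hα : α ≠ 0)
    (hsim : Sim Y (Matrix.reindexAlgEquiv F F E (fromBlocks Acc 0 p (single1 α))))
    {s : Multiset F} {R L : Set F} (hG : GoodEx Acc s R L) (hR : α * α ∉ R) (hs : (0 : F) ∉ s)
    (hA : s.count A = 1) (hAu : A ≠ α * α) : GoodZ Y := by
  obtain ⟨a, b, hG⟩ := hG
  have h0 : (0 : F) ∉ ({α * α} : Multiset F) := by simpa using hα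
  have hall := GoodAll.join_right hG (goodAll_single α) h0
    (fun x _ _ h1 h2 => hR ((Set.mem_singleton_iff.1 h2) ▸ h1)) p
  refine ⟨s + {α * α}, ((hall.reindex E).of_sim hsim.symm).mono (Set.subset_univ _) (Set.subset_univ _),
    by simp [hs, hα], Or.inr ⟨A, ?_⟩⟩
  rw [Multiset.count_add, hA, Multiset.count_singleton, if_neg hAu]

/-- Closing with a block free of determinants on the left. -/
theorem noroot_finish {n m d : ℕ} {ι : Type*} [Fintype ι] [DecidableEq ι]
    {Y : Matrix (Fin n) (Fin n) F} {e : Fin m ⊕ Fin d ≃ Fin n} {Y' : Matrix (Fin m) (Fin m) F}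
    {C : Matrix (Fin d) (Fin d) F} (hsim : Sim Y (Matrix.reindexAlgEquiv F F e (fromBlocks Y' 0 0 C)))
    (e₂ : ι ≃ Fin d) {S : Matrix ι ι F} (hS : Sim C (Matrix.reindexAlgEquiv F F e₂ S))
    {s t : Multiset F} {R L R' : Set F} (hG : GoodAll S s R L) (h1 : (1 : F) ∉ R) (hs : (0 : F) ∉ s)
    (hrest : GoodEx Y' t R' {1}) (ht : (0 : F) ∉ t) {x : F} (hx : s.count x = 1)
    (hx' : t.count x = 0) : GoodZ Y := by
  obtain ⟨a, b, hrest⟩ := hrest
  have hC : GoodAll C s R L := (hG.reindex e₂).of_sim hS.symm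
  have hall := GoodAll.join_left hC hrest ht
    (fun y _ _ h h' => h1 ((Set.mem_singleton_iff.1 h') ▸ h)) 0
  refine ⟨s + t, ((hall.reindex ((Equiv.sumComm _ _).trans e)).of_sim ?_).mono (Set.subset_univ _)
    (Set.subset_univ _), by simp [hs, ht], Or.inr ⟨x, by rw [Multiset.count_add, hx, hx']⟩⟩
  rw [← sim_swap]
  exact hsim.symm

theorem coeff_zero_mul' {a b : F[X]} (h : (a * b).coeff 0 ≠ 0) : a.coeff 0 ≠ 0 ∧ b.coeff 0 ≠ 0 := by
  rw [mul_coeff_zero] at h
  exact mul_ne_zero_iff.1 h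

theorem double_coeff_zero (α : F) : ((X - C α) * (X - C α)).coeff 0 = α * α := by
  simp [mul_coeff_zero]

theorem double_natDegree (α : F) : ((X - C α) * (X - C α)).natDegree = 2 := by
  rw [natDegree_mul (X_sub_C_ne_zero α) (X_sub_C_ne_zero α), natDegree_X_sub_C]

theorem nrm_double {α : F} (hα : α ≠ 0) : nrm ((X - C α) * (X - C α)) α = 1 := by
  rw [nrm, double_coeff_zero, double_natDegree]
  field_simp

/-- The facts available when some determinant is missing. -/
structure Stiff {n : ℕ} (Y : Matrix (Fin n) (Fin n) F) (l : List F[X]) : Prop where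
  irr : ∀ g ∈ l, ¬ Irreducible g
  simple : ∀ g ∈ l, ∀ α q, g = (X - C α) * q → q.eval α = 0
  coprime : ∀ g ∈ l, ∀ A B : F[X], A.Monic → B.Monic → Irreducible A → 0 < B.natDegree →
    IsCoprime A B → g ≠ A * B
  low : ∀ g ∈ l, g.natDegree = 2 → ∃ α, g = (X - C α) * (X - C α)

theorem stiff_of_not_flex {n : ℕ} {Y : Matrix (Fin n) (Fin n) F} {l : List F[X]} (h : Dec Y l)
    (hflex : ¬ Flex Y) : Stiff Y l := by
  have hsimple : ∀ g ∈ l, ∀ α q, g = (X - C α) * q → q.eval α = 0 := by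
    intro g hg α q hq
    by_contra hne
    obtain ⟨hgm, hg2, -⟩ := h.mem_facts g hg
    have hqm : q.Monic := (monic_X_sub_C α).of_mul_monic_left (hq ▸ hgm)
    have hqd : 0 < q.natDegree := by
      have := congrArg natDegree hq
      rw [natDegree_mul (X_sub_C_ne_zero α) hqm.ne_zero, natDegree_X_sub_C] at this
      omega
    exact hflex (flex_iff_scl.2 (h.scl hg fun d' c' hc' =>
      flex_iff_scl.1 (flex_comp_root c' hqm hqd (hc'.trans hq) hne)))
  have hirr : ∀ g ∈ l, ¬ Irreducible g := fun g hg hi => hflex (h.flex_irreducible hg hi)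
  refine ⟨hirr, hsimple, fun g hg A B hA hB hAi hB0 hco he => hflex (flex_iff_scl.2 (h.scl hg
    fun d' c' hc' => flex_iff_scl.1 (flex_comp_coprime c' hA hB hAi hB0 hco (hc'.trans he)))), ?_⟩
  intro g hg hd
  obtain ⟨hgm, -, -⟩ := h.mem_facts g hg
  by_cases hr : ∀ x, g.eval x ≠ 0
  · exact absurd (deg_two_irreducible' hgm hd hr) (hirr g hg)
  push Not at hr
  obtain ⟨α, hα⟩ := hr
  obtain ⟨q, hq⟩ := dvd_iff_isRoot.2 (hα : g.IsRoot α)
  have hqα := hsimple g hg α q hq
  have hqm : q.Monic := (monic_X_sub_C α).of_mul_monic_left (hq ▸ hgm)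
  have hqd : q.natDegree = 1 := by
    have := congrArg natDegree hq
    rw [natDegree_mul (X_sub_C_ne_zero α) hqm.ne_zero, natDegree_X_sub_C] at this
    omega
  refine ⟨α, ?_⟩
  have h1 := hqm.eq_X_add_C hqd
  rw [h1, eval_add, eval_X, eval_C, add_eq_zero_iff_neg_eq] at hqα
  rw [hq, h1, ← hqα, map_neg, sub_eq_add_neg]

theorem nil_or_dec {m : ℕ} {Y' : Matrix (Fin m) (Fin m) F} {l : List F[X]}
    (h : (m = 0 ∧ l = []) ∨ Dec Y' l) {g : F[X]} (hg : g ∈ l) : Dec Y' l := by
  rcases h with ⟨-, rfl⟩ | h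
  · simp at hg
  · exact h

/-- All blocks of size two. -/
theorem goodZ_double (h4 : 4 ≤ Fintype.card F) {n : ℕ} (hn : 3 ≤ n) {Y : Matrix (Fin n) (Fin n) F}
    {l : List F[X]} (h : Dec Y l) (hflex : ¬ Flex Y) {α : F} (hα : α ≠ 0)
    (hall : ∀ g ∈ l, g = (X - C α) * (X - C α)) : GoodZ Y := by
  have h2 : Scl 2 Y := by
    obtain ⟨g, hg⟩ := List.exists_mem_of_ne_nil l h.ne_nil
    have := h.scl_deg hg
    rwa [hall g hg, double_natDegree] at this
  have hhalf := h.half hall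
  obtain ⟨k, e', -⟩ := hhalf.standard
  have hcard := Fintype.card_congr e'
  simp at hcard
  by_cases hk : k = 2
  · obtain rfl : n = 4 := by omega
    obtain ⟨s, h1, h2', ⟨x, hx⟩, -⟩ := goodAll_four h4 hα hhalf h2
    exact ⟨s, h1, h2', Or.inr ⟨x, hx⟩⟩
  obtain ⟨a', ha0, hna, ha1⟩ := exists_outside h4 hflex (-1)
  set g := (X - C α) * (X - C α) with hg
  have hgm : g.Monic := (monic_X_sub_C α).mul (monic_X_sub_C α)
  have hg0 : g.coeff 0 ≠ 0 := by rw [hg, double_coeff_zero]; exact mul_ne_zero hα hα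
  have hc := charpoly_comp (d := 2) hgm (double_natDegree α) (by omega)
  have hne : a' ^ 2 ≠ nrm g α ^ 2 := by
    rw [hg, nrm_double hα, one_pow, Ne, sq_eq_one_iff]
    rintro (e | e)
    · exact hna (e ▸ DetIn.one Y)
    · exact ha1 e
  obtain ⟨-, hau, hbu, hba, hb0⟩ := special_values g (double_natDegree α).ge hg0 hα ha0 hna
    (by rw [hg, nrm_double hα, one_pow]; exact DetIn.one Y) hne
  have hu : α * α ≠ 0 := mul_ne_zero hα hα
  have hA0 : α * α * a' ≠ 0 := mul_ne_zero hu ha0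
  obtain ⟨R, ⟨a, b, hP⟩, hR⟩ := goodEx_special (h3_of_card h4) _ hc hg0 hA0 hu hau hbu (Or.inr hba)
  have hdeg : n = 2 + (n - 2) := by omega
  let e : Fin 2 ⊕ Fin (n - 2) ≃ Fin n := finSumFinEquiv.trans (finCongr hdeg.symm)
  let e'' : Fin (k - 1) ⊕ Fin (k - 1) ≃ Fin (n - 2) := finSumFinEquiv.trans (finCongr (by omega))
  let Z : Matrix (Fin (n - 2)) (Fin (n - 2)) F := α • 1 + pairA (n - 2) 1
  have hZ : Half (Z - α • 1) := by
    simpa [Z] using half_pairA (n := n - 2) ⟨k - 1, by omega⟩ (one_ne_zero (α := F))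
  have hst := goodAll_stagger (n := n - 2) ⟨k - 1, by omega⟩ (by omega) hα hZ
  have hst' : GoodAll Z (Multiset.replicate (n - 2) (α * α)) Set.univ {α * α} := fun a b ha hb =>
    (hst a b ha hb).mono_spec fun x _ hx => Multiset.eq_of_mem_replicate hx
  have h0 : (0 : F) ∉ Multiset.replicate (n - 2) (α * α) := fun h0 =>
    hu (Multiset.eq_of_mem_replicate h0).symm
  have hall' := GoodAll.join_right hP hst' h0
    (fun x _ _ h1 h2 => hR ((Set.mem_singleton_iff.1 h2) ▸ h1)) 0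
  have hsim : Sim (Matrix.reindexAlgEquiv F F e (fromBlocks (comp (colOf (d := 2) g)) 0 0 Z)) Y := by
    have h1 : Half (Matrix.reindexAlgEquiv F F e (fromBlocks (comp (colOf (d := 2) g)) 0 0 Z) - α • 1) := by
      rw [← map_one (Matrix.reindexAlgEquiv F F e), ← map_smul, ← map_sub]
      refine Half.reindex e ?_
      convert (half_comp hc).blocks hZ using 1
      ext (i | i) (j | j) <;> simp [Matrix.one_apply]
    obtain ⟨k', hk'⟩ := h1.sim hhalf
    refine ⟨k', ?_⟩
    have := congrArg (fun M => α • 1 + M) hk'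
    simpa [cj, mul_sub, sub_mul] using this
  refine ⟨_, (((hall'.reindex e).of_sim hsim)).mono (Set.subset_univ _) (Set.subset_univ _), ?_,
    Or.inr ⟨α * α * a', ?_⟩⟩
  · simp only [Multiset.mem_add, not_or]
    exact ⟨zero_notMem_special hA0 hu hb0 _, h0⟩
  · rw [Multiset.count_add, count_special hba hau, Multiset.count_replicate, if_neg hau.symm]

/-- Some root. -/
theorem goodZ_root (h4 : 4 ≤ Fintype.card F) {n : ℕ} {Y : Matrix (Fin n) (Fin n) F} {f : F[X]}
    {l : List F[X]} (h : Dec Y (f :: l)) (hcoeff : ∀ g ∈ f :: l, g.coeff 0 ≠ 0) (hflex : ¬ Flex Y)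
    (hd : 3 ≤ f.natDegree) {α : F} (hα : α ≠ 0) (hfα : f.eval α = 0)
    (hlow : ∀ g ∈ l, g.natDegree = 2 → g = (X - C α) * (X - C α)) : GoodZ Y := by
  classical
  have hst := stiff_of_not_flex h hflex
  have hf := List.mem_cons_self (a := f) (l := l)
  obtain ⟨hfm, -, -⟩ := h.mem_facts f hf
  have hf0 := hcoeff f hf
  have hl0 : ∀ g ∈ l, g.coeff 0 ≠ 0 := fun g hg => hcoeff g (List.mem_cons_of_mem _ hg)
  obtain ⟨m, d, e, Y', c, hc, hsim, -, hrest⟩ := h.top
  have hfd : f.natDegree = d + 2 := by rw [← hc, charpoly_natDegree_eq_dim, Fintype.card_fin]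
  have h3 := h3_of_card h4
  set u := α * α with hu'
  have hu : u ≠ 0 := mul_ne_zero hα hα
  have hN := h.nrm_mem hf hf0 hα
  obtain ⟨a', ha0, hna, ha1⟩ := exists_outside h4 hflex (-nrm f α)
  have ha1' : a' ≠ nrm f α := fun e => hna (e ▸ hN)
  have hne : a' ^ 2 ≠ nrm f α ^ 2 := fun e =>
    (eq_or_eq_neg_of_sq_eq_sq _ _ e).elim ha1' ha1
  set A := u * a'
  have hA0 : A ≠ 0 := mul_ne_zero hu ha0
  obtain ⟨hAC, hau, hbu, hba, hb0⟩ := special_values f (by omega) hf0 hα ha0 hna hN.sq hne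
  have hin : ∀ g ∈ l, InC Y u (topF g u) := fun g hg => inC_topF h (List.mem_cons_of_mem _ hg) (hl0 g hg) hα
  have hgood : ∀ g ∈ l, g = (X - C α) * (X - C α) ∨ 3 ≤ g.natDegree := fun g hg => by
    have := (h.mem_facts g (List.mem_cons_of_mem _ hg)).2.1
    by_cases h2 : g.natDegree = 2
    · exact Or.inl (hlow g hg h2)
    · exact Or.inr (by omega)
  have hcount0 : ∀ t : Multiset F, (∀ x ∈ t, x = u ∨ ∃ g ∈ l, x = topF g u) → t.count A = 0 := fun t ht =>
    count_zero_of_inC hAC fun x hx => (ht x hx).elim (fun e => e ▸ inC_self hu)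
      (fun ⟨g, hg, e⟩ => e ▸ hin g hg)
  by_cases hk2 : 2 ≤ (l.filter fun g => g.natDegree = 2).length
  · -- the largest block is special
    obtain ⟨g₀, hg₀⟩ := List.exists_mem_of_ne_nil _ (List.ne_nil_of_length_pos (by omega :
      0 < (l.filter fun g => g.natDegree = 2).length))
    have hdec := nil_or_dec hrest (List.mem_filter.1 hg₀).1
    obtain ⟨s, hG, hs, hsv⟩ := hdec.stdLow h4 hα hl0 hgood hk2
    obtain ⟨R, ⟨a, b, hP⟩, hR⟩ := goodEx_special h3 c hc hf0 hA0 hu hau hbu (Or.inl hd)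
    have hall := GoodAll.join_right hP hG hs (fun x _ _ h1 h2 => hR (by rwa [Set.mem_singleton_iff.1 h2] at h1)) 0
    refine ⟨_, ((hall.reindex ((Equiv.sumComm _ _).trans e)).of_sim ?_).mono (Set.subset_univ _)
      (Set.subset_univ _), ?_, Or.inr ⟨A, ?_⟩⟩
    · rw [← sim_swap]; exact hsim.symm
    · simp only [Multiset.mem_add, not_or]
      exact ⟨zero_notMem_special hA0 hu hb0 _, hs⟩
    · rw [Multiset.count_add, count_special hba hau, hcount0 s hsv]
  obtain ⟨q, hq⟩ := dvd_iff_isRoot.2 (hfα : f.IsRoot α)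
  have hqα := hst.simple f hf α q hq
  have hqm : q.Monic := (monic_X_sub_C α).of_mul_monic_left (hq ▸ hfm)
  have hqdeg : q.natDegree = d + 1 := by
    have := congrArg natDegree hq
    rw [natDegree_mul (X_sub_C_ne_zero α) hqm.ne_zero, natDegree_X_sub_C] at this
    omega
  obtain ⟨d', rfl⟩ : ∃ d', d = d' + 1 := ⟨d - 1, by omega⟩
  have hq0 : q.coeff 0 ≠ 0 := (coeff_zero_mul' (hq ▸ hf0)).2
  obtain ⟨e₂, p, hsplit⟩ := sim_split c (monic_X_sub_C α) hqm (natDegree_X_sub_C α) hqdeg one_pos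
    (by omega) (hc.trans hq)
  rw [comp_linear] at hsplit
  have hqn : nrm q α = -nrm f α := by
    rw [nrm, nrm, hq, natDegree_mul (X_sub_C_ne_zero α) hqm.ne_zero, natDegree_X_sub_C, mul_coeff_zero]
    simp [pow_add]
    field_simp
  have hqc := charpoly_comp (d := d' + 2) hqm hqdeg (by omega)
  have hsim' := hsim.trans ((sim_fromBlocks (Sim.refl Y') hsplit).reindex e)
  by_cases hk1 : (l.filter fun g => g.natDegree = 2).length = 1
  · obtain ⟨g₂, hg₂⟩ := List.exists_mem_of_ne_nil _ (List.ne_nil_of_length_pos (by omega :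
      0 < (l.filter fun g => g.natDegree = 2).length))
    have hmem := (List.mem_filter.1 hg₂).1
    have hd2 : g₂.natDegree = 2 := of_decide_eq_true (List.mem_filter.1 hg₂).2
    have hq3 : 3 ≤ q.natDegree := by
      by_contra hlt
      have s3 : Scl 3 Y := by
        have := h.scl_deg hf
        rwa [show f.natDegree = 3 by omega] at this
      have s2 : Scl 2 Y := hd2 ▸ h.scl_deg (List.mem_cons_of_mem f hmem)
      exact hflex (flex_of_scl_coprime s3 s2)
    have hn1 := nrm_double hα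
    obtain ⟨a'', ha0'', hna'', ha1''⟩ := exists_outside h4 hflex (-1)
    have hne1 : a'' ^ 2 ≠ nrm ((X - C α) * (X - C α)) α ^ 2 := by
      rw [hn1, one_pow, Ne, sq_eq_one_iff]
      rintro (e | e)
      · exact hna'' (e ▸ DetIn.one Y)
      · exact ha1'' e
    obtain ⟨hAC', hau', hb1, hb2, hb3⟩ := special_values ((X - C α) * (X - C α)) (double_natDegree α).ge
      (by rw [double_coeff_zero]; exact hu) hα ha0'' hna'' (by rw [hn1, one_pow]; exact DetIn.one Y) hne1
    obtain ⟨s, R, hG, hR, hs, hA⟩ := (nil_or_dec hrest hmem).stdSpecial h4 hα hl0 (mul_ne_zero hu ha0'') hAC'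
      ⟨hb1, hb2, hb3⟩ hin hgood hk1
    have hacc := hG.join (goodEx_piece h3 _ hqc hq0 hu (Or.inl hq3)) (zero_notMem_specF hq0 hu)
      (fun x _ _ h1 h2 => hR (by rwa [Set.mem_singleton_iff.1 h2.1] at h1)) 0
    let E : (Fin m ⊕ Fin (d' + 2)) ⊕ Fin 1 ≃ Fin n :=
      (Equiv.sumAssoc _ _ _).trans ((Equiv.sumCongr (Equiv.refl _) e₂).trans e)
    refine root_finish E (p := fromCols (0 : Matrix (Fin 1) (Fin m) F) p) hα (hsim'.trans ?_) hacc
      (fun h => h.elim hR fun h => h.2 rfl) (by simp [hs, zero_notMem_specF hq0 hu]) (A := u * a'') ?_ hau'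
    · rw [show Matrix.reindexAlgEquiv F F e (fromBlocks Y' 0 0 (Matrix.reindexAlgEquiv F F e₂
          (fromBlocks (comp (colOf (d := d' + 2) q)) 0 p (single1 α)))) =
        Matrix.reindexAlgEquiv F F E (fromBlocks (fromBlocks Y' 0 0 (comp (colOf (d := d' + 2) q))) 0
          (fromCols (0 : Matrix (Fin 1) (Fin m) F) p) (single1 α)) by
        ext i j
        obtain ⟨((i | i) | i), rfl⟩ := E.surjective i <;> obtain ⟨((j | j) | j), rfl⟩ := E.surjective j <;>
          simp [E]]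
      exact Sim.refl _
    · rw [Multiset.count_add, hA, count_specF_zero ?_ hau'.symm]
      intro e
      refine hAC' ?_
      rw [← e, InC, topF_eq q α hα (by omega), hqn, neg_sq, mul_div_cancel_left₀ _ hu]
      exact hN.sq
  -- no block of size two
  have hl3 : ∀ g ∈ l, 3 ≤ g.natDegree := fun g hg => by
    have hg2 := (h.mem_facts g (List.mem_cons_of_mem _ hg)).2.1
    by_contra hlt
    have : 0 < (l.filter fun g => g.natDegree = 2).length :=
      List.length_pos_of_mem (List.mem_filter.2 ⟨hg, decide_eq_true (show g.natDegree = 2 by omega)⟩)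
    omega
  obtain ⟨s, R', hG, hR', hs, hsv⟩ := rest_std h4 hrest hl0 hu fun g hg => Or.inl (hl3 g hg)
  obtain ⟨-, -, hbu', hba', hb0'⟩ := special_values q (by omega) hq0 hα ha0 hna
    (by rw [hqn, neg_sq]; exact hN.sq) (by rw [hqn, neg_sq]; exact hne)
  obtain ⟨R, hP, hR⟩ := goodEx_special h3 _ hqc hq0 hA0 hu hau hbu' (Or.inr hba')
  have hacc := hP.join hG hs (fun x _ _ h1 h2 => hR ((Set.mem_singleton_iff.1 h2) ▸ h1)) 0
  let E : (Fin (d' + 2) ⊕ Fin m) ⊕ Fin 1 ≃ Fin n :=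
    ((Equiv.sumCongr (Equiv.sumComm _ _) (Equiv.refl _)).trans (Equiv.sumAssoc _ _ _)).trans
      ((Equiv.sumCongr (Equiv.refl _) e₂).trans e)
  refine root_finish E (p := fromCols p (0 : Matrix (Fin 1) (Fin m) F)) hα (hsim'.trans ?_) hacc ?_ ?_
    (A := A) ?_ hau
  · rw [show Matrix.reindexAlgEquiv F F e (fromBlocks Y' 0 0 (Matrix.reindexAlgEquiv F F e₂
        (fromBlocks (comp (colOf (d := d' + 2) q)) 0 p (single1 α)))) =
      Matrix.reindexAlgEquiv F F E (fromBlocks (fromBlocks (comp (colOf (d := d' + 2) q)) 0 0 Y') 0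
        (fromCols p (0 : Matrix (Fin 1) (Fin m) F)) (single1 α)) by
      ext i j
      obtain ⟨((i | i) | i), rfl⟩ := E.surjective i <;> obtain ⟨((j | j) | j), rfl⟩ := E.surjective j <;>
        simp [E]]
    exact Sim.refl _
  · rintro (h' | h')
    · exact hR h'
    · exact hR' h'
  · simp only [Multiset.mem_add, not_or]
    exact ⟨zero_notMem_special hA0 hu hb0' _, hs⟩
  · rw [Multiset.count_add, count_special hba' hau, hcount0 s hsv]

/-- A repeated quadratic of square constant term. -/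
theorem square_sym (h4 : 4 ≤ Fintype.card F) {P : F[X]} (hPm : P.Monic) (hPi : Irreducible P)
    (hP2 : P.natDegree = 2) (hnoroot : ∀ x, P.eval x ≠ 0) (he1 : P.coeff 0 ^ 2 = 1)
    (hq4 : Fintype.card F ≠ 4) (p : Matrix (Fin 2) (Fin 2) F) :
    ∃ (s : Multiset F) (a : F) (R L : Set F),
      GoodAll (fromBlocks (comp (colOf (d := 2) P)) 0 p (comp (colOf (d := 2) P))) s R L ∧
      (1 : F) ∉ R ∧ (0 : F) ∉ s ∧ s.count a = 1 ∧ a ≠ 1 ∧ s.map (fun y => y⁻¹) = s := by
  classical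
  have h3 := h3_of_card h4
  have hP0 : P.coeff 0 ≠ 0 := fun h0 => by simp [h0] at he1
  have hPc := charpoly_comp (d := 2) hPm hP2 two_pos
  have hflexP : Flex (comp (colOf (d := 2) P)) := flex_comp_irreducible _ (by rw [hPc]; exact hPi)
  set eP := P.coeff 0 with heP
  have htop : ∀ τ, topF P τ = τ⁻¹ := fun τ => by rw [topF, hP2, ← heP, he1]; simp
  obtain ⟨a, ha0, ha1, -, ham⟩ := exists_tau h4 1 1
  have hai : a⁻¹ ≠ a := fun e => by
    have h1 : a * a = 1 := by nth_rw 1 [← e]; exact inv_mul_cancel₀ ha0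
    exact (mul_self_eq_one_iff.1 h1).elim ha1 ham
  obtain ⟨a₁, b₁, hGh⟩ := goodEx_piece h3 _ hPc hP0 ha0 (Or.inr (by rw [htop]; exact hai))
  have hRh : (1 : F) ∉ ({topF P a} \ {a} : Set F) := fun h' => ha1 (by
    have := Set.mem_singleton_iff.1 h'.1
    rw [htop] at this
    exact inv_eq_one.1 this.symm)
  by_cases hτ : ∃ τ : F, τ ≠ 0 ∧ τ ≠ 1 ∧ τ ≠ -1 ∧ τ ≠ a ∧ τ ≠ a⁻¹
  · obtain ⟨τ, hτ0, hτ1, hτm, hτa, hτa'⟩ := hτ
    have hτi : τ⁻¹ ≠ τ := fun e => by
      have h1 : τ * τ = 1 := by nth_rw 1 [← e]; exact inv_mul_cancel₀ hτ0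
      exact (mul_self_eq_one_iff.1 h1).elim hτ1 hτm
    have hGp := (goodEx_piece h3 _ hPc hP0 hτ0 (Or.inr (by rw [htop]; exact hτi))).flex hflexP
    have hS := GoodAll.join_right hGh hGp (zero_notMem_specF hP0 hτ0)
      (fun x _ _ h1 h2 => hτa' (by
        have e1 := Set.mem_singleton_iff.1 h1.1
        rw [← Set.mem_singleton_iff.1 h2.1, e1, htop])) p
    refine ⟨_, a, _, _, hS, ?_, ?_, ?_, ha1, ?_⟩
    · rintro (h' | h')
      · exact hRh h'
      · have := Set.mem_singleton_iff.1 h'.1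
        rw [htop] at this
        exact hτ1 (inv_eq_one.1 this.symm)
    · simp only [Multiset.mem_add, not_or]
      exact ⟨zero_notMem_specF hP0 ha0, zero_notMem_specF hP0 hτ0⟩
    · rw [Multiset.count_add, count_specF_zero (g := P) (τ := τ) (x := a) ?_ hτa, add_zero, specF,
        hP2, Multiset.count_cons_of_ne (by rw [htop]; exact hai.symm)]
      · simp
      · rw [htop]
        intro e
        exact hτa' (by rw [← e, inv_inv])
    · have e1 : (eP ^ 2 : F) = 1 := he1
      simp only [specF, hP2, htop, Multiset.map_add, Multiset.map_cons, inv_inv,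
        Multiset.map_replicate]
      refine Multiset.ext.2 fun y => ?_
      simp [Multiset.count_cons, Multiset.count_singleton]
      omega
  push Not at hτ
  -- five elements
  have hq : Fintype.card F ≤ 5 := by
    have : (Finset.univ : Finset F) ⊆ {0, 1, -1, a, a⁻¹} := fun x _ => by
      simp only [Finset.mem_insert, Finset.mem_singleton]
      by_contra hx
      simp only [not_or] at hx
      exact hx.2.2.2.2 (hτ x hx.1 hx.2.1 hx.2.2.1 hx.2.2.2.1)
    have hcard := Finset.card_le_card this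
    rw [Finset.card_univ] at hcard
    exact hcard.trans Finset.card_le_five
  have hq5 : Fintype.card F = 5 := by omega
  have h2 : (2 : F) ≠ 0 := fun h2 => one_ne_zero (α := F) (by
    have h5 : ((Fintype.card F : ℕ) : F) = 0 := Nat.cast_card_eq_zero F
    rw [hq5, Nat.cast_ofNat] at h5
    linear_combination h5 - 2 * h2)
  have ha2 : a ^ 2 = -1 := by
    have h4' := FiniteField.pow_card_sub_one_eq_one a ha0
    rw [hq5] at h4'
    refine (sq_eq_one_iff.1 (show (a ^ 2) ^ 2 = 1 by rw [← pow_mul]; exact h4')).resolve_left ?_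
    exact fun h' => (sq_eq_one_iff.1 h').elim ha1 ham
  set cP := colOf (d := 2) P with hcP
  have hc0 : cP 0 = -eP := by simp [hcP, colOf, eP]
  have hc1 : cP 1 ≠ 0 := fun h' => by
    have h1 : P.coeff 1 = 0 := by simpa [hcP, colOf] using h'
    obtain ⟨x, hx⟩ : ∃ x : F, x ^ 2 = -eP := by
      rcases sq_eq_one_iff.1 he1 with e | e
      · exact ⟨a, by rw [e, ha2]⟩
      · exact ⟨1, by rw [e]; ring⟩
    refine hnoroot x ?_
    rw [eval_eq_sum_range, hP2, Finset.sum_range_succ, Finset.sum_range_succ, Finset.sum_range_one, h1,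
      show P.coeff 2 = 1 from hP2 ▸ hPm.coeff_natDegree, hx, ← heP]
    ring
  have hGp := (goodEx_two_eq cP hc1 (by rw [hc0]; exact neg_ne_zero.2 hP0) h2).flex hflexP
  have hne : cP 0 ≠ topF P a ∧ cP 0 ≠ a := by
    have h1 : cP 0 ^ 2 = 1 := by rw [hc0, neg_sq, he1]
    constructor <;> intro e
    · rw [e, htop, inv_pow, inv_eq_one] at h1
      exact (sq_eq_one_iff.1 h1).elim ha1 ham
    · rw [e] at h1
      exact (sq_eq_one_iff.1 h1).elim ha1 ham
  have hS := GoodAll.join_right hGh hGp (by rw [hc0]; simpa using hP0)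
    (fun x _ hx2 h1 _ => hne.1 (by
      simp only [Multiset.insert_eq_cons, Multiset.mem_cons, Multiset.mem_singleton, or_self] at hx2
      rw [← hx2, Set.mem_singleton_iff.1 h1.1])) p
  refine ⟨_, a, _, _, hS, ?_, ?_, ?_, ha1, ?_⟩
  · rintro (h' | h')
    · exact hRh h'
    · exact h'
  · simp only [Multiset.mem_add, not_or]
    exact ⟨zero_notMem_specF hP0 ha0, by rw [hc0]; simpa using hP0⟩
  · rw [Multiset.count_add, specF, hP2, Multiset.count_cons_of_ne (by rw [htop]; exact hai.symm)]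
    simp [hne.2.symm]
  · have hci : (cP 0)⁻¹ = cP 0 := by
      refine inv_eq_of_mul_eq_one_right ?_
      rw [← pow_two, hc0, neg_sq, he1]
    simp only [specF, hP2, htop, Multiset.map_add, Multiset.map_cons, Multiset.map_replicate, inv_inv,
      Multiset.insert_eq_cons, Multiset.map_singleton, hci]
    simp [Multiset.cons_swap]

/-- No root, a factor repeated. -/
theorem goodZ_noroot_square (h4 : 4 ≤ Fintype.card F) {n : ℕ} {Y : Matrix (Fin n) (Fin n) F} {f : F[X]}
    {l : List F[X]} (h : Dec Y (f :: l)) (hdet : Y.det = 1) (hflex : ¬ Flex Y) (hl : ∀ g ∈ l, g = f)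
    {P : F[X]} (hPm : P.Monic) (hPi : Irreducible P) (hP2 : P.natDegree = 2)
    (hnoroot : ∀ x, P.eval x ≠ 0) (hfP : f = P * P) : GoodZ Y := by
  classical
  have hf := List.mem_cons_self (a := f) (l := l)
  have hcoeff := h.coeff_ne (by rw [hdet]; exact one_ne_zero)
  have hf0 := hcoeff f hf
  have hP0 : P.coeff 0 ≠ 0 := (coeff_zero_mul' (hfP ▸ hf0)).1
  have hfe : f.coeff 0 = P.coeff 0 ^ 2 := by rw [hfP, mul_coeff_zero, pow_two]
  have hN : DetIn Y (P.coeff 0 ^ 2) := by
    rw [← hfe]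
    simpa [nrm] using h.nrm_mem hf hf0 (one_ne_zero (α := F))
  have hfd : f.natDegree = 4 := by rw [hfP, natDegree_mul hPm.ne_zero hPm.ne_zero, hP2]
  have h3 := h3_of_card h4
  obtain ⟨m, d, e, Y', c, hc, hsim, -, hrest⟩ := h.top
  obtain rfl : d = 2 := by
    have := congrArg natDegree hc
    rw [charpoly_natDegree_eq_dim, Fintype.card_fin, hfd] at this
    omega
  obtain ⟨e₂, p, hsplit⟩ := sim_split c hPm hPm hP2 hP2 two_pos two_pos (hc.trans hfP)
  have hPc := charpoly_comp (d := 2) hPm hP2 two_pos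
  have hflexP : Flex (comp (colOf (d := 2) P)) := flex_comp_irreducible _ (by rw [hPc]; exact hPi)
  have hl0 : ∀ g ∈ l, g.coeff 0 ≠ 0 := fun g hg => hcoeff g (List.mem_cons_of_mem _ hg)
  obtain ⟨t, R', hrest', -, ht, htv⟩ := rest_std h4 hrest hl0 (one_ne_zero (α := F))
    fun g hg => Or.inl (by rw [hl g hg, hfd]; omega)
  have htN : ∀ x, ¬ DetIn Y x → t.count x = 0 := fun x hx => Multiset.count_eq_zero.2 fun hmem => hx <|
    (htv x hmem).elim (fun e => e ▸ DetIn.one Y) fun ⟨g, hg, e⟩ => by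
      rw [e, topF_one, hl g hg, hfe]
      exact hN.sq
  set eP := P.coeff 0 with heP
  by_cases he1 : eP ^ 2 = 1
  · -- both halves by free parameters
    have htone : ∀ x, x ≠ 1 → t.count x = 0 := fun x hx => Multiset.count_eq_zero.2 fun hmem => hx <|
      (htv x hmem).elim id fun ⟨g, hg, e⟩ => by rw [e, topF_one, hl g hg, hfe, he1, one_pow]
    have hq4 : Fintype.card F ≠ 4 := fun hq4 => hflex fun y hy => by
      obtain ⟨g, hg, hgY⟩ := h.scl_deg hf y hy
      refine ⟨g, ?_, hgY⟩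
      have h4' := FiniteField.pow_card_sub_one_eq_one y hy
      rw [hq4] at h4'
      rw [hg, hfd, pow_succ, h4', one_mul]
    obtain ⟨s, a, R, L, hS, hR, hs, ha, ha1, -⟩ := square_sym h4 hPm hPi hP2 hnoroot he1 hq4 p
    exact noroot_finish hsim e₂ hsplit hS hR hs hrest' ht (x := a) ha (htone a ha1)
  have hPstd := goodEx_piece h3 _ hPc hP0 (one_ne_zero (α := F)) (Or.inr (by rw [topF_one]; exact he1))
  have hRP : (1 : F) ∉ ({topF P 1} \ {1} : Set F) := fun h => h.2 rfl
  rcases exists_outside_two h4 hflex hP0 hP0 (by rw [← pow_two]; exact hN) with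
    ⟨a, ha0, hna, hah, hap⟩ | ⟨hp2, -, hN2⟩
  · have hb1 : spF P 1 a ≠ 1 := by
      rw [spF_one, Ne, div_eq_one_iff_eq ha0]
      exact fun e => hah e.symm
    have hba : spF P 1 a ≠ a := by
      rw [spF_one, Ne, div_eq_iff ha0, ← pow_two]
      exact fun e => hap e.symm
    have ha1 : a ≠ 1 := fun e => hna (e ▸ DetIn.one Y)
    obtain ⟨R, ⟨a₁, b₁, hSp⟩, hR⟩ := goodEx_special h3 _ hPc hP0 ha0 one_ne_zero ha1 hb1 (Or.inr hba)
    have hS := GoodAll.join_right hSp (hPstd.flex hflexP) (zero_notMem_specF hP0 one_ne_zero)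
      (fun x _ _ h1 h2 => hR (by rwa [Set.mem_singleton_iff.1 h2.1] at h1)) p
    refine noroot_finish hsim e₂ hsplit hS (fun h' => h'.elim hR hRP) ?_ hrest' ht (x := a) ?_ (htN a hna)
    · simp only [Multiset.mem_add, not_or]
      exact ⟨zero_notMem_special ha0 one_ne_zero (by rw [spF_one]; exact div_ne_zero (pow_ne_zero _ hP0) ha0) _,
        zero_notMem_specF hP0 one_ne_zero⟩
    · rw [Multiset.count_add, count_special hba ha1, count_specF_zero ?_ ha1.symm]
      rw [topF_one]; exact hah.symm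
  -- the exception
  have hm1 : (-1 : F) ≠ 1 := fun e => he1 (hp2.trans e)
  have h2 : (2 : F) ≠ 0 := fun h2 => hm1 (by linear_combination -h2)
  rcases hrest with ⟨rfl, rfl⟩ | hdec
  · exfalso
    refine hm1 ?_
    have hYd : Y.det = P.coeff 0 ^ 2 := by
      rw [hsim.det_eq, Matrix.det_reindexAlgEquiv, det_fromBlocks_zero₁₂, Matrix.det_fin_zero, one_mul,
        Matrix.det_eq_sign_charpoly_coeff, hc, hfe, Fintype.card_fin]
      norm_num [heP]
    exact hp2.symm.trans (hYd.symm.trans hdet)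
  obtain ⟨g, l', hll⟩ := List.exists_cons_of_ne_nil hdec.ne_nil
  subst hll
  obtain ⟨m', d', e', Y'', c', hc', hsim', -, hrest''⟩ := hdec.top
  have hgf := hl g (List.mem_cons_self ..)
  rw [hgf] at hc'
  obtain ⟨s, R'', hG'', hR''1, hs'', hsv⟩ := rest_std h4 hrest'' (fun g hg => hl0 g (List.mem_cons_of_mem _ hg))
    (one_ne_zero (α := F)) fun g hg => Or.inl (by rw [hl g (List.mem_cons_of_mem _ hg), hfd]; omega)
  have hfe' : f.coeff 0 = -1 := by rw [hfe, hp2]
  have ha1 : eP ≠ 1 := fun e => he1 (by rw [e, one_pow])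
  have ham : eP ≠ -1 := fun e => he1 (by rw [e]; ring)
  have hb : spF f 1 eP = -eP := by
    rw [spF_one, hfe', div_eq_iff hP0]
    linear_combination hp2
  have hba : spF f 1 eP ≠ eP := by
    rw [hb]
    intro e
    have : (2 : F) * eP = 0 := by linear_combination -e
    exact (mul_eq_zero.1 this).elim h2 hP0
  obtain ⟨R, hSp, hR⟩ := goodEx_special h3 c' hc' hf0 hP0 one_ne_zero ha1
    (by rw [hb]; exact fun e => ham (by linear_combination -e)) (Or.inr hba)
  have hacc0 := hSp.join hG'' hs'' (fun x _ _ h1 h2 => hR (by rwa [Set.mem_singleton_iff.1 h2] at h1)) 0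
  have hacc1 := hacc0.reindex ((Equiv.sumComm _ _).trans e')
  rw [← sim_swap] at hacc1
  obtain ⟨a₁, b₁, hacc⟩ := hacc1.of_sim hsim'.symm
  obtain ⟨a₂, b₂, hP1⟩ := hPstd
  have hS := GoodAll.join_right hP1 (GoodEx.flex hflexP ⟨a₂, b₂, hP1⟩)
    (zero_notMem_specF hP0 one_ne_zero) (fun x _ _ h1 h2 => h1.2 h2.1) p
  have hC : GoodAll (comp c) _ _ _ := (hS.reindex e₂).of_sim hsplit.symm
  have hall := GoodAll.join_right hacc hC (by
      simp only [Multiset.mem_add, not_or]
      exact ⟨zero_notMem_specF hP0 one_ne_zero, zero_notMem_specF hP0 one_ne_zero⟩)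
    (fun x _ _ h1 h2 => by
      have hx : x = 1 := h2.elim (fun h => h.1) (fun h => h.1.1)
      rw [hx] at h1
      exact h1.elim hR hR''1) 0
  refine ⟨_, ((hall.reindex e).of_sim hsim.symm).mono (Set.subset_univ _) (Set.subset_univ _), ?_,
    Or.inr ⟨eP, ?_⟩⟩
  · simp only [Multiset.mem_add, not_or]
    exact ⟨⟨zero_notMem_special hP0 one_ne_zero (by rw [hb]; exact neg_ne_zero.2 hP0) _, hs''⟩,
      zero_notMem_specF hP0 one_ne_zero, zero_notMem_specF hP0 one_ne_zero⟩
  · have hne : topF P 1 ≠ eP := by rw [topF_one, hp2]; exact ham.symm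
    rw [Multiset.count_add, Multiset.count_add, Multiset.count_add, count_special hba ha1,
      count_specF_zero hne ha1.symm, Multiset.count_eq_zero.2 fun hmem => ?_]
    rcases hsv eP hmem with e | ⟨g, hg, e⟩
    · exact ha1 e
    · rw [topF_one, hl g (List.mem_cons_of_mem _ hg), hfe', neg_sq, one_pow] at e
      exact ha1 e

/-- No root. -/
theorem goodZ_noroot (h4 : 4 ≤ Fintype.card F) {n : ℕ} {Y : Matrix (Fin n) (Fin n) F} {f : F[X]}
    {l : List F[X]} (h : Dec Y (f :: l)) (hdet : Y.det = 1) (hflex : ¬ Flex Y)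
    (hnoroot : ∀ x, f.eval x ≠ 0) : GoodZ Y := by
  classical
  have hst := stiff_of_not_flex h hflex
  have hf := List.mem_cons_self (a := f) (l := l)
  obtain ⟨hfm, hfd2, -⟩ := h.mem_facts f hf
  have hcoeff := h.coeff_ne (by rw [hdet]; exact one_ne_zero)
  have hf0 := hcoeff f hf
  have hl0 : ∀ g ∈ l, g.coeff 0 ≠ 0 := fun g hg => hcoeff g (List.mem_cons_of_mem _ hg)
  obtain ⟨m, d, e, Y', c, hc, hsim, hann, hrest⟩ := h.top
  have hdvd : ∀ g ∈ l, g ∣ f := fun g hg => (((nil_or_dec hrest hg).mem_facts g hg).2.2 f hann).2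
  have hl3 : ∀ g ∈ l, 3 ≤ g.natDegree := fun g hg => by
    have hg2 := (h.mem_facts g (List.mem_cons_of_mem _ hg)).2.1
    by_contra hlt
    obtain ⟨α, hα⟩ := hst.low g (List.mem_cons_of_mem _ hg) (by omega)
    exact hnoroot α (eval_eq_zero_of_dvd_of_eval_eq_zero (hdvd g hg) (by rw [hα]; simp))
  obtain ⟨P, hPm, hPi, hPd⟩ := exists_monic_irreducible_factor f
    (not_isUnit_of_natDegree_pos f (by omega))
  obtain ⟨H, hH⟩ := hPd
  have hHm : H.Monic := hPm.of_mul_monic_left (hH ▸ hfm)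
  have hdeg : f.natDegree = P.natDegree + H.natDegree := by
    rw [hH, natDegree_mul hPm.ne_zero hHm.ne_zero]
  have hPnr : ∀ x, P.eval x ≠ 0 := fun x hx => hnoroot x (by rw [hH, eval_mul, hx, zero_mul])
  have hHnr : ∀ x, H.eval x ≠ 0 := fun x hx => hnoroot x (by rw [hH, eval_mul, hx, mul_zero])
  have hP2 : 2 ≤ P.natDegree := by
    by_contra hlt
    have h1 : P.natDegree = 1 := by have := hPi.natDegree_pos; omega
    refine hPnr (-P.coeff 0) ?_
    rw [hPm.eq_X_add_C h1]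
    simp
  have hH2 : 2 ≤ H.natDegree := by
    by_contra hlt
    rcases Nat.eq_zero_or_pos H.natDegree with h0 | h0
    · rw [hHm.natDegree_eq_zero.1 h0, mul_one] at hH
      exact hst.irr f hf (hH ▸ hPi)
    · refine hHnr (-H.coeff 0) ?_
      rw [hHm.eq_X_add_C (show H.natDegree = 1 by omega)]
      simp
  have hdvdPH : P ∣ H := by
    by_contra hndvd
    exact hst.coprime f hf P H hPm hHm hPi (by omega) (hPi.coprime_iff_not_dvd.2 hndvd) hH
  by_cases hH3 : H.natDegree = 2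
  · have hHi := deg_two_irreducible' hHm hH3 hHnr
    have hPH : P = H := eq_of_monic_of_associated hPm hHm (hPi.associated_of_dvd hHi hdvdPH)
    rw [← hPH] at hH hH3
    refine goodZ_noroot_square h4 h hdet hflex (fun g hg => ?_) hPm hPi hH3 hPnr hH
    have hgm := (h.mem_facts g (List.mem_cons_of_mem _ hg)).1
    have hg3 := hl3 g hg
    have hgd : g ∣ P ^ 2 := by rw [pow_two, ← hH]; exact hdvd g hg
    obtain ⟨i, hi, hass⟩ := (dvd_prime_pow hPi.prime 2).1 hgd
    have hgi := eq_of_monic_of_associated hgm (hPm.pow i) hass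
    rw [hgi, natDegree_pow, hH3] at hg3
    obtain rfl : i = 2 := by omega
    rw [hgi, pow_two, ← hH]
  obtain ⟨hP0, hH0⟩ := coeff_zero_mul' (hH ▸ hf0)
  obtain ⟨dP, hdP⟩ : ∃ k, P.natDegree = k + 2 := ⟨P.natDegree - 2, by omega⟩
  obtain ⟨dH, hdH⟩ : ∃ k, H.natDegree = k + 2 := ⟨H.natDegree - 2, by omega⟩
  have hPc := charpoly_comp (d := dP + 2) hPm hdP (by omega)
  have hHc := charpoly_comp (d := dH + 2) hHm hdH (by omega)
  obtain ⟨eA, pA, hA⟩ := sim_split c hPm hHm hdP hdH (by omega) (by omega) (hc.trans hH)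
  obtain ⟨eB, pB, hB⟩ := sim_split c hHm hPm hdH hdP (by omega) (by omega)
    (hc.trans (hH.trans (mul_comm P H)))
  have hflexP : Flex (comp (colOf (d := dP + 2) P)) := flex_comp_irreducible _ (by rw [hPc]; exact hPi)
  have h3 := h3_of_card h4
  have hN : DetIn Y (P.coeff 0 * H.coeff 0) := by
    rw [← mul_coeff_zero, ← hH]
    simpa [nrm] using h.nrm_mem hf hf0 (one_ne_zero (α := F))
  obtain ⟨t, R', hrest', -, ht, htv⟩ := rest_std h4 hrest hl0 (one_ne_zero (α := F))
    fun g hg => Or.inl (hl3 g hg)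
  have hlN : ∀ g ∈ l, DetIn Y (g.coeff 0) := fun g hg => by
    simpa [nrm] using h.nrm_mem (List.mem_cons_of_mem _ hg) (hl0 g hg) (one_ne_zero (α := F))
  have htN : ∀ x, ¬ DetIn Y x → t.count x = 0 := fun x hx => Multiset.count_eq_zero.2 fun hmem => hx <|
    (htv x hmem).elim (fun e => e ▸ DetIn.one Y) fun ⟨g, hg, e⟩ => by
      rw [e, topF_one]; exact (hlN g hg).sq
  have hGH := goodEx_piece h3 _ hHc hH0 (one_ne_zero (α := F)) (Or.inl (by omega))
  by_cases hi : ¬ DetIn Y (P.coeff 0 ^ 2) ∧ P.coeff 0 ^ 2 ≠ H.coeff 0 ^ 2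
  · have hne1 : P.coeff 0 ^ 2 ≠ 1 := fun e => hi.1 (e ▸ DetIn.one Y)
    obtain ⟨a₁, b₁, hGH⟩ := hGH
    have hGP := (goodEx_piece h3 _ hPc hP0 (one_ne_zero (α := F))
      (Or.inr (by rw [topF_one]; exact hne1))).flex hflexP
    have hS := GoodAll.join_right hGH hGP (zero_notMem_specF hP0 one_ne_zero)
      (fun x _ _ h1 h2 => h1.2 h2.1) pA
    refine noroot_finish hsim eA hA hS (fun h' => h'.elim (fun h => h.2 rfl) (fun h => h.2 rfl)) ?_ hrest'
      ht (x := P.coeff 0 ^ 2) ?_ (htN _ hi.1)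
    · simp only [Multiset.mem_add, not_or]
      exact ⟨zero_notMem_specF hH0 one_ne_zero, zero_notMem_specF hP0 one_ne_zero⟩
    · rw [Multiset.count_add, count_specF_zero (by rw [topF_one]; exact hi.2.symm) hne1.symm,
        count_specF_one (topF_one P) hne1.symm]
  by_cases hout : ∃ a : F, a ≠ 0 ∧ ¬ DetIn Y a ∧ a ≠ H.coeff 0 ^ 2 ∧ a ^ 2 ≠ P.coeff 0 ^ 2
  · obtain ⟨a, ha0, hna, hah, hap⟩ := hout
    have ha1 : a ≠ 1 := fun e => hna (e ▸ DetIn.one Y)
    have hb1 : spF P 1 a ≠ 1 := by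
      rw [spF_one, Ne, div_eq_one_iff_eq ha0]
      intro e
      exact hi ⟨by rw [e]; exact hna, by rw [e]; exact hah⟩
    have hba : spF P 1 a ≠ a := by
      rw [spF_one, Ne, div_eq_iff ha0, ← pow_two]
      exact fun e => hap e.symm
    obtain ⟨R, hSp, hR⟩ := goodEx_special h3 _ hPc hP0 ha0 one_ne_zero ha1 hb1 (Or.inr hba)
    obtain ⟨a₁, b₁, hGH⟩ := hGH
    have hS := GoodAll.join_left (hSp.flex hflexP) hGH (zero_notMem_specF hH0 one_ne_zero)
      (fun x _ _ h1 h2 => hR (by rwa [Set.mem_singleton_iff.1 h2.1] at h1)) pB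
    refine noroot_finish hsim eB hB hS (fun h' => h'.elim hR fun h => h.2 rfl) ?_ hrest' ht (x := a) ?_
      (htN a hna)
    · simp only [Multiset.mem_add, not_or]
      exact ⟨zero_notMem_special ha0 one_ne_zero
        (by rw [spF_one]; exact div_ne_zero (pow_ne_zero _ hP0) ha0) _, zero_notMem_specF hH0 one_ne_zero⟩
    · rw [Multiset.count_add, count_special hba ha1, count_specF_zero ?_ ha1.symm]
      rw [topF_one]; exact hah.symm
  obtain ⟨hp2, hh2, hN2⟩ := (exists_outside_two h4 hflex hP0 hH0 hN).resolve_left hout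
  have hm1 : (-1 : F) ≠ 1 := fun hm => by
    obtain ⟨a, ha0, hna, ha1⟩ := exists_outside h4 hflex 1
    refine hout ⟨a, ha0, hna, by rw [hh2, hm]; exact ha1, fun e => ?_⟩
    rw [hp2, hm, sq_eq_one_iff, hm, or_self] at e
    exact ha1 e
  set eP := P.coeff 0 with heP
  have ha1 : eP ≠ 1 := fun e => hm1 (by rw [← hp2, e, one_pow])
  have ham : eP ≠ -1 := fun e => hm1 (by rw [← hp2, e]; ring)
  have hb : spF H 1 eP = eP := by
    rw [spF_one, div_eq_iff hP0, hh2, ← pow_two, hp2]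
  obtain ⟨R, hSp, hR⟩ := goodEx_special h3 _ hHc hH0 hP0 one_ne_zero ha1 (by rw [hb]; exact ha1)
    (Or.inl (by omega))
  obtain ⟨a₁, b₁, hSp⟩ := hSp
  have hGP := (goodEx_piece h3 _ hPc hP0 (one_ne_zero (α := F))
    (Or.inr (by rw [topF_one, ← heP, hp2]; exact hm1))).flex hflexP
  have hS := GoodAll.join_right hSp hGP (zero_notMem_specF hP0 one_ne_zero)
    (fun x _ _ h1 h2 => hR (by rwa [Set.mem_singleton_iff.1 h2.1] at h1)) pA
  refine noroot_finish hsim eA hA hS (fun h' => h'.elim hR fun h => h.2 rfl) ?_ hrest' ht (x := -1) ?_ ?_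
  · simp only [Multiset.mem_add, not_or]
    exact ⟨zero_notMem_special hP0 one_ne_zero (by rw [hb]; exact hP0) _, zero_notMem_specF hP0 one_ne_zero⟩
  · rw [Multiset.count_add, count_specF_one (by rw [topF_one, ← heP, hp2]) hm1.symm, hb,
      Multiset.count_eq_zero.2]
    simp [ham.symm, Multiset.mem_replicate, hm1]
  · refine Multiset.count_eq_zero.2 fun hmem => hm1 ?_
    exact (htv _ hmem).elim id fun ⟨g, hg, e⟩ => by rw [e, topF_one]; exact hN2 _ (hlN g hg)

/-- Companion blocks only. -/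
theorem goodAll_zero (h4 : 4 ≤ Fintype.card F) {n : ℕ} (hn : 3 ≤ n) {Y : Matrix (Fin n) (Fin n) F}
    {l₀ : List F[X]} (h : Dec Y l₀) (hY : Y.det = 1) : GoodZ Y := by
  classical
  have hcoeff := h.coeff_ne (by rw [hY]; exact one_ne_zero)
  by_cases hflex : Flex Y
  · obtain ⟨s, R, L, hG, ⟨-, hs, -⟩, -⟩ := h.main h4 hcoeff one_ne_zero
    exact ⟨s, (hG.flex hflex).mono (Set.subset_univ _) (Set.subset_univ _), hs, Or.inl hflex⟩
  have hst := stiff_of_not_flex h hflex
  obtain ⟨f, l, rfl⟩ := List.exists_cons_of_ne_nil h.ne_nil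
  obtain ⟨hfm, hfd, -⟩ := h.mem_facts f (List.mem_cons_self ..)
  have root0 : ∀ g ∈ f :: l, ∀ α, g.eval α = 0 → α ≠ 0 := fun g hg α hα h0 => hcoeff g hg (by
    subst h0
    rwa [coeff_zero_eq_eval_zero])
  by_cases hf2 : f.natDegree = 2
  · obtain ⟨α, hα⟩ := hst.low f (List.mem_cons_self ..) hf2
    exact goodZ_double h4 hn h hflex (root0 f (List.mem_cons_self ..) α (by rw [hα]; simp))
      fun g hg => (h.all_eq_of_head hf2 g hg).trans hα
  by_cases hr : ∀ x, f.eval x ≠ 0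
  · exact goodZ_noroot h4 h hY hflex hr
  push Not at hr
  obtain ⟨α₀, hα₀⟩ := hr
  by_cases hlow : ∃ g ∈ l, g.natDegree = 2
  · obtain ⟨g, hg, hgd⟩ := hlow
    obtain ⟨α, hα⟩ := hst.low g (List.mem_cons_of_mem _ hg) hgd
    obtain ⟨m, d, e, Y', c, -, -, hann, hrest⟩ := h.top
    have hdvd : g ∣ f := (((nil_or_dec hrest hg).mem_facts g hg).2.2 f hann).2
    have hαr : g.eval α = 0 := by rw [hα]; simp
    exact goodZ_root h4 h hcoeff hflex (by omega) (root0 g (List.mem_cons_of_mem _ hg) α hαr)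
      (eval_eq_zero_of_dvd_of_eval_eq_zero hdvd hαr)
      fun g' hg' hd' => (h.low_eq g' (List.mem_cons_of_mem _ hg') g (List.mem_cons_of_mem _ hg) hd' hgd).trans hα
  · exact goodZ_root h4 h hcoeff hflex (by omega) (root0 f (List.mem_cons_self ..) α₀ hα₀) hα₀
      fun g hg hd => absurd ⟨g, hg, hd⟩ hlow

end CfsgLib.LevCover
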